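import Mathlib
import Cfsg.Agent.R2.H28.SL2.ExtY_m3
import Cfsg.Agent.R2.H28.SL2.Bas_m3
import Cfsg.Agent.R2.H22.P11_m3
import Cfsg.Agent.H65.E6Ext_m3
import Cfsg.Agent.H952.F4.Scott_m3
import Cfsg.Agent.H952.F4.Jord
import Cfsg.Agent.H944.E6TwE_m3
import Cfsg.Agent.H944.E6TwC
import Cfsg.Agent.R2.H22.NR_m3
import Cfsg.Agent.H65.E6Root_m3
import Cfsg.Agent.H179.SLC.Coc_m3
import Cfsg.Agent.FastGrp
import Cfsg.Agent.Prune
set_option linter.all false

section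
prune_inst 0x7f00000000000000000000000000000000000000000000000000000000000000000000000000000000000000000000000000000000000000000000000000000000000000000000000000000000000000003fffffffffffffffffffffffffffaeffbdfbfeffff

section
prune_inst 0xfdbdfcbaace9dfdfff7e3fa690cffc13810fffa6def943ffe049ff0b9f139009c16b8d09e010fc0ed7e01410b87843f97eeeffe86bd87ffffd1ff41ffbee0fe5f6b408519080240f3c0ff703f0778a6f000000000000000000000000000000000200000000

-- part: R2/H14/T/TB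
section
prune_inst 0x242004513162000000040094b3000281610004001000000002200d060040a022494200400a002500000200000801002000100020404000000e000400000601001090100470810008000080000080010000000000000000000000000000010000004010000
set_option linter.all false
open scoped Cfsg.Agent.FastGrp

-- part: R2/H14/T/Tri
section
/-!
# T-type: trilinear forms invariant under three commuting Lie algebras `sl₂` (helper14)

`V` has the basis `e c a b` (`c, a, b : Fin 3`), `e c · ·` spans `V₂ ⊗ V₂` for the digits `c + 1`, `c + 2`. `tri_main`: if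
the symmetric trilinear form `T` is invariant under the raising and lowering operators `E d`, `F d`, then it is invariant
under the torus `e c a b ↦ τ a (τ (2 - b))⁻¹ e c a b` with `τ 0 τ 1 τ 2 = 1`.
-/

set_option autoImplicit false

namespace Cfsg.Agent.R2.H14.T

variable {k : Type*} [Field k]

theorem ne01 : ∀ c : Fin 3, ¬ c = c + 1 := by decide
theorem ne02 : ∀ c : Fin 3, ¬ c = c + 2 := by decide
theorem ne21 : ∀ c : Fin 3, ¬ c + 2 = c + 1 := by decide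
theorem ne_0_11 : ∀ c : Fin 3, ¬ c = c + 1 + 1 := by decide
theorem eq_0_12 : ∀ c : Fin 3, c = c + 1 + 2 := by decide
theorem eq_0_21 : ∀ c : Fin 3, c = c + 2 + 1 := by decide
theorem ne_1_21 : ∀ c : Fin 3, ¬ c + 1 = c + 2 + 1 := by decide
theorem eq_1_22 : ∀ c : Fin 3, c + 1 = c + 2 + 2 := by decide
theorem eq_2_11 : ∀ c : Fin 3, c + 2 = c + 1 + 1 := by decide

/-- coefficients of the raising operator -/
def cE (k : Type*) [Field k] : Fin 3 → k := ![2, 1, 0]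

/-- coefficients of the lowering operator -/
def cF (k : Type*) [Field k] : Fin 3 → k := ![0, -1, -2]

/-- weights -/
def wt : Fin 3 → ℤ := ![-1, 0, 1]

variable {V : Type*} [AddCommGroup V] [Module k V]

/-- the action of raising and lowering operators on the basis -/
structure Ops (e : Fin 3 → Fin 3 → Fin 3 → V) (E F : Fin 3 → V →ₗ[k] V) : Prop where
  E1 : ∀ c a b, E (c + 1) (e c a b) = cE k a • e c (a + 1) b
  E2 : ∀ c a b, E (c + 2) (e c a b) = cE k b • e c a (b + 1)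
  E0 : ∀ c a b, E c (e c a b) = 0
  F1 : ∀ c a b, F (c + 1) (e c a b) = cF k a • e c (a - 1) b
  F2 : ∀ c a b, F (c + 2) (e c a b) = cF k b • e c a (b - 1)
  F0 : ∀ c a b, F c (e c a b) = 0

/-- the form is symmetric and invariant -/
structure Inv (T : V →ₗ[k] V →ₗ[k] V →ₗ[k] k) (E F : Fin 3 → V →ₗ[k] V) : Prop where
  s12 : ∀ x y z, T x y z = T y x z
  s23 : ∀ x y z, T x y z = T x z y
  iE : ∀ d x y z, T (E d x) y z + T x (E d y) z + T x y (E d z) = 0
  iF : ∀ d x y z, T (F d x) y z + T x (F d y) z + T x y (F d z) = 0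

variable {e : Fin 3 → Fin 3 → Fin 3 → V} {E F : Fin 3 → V →ₗ[k] V} {T : V →ₗ[k] V →ₗ[k] V →ₗ[k] k}

/-- the commutators -/
theorem Inv.iH (I : Inv T E F) (d : Fin 3) (x y z : V) :
    T (E d (F d x) - F d (E d x)) y z + T x (E d (F d y) - F d (E d y)) z + T x y (E d (F d z) - F d (E d z)) = 0 := by
  have h1 := I.iE d (F d x) y z
  have h2 := I.iE d x (F d y) z
  have h3 := I.iE d x y (F d z)
  have h4 := I.iF d (E d x) y z
  have h5 := I.iF d x (E d y) z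
  have h6 := I.iF d x y (E d z)
  simp only [map_sub, LinearMap.sub_apply]
  linear_combination h1 + h2 + h3 - h4 - h5 - h6

theorem cE_cF (a : Fin 3) : cF k a * cE k (a - 1) - cE k a * cF k (a + 1) = -(2 * (wt a : k)) := by
  fin_cases a
  · show (0 : k) * cE k (0 - 1) - 2 * cF k (0 + 1) = -(2 * ((-1 : ℤ) : k))
    rw [show (0 + 1 : Fin 3) = 1 from rfl]
    show (0 : k) * _ - 2 * (-1) = _
    push_cast
    ring
  · show (-1 : k) * cE k (1 - 1) - 1 * cF k (1 + 1) = -(2 * ((0 : ℤ) : k))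
    rw [show (1 - 1 : Fin 3) = 0 from rfl, show (1 + 1 : Fin 3) = 2 from rfl]
    show (-1 : k) * 2 - 1 * (-2) = _
    push_cast
    ring
  · show (-2 : k) * cE k (2 - 1) - 0 * cF k (2 + 1) = -(2 * ((1 : ℤ) : k))
    rw [show (2 - 1 : Fin 3) = 1 from rfl]
    show (-2 : k) * 1 - 0 * _ = _
    push_cast
    ring

/-- the weight of the basis vector for the digit `d` -/
def wd (d : Fin 3) (c a b : Fin 3) : ℤ := if d = c + 1 then wt a else if d = c + 2 then wt b else 0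

theorem Ops.H (O : Ops e E F) (d c a b : Fin 3) :
    E d (F d (e c a b)) - F d (E d (e c a b)) = (-(2 * (wd d c a b : k))) • e c a b := by
  have h3 : ∀ d c : Fin 3, d = c ∨ d = c + 1 ∨ d = c + 2 := by decide
  rcases h3 d c with rfl | rfl | rfl
  · rw [O.F0, O.E0, map_zero, map_zero, sub_zero]
    have h1 : wd d d a b = 0 := by
      unfold wd
      rw [if_neg (ne01 d), if_neg (ne02 d)]
    rw [h1, Int.cast_zero, mul_zero, neg_zero, zero_smul]
  · rw [O.F1, O.E1, map_smul, map_smul, O.E1, O.F1, smul_smul, smul_smul, sub_add_cancel, add_sub_cancel_right,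
      ← sub_smul, cE_cF]
    unfold wd
    rw [if_pos rfl]
  · rw [O.F2, O.E2, map_smul, map_smul, O.E2, O.F2, smul_smul, smul_smul, sub_add_cancel, add_sub_cancel_right,
      ← sub_smul, cE_cF]
    unfold wd
    rw [if_neg (ne21 c), if_pos rfl]

theorem small_zero (h2 : (2 : k) ≠ 0) (h3 : (3 : k) ≠ 0) {n : ℤ} (hn : -3 ≤ n) (hn' : n ≤ 3) (h : (n : k) = 0) :
    n = 0 := by
  interval_cases n
  · exfalso
    push_cast at h
    exact h3 (neg_eq_zero.1 h)
  · exfalso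
    push_cast at h
    exact h2 (neg_eq_zero.1 h)
  · exfalso
    push_cast at h
    exact one_ne_zero (neg_eq_zero.1 h)
  · rfl
  · exfalso
    push_cast at h
    exact one_ne_zero h
  · exfalso
    push_cast at h
    exact h2 h
  · exfalso
    push_cast at h
    exact h3 h

theorem wt_bd (a : Fin 3) : -1 ≤ wt a ∧ wt a ≤ 1 := by
  revert a
  decide

theorem wt_zero : ∀ a : Fin 3, wt a = 0 → a = 1 := by decide

theorem wt_opp : ∀ a b : Fin 3, wt a + wt b = 0 → a = 2 - b := by decide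

theorem wd_bd (d c a b : Fin 3) : -1 ≤ wd d c a b ∧ wd d c a b ≤ 1 := by
  revert d c a b
  decide +kernel

section

variable (O : Ops e E F) (I : Inv T E F) (h2 : (2 : k) ≠ 0) (h3 : (3 : k) ≠ 0)

include O I h2 h3

/-- the weights -/
theorem wd_zero {c₁ a₁ b₁ c₂ a₂ b₂ c₃ a₃ b₃ : Fin 3} (h : T (e c₁ a₁ b₁) (e c₂ a₂ b₂) (e c₃ a₃ b₃) ≠ 0) (d : Fin 3) :
    wd d c₁ a₁ b₁ + wd d c₂ a₂ b₂ + wd d c₃ a₃ b₃ = 0 := by
  have h1 := I.iH d (e c₁ a₁ b₁) (e c₂ a₂ b₂) (e c₃ a₃ b₃)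
  rw [O.H, O.H, O.H] at h1
  simp only [map_smul, LinearMap.smul_apply, smul_eq_mul] at h1
  have h4 : (2 : k) * ((wd d c₁ a₁ b₁ + wd d c₂ a₂ b₂ + wd d c₃ a₃ b₃ : ℤ) : k) *
      T (e c₁ a₁ b₁) (e c₂ a₂ b₂) (e c₃ a₃ b₃) = 0 := by
    push_cast
    linear_combination -h1
  have h5 := (mul_eq_zero.1 ((mul_eq_zero.1 h4).resolve_right h)).resolve_left h2
  have b1 := wd_bd d c₁ a₁ b₁
  have b2 := wd_bd d c₂ a₂ b₂
  have b3 := wd_bd d c₃ a₃ b₃
  exact small_zero h2 h3 (by omega) (by omega) h5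

omit O in
/-- the invariants of `V₂ ⊗ V₂ ⊗ V₂` : first digit -/
theorem one_one {f₁ f₂ f₃ : Fin 3 → V} {d : Fin 3} (e1 : ∀ a, E d (f₁ a) = cE k a • f₁ (a + 1))
    (e2 : ∀ a, E d (f₂ a) = cE k a • f₂ (a + 1)) (e3 : ∀ a, E d (f₃ a) = cE k a • f₃ (a + 1)) :
    T (f₁ 1) (f₂ 1) (f₃ 1) = 0 := by
  have R : ∀ a b c, cE k a * T (f₁ (a + 1)) (f₂ b) (f₃ c) + cE k b * T (f₁ a) (f₂ (b + 1)) (f₃ c) +
      cE k c * T (f₁ a) (f₂ b) (f₃ (c + 1)) = 0 := by
    intro a b c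
    have h1 := I.iE d (f₁ a) (f₂ b) (f₃ c)
    rw [e1, e2, e3] at h1
    simpa only [map_smul, LinearMap.smul_apply, smul_eq_mul] using h1
  have c0 : cE k 0 = 2 := rfl
  have c1 : cE k 1 = 1 := rfl
  have c2 : cE k 2 = 0 := rfl
  have a01 : (0 + 1 : Fin 3) = 1 := rfl
  have a11 : (1 + 1 : Fin 3) = 2 := rfl
  have r1 := R 0 1 1
  have r2 := R 1 0 1
  have r3 := R 1 1 0
  have r4 := R 0 0 2
  have r5 := R 0 2 0
  have r6 := R 2 0 0
  rw [c0, c1, a01, a11] at r1 r2 r3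
  rw [c0, c2, a01] at r4 r5 r6
  have h6 : (6 : k) ≠ 0 := by
    have : (6 : k) = 2 * 3 := by norm_num
    rw [this]
    exact mul_ne_zero h2 h3
  have h7 : (2 : k) * ((6 : k) * T (f₁ 1) (f₂ 1) (f₃ 1)) = 0 := by
    linear_combination 2 * r1 + 2 * r2 + 2 * r3 - r4 - r5 - r6
  exact (mul_eq_zero.1 ((mul_eq_zero.1 h7).resolve_left h2)).resolve_left h6

/-- the mixed terms vanish -/
theorem mixed1 {c a₁ b₁ a₂ b₂ a₃ b₃ : Fin 3} : T (e c a₁ b₁) (e c a₂ b₂) (e (c + 1) a₃ b₃) = 0 := by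
  by_contra h
  have h1 := wd_zero O I h2 h3 h c
  have w0 : ∀ a b, wd c c a b = 0 := by
    intro a b
    unfold wd
    rw [if_neg (ne01 c), if_neg (ne02 c)]
  have w1 : wd c (c + 1) a₃ b₃ = wt b₃ := by
    unfold wd
    rw [if_neg (ne_0_11 c), if_pos (eq_0_12 c)]
  rw [w0, w0, w1, zero_add, zero_add] at h1
  obtain rfl : b₃ = 1 := wt_zero b₃ h1
  have h5 := I.iE c (e c a₁ b₁) (e c a₂ b₂) (e (c + 1) a₃ 0)
  have h6 := O.E2 (c + 1) a₃ 0
  rw [← eq_0_12, show (0 + 1 : Fin 3) = 1 from rfl] at h6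
  rw [O.E0, O.E0, h6] at h5
  simp only [map_smul, LinearMap.zero_apply, map_zero, smul_eq_mul, zero_add] at h5
  exact h ((mul_eq_zero.1 h5).resolve_left h2)

theorem mixed2 {c a₁ b₁ a₂ b₂ a₃ b₃ : Fin 3} : T (e c a₁ b₁) (e c a₂ b₂) (e (c + 2) a₃ b₃) = 0 := by
  by_contra h
  have h1 := wd_zero O I h2 h3 h c
  have w0 : ∀ a b, wd c c a b = 0 := by
    intro a b
    unfold wd
    rw [if_neg (ne01 c), if_neg (ne02 c)]
  have w1 : wd c (c + 2) a₃ b₃ = wt a₃ := by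
    unfold wd
    rw [if_pos (eq_0_21 c)]
  rw [w0, w0, w1, zero_add, zero_add] at h1
  obtain rfl : a₃ = 1 := wt_zero a₃ h1
  have h5 := I.iE c (e c a₁ b₁) (e c a₂ b₂) (e (c + 2) 0 b₃)
  have h6 := O.E1 (c + 2) 0 b₃
  rw [← eq_0_21, show (0 + 1 : Fin 3) = 1 from rfl] at h6
  rw [O.E0, O.E0, h6] at h5
  simp only [map_smul, LinearMap.zero_apply, map_zero, smul_eq_mul, zero_add] at h5
  exact h ((mul_eq_zero.1 h5).resolve_left h2)

omit O I h2 h3 in
theorem perm3 {τ : Fin 3 → k} (hτ : τ 0 * τ 1 * τ 2 = 1) {a b c : Fin 3} (h : wt a + wt b + wt c = 0)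
    (h1 : ¬ (a = 1 ∧ b = 1 ∧ c = 1)) : τ a * τ b * τ c = 1 := by
  have key : ∀ a b c : Fin 3, wt a + wt b + wt c = 0 → ¬ (a = 1 ∧ b = 1 ∧ c = 1) →
      (a = 0 ∧ b = 1 ∧ c = 2) ∨ (a = 0 ∧ b = 2 ∧ c = 1) ∨ (a = 1 ∧ b = 0 ∧ c = 2) ∨ (a = 1 ∧ b = 2 ∧ c = 0) ∨
      (a = 2 ∧ b = 0 ∧ c = 1) ∨ (a = 2 ∧ b = 1 ∧ c = 0) := by decide
  rcases key a b c h h1 with ⟨rfl, rfl, rfl⟩ | ⟨rfl, rfl, rfl⟩ | ⟨rfl, rfl, rfl⟩ | ⟨rfl, rfl, rfl⟩ | ⟨rfl, rfl, rfl⟩ |
    ⟨rfl, rfl, rfl⟩ <;> linear_combination hτ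

omit O I h2 h3 in
theorem perm3' {τ : Fin 3 → k} (hτ : τ 0 * τ 1 * τ 2 = 1) {a b c : Fin 3} (h : wt a + wt b + wt c = 0)
    (h1 : ¬ (a = 1 ∧ b = 1 ∧ c = 1)) : (τ (2 - a))⁻¹ * (τ (2 - b))⁻¹ * (τ (2 - c))⁻¹ = 1 := by
  have key1 : ∀ a b c : Fin 3, wt a + wt b + wt c = 0 → wt (2 - a) + wt (2 - b) + wt (2 - c) = 0 := by decide
  have key2 : ∀ a b c : Fin 3, ¬ (a = 1 ∧ b = 1 ∧ c = 1) → ¬ (2 - a = 1 ∧ 2 - b = 1 ∧ 2 - c = 1) := by decide
  have h2 := perm3 hτ (key1 a b c h) (key2 a b c h1)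
  rw [← mul_inv, ← mul_inv, h2, inv_one]

/-- the same submodule -/
theorem same {τ : Fin 3 → k} (hτ : τ 0 * τ 1 * τ 2 = 1) {c a₁ b₁ a₂ b₂ a₃ b₃ : Fin 3}
    (h : T (e c a₁ b₁) (e c a₂ b₂) (e c a₃ b₃) ≠ 0) :
    (τ a₁ * (τ (2 - b₁))⁻¹) * (τ a₂ * (τ (2 - b₂))⁻¹) * (τ a₃ * (τ (2 - b₃))⁻¹) = 1 := by
  have h4 := wd_zero O I h2 h3 h (c + 1)
  have h5 := wd_zero O I h2 h3 h (c + 2)
  have w1 : ∀ a b, wd (c + 1) c a b = wt a := by
    intro a b
    unfold wd
    rw [if_pos rfl]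
  have w2 : ∀ a b, wd (c + 2) c a b = wt b := by
    intro a b
    unfold wd
    rw [if_neg (ne21 c), if_pos rfl]
  rw [w1, w1, w1] at h4
  rw [w2, w2, w2] at h5
  have h6 := perm3 hτ h4 (by
    rintro ⟨rfl, rfl, rfl⟩
    exact h (one_one I h2 h3 (f₁ := fun a => e c a b₁) (f₂ := fun a => e c a b₂) (f₃ := fun a => e c a b₃) (d := c + 1)
      (fun a => O.E1 c a b₁) (fun a => O.E1 c a b₂) (fun a => O.E1 c a b₃)))
  have h7 := perm3' hτ h5 (by
    rintro ⟨rfl, rfl, rfl⟩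
    exact h (one_one I h2 h3 (f₁ := fun b => e c a₁ b) (f₂ := fun b => e c a₂ b) (f₃ := fun b => e c a₃ b) (d := c + 2)
      (fun b => O.E2 c a₁ b) (fun b => O.E2 c a₂ b) (fun b => O.E2 c a₃ b)))
  calc (τ a₁ * (τ (2 - b₁))⁻¹) * (τ a₂ * (τ (2 - b₂))⁻¹) * (τ a₃ * (τ (2 - b₃))⁻¹)
      = (τ a₁ * τ a₂ * τ a₃) * ((τ (2 - b₁))⁻¹ * (τ (2 - b₂))⁻¹ * (τ (2 - b₃))⁻¹) := by ring
    _ = 1 := by rw [h6, h7, mul_one]

/-- the three submodules -/
theorem dist {τ : Fin 3 → k} (hτ : ∀ a, τ a ≠ 0) {c a₁ b₁ a₂ b₂ a₃ b₃ : Fin 3}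
    (h : T (e c a₁ b₁) (e (c + 1) a₂ b₂) (e (c + 2) a₃ b₃) ≠ 0) :
    (τ a₁ * (τ (2 - b₁))⁻¹) * (τ a₂ * (τ (2 - b₂))⁻¹) * (τ a₃ * (τ (2 - b₃))⁻¹) = 1 := by
  have h4 := wd_zero O I h2 h3 h c
  have h5 := wd_zero O I h2 h3 h (c + 1)
  have h6 := wd_zero O I h2 h3 h (c + 2)
  have w00 : wd c c a₁ b₁ = 0 := by unfold wd; rw [if_neg (ne01 c), if_neg (ne02 c)]
  have w01 : wd c (c + 1) a₂ b₂ = wt b₂ := by unfold wd; rw [if_neg (ne_0_11 c), if_pos (eq_0_12 c)]
  have w02 : wd c (c + 2) a₃ b₃ = wt a₃ := by unfold wd; rw [if_pos (eq_0_21 c)]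
  have w10 : wd (c + 1) c a₁ b₁ = wt a₁ := by unfold wd; rw [if_pos rfl]
  have w11 : wd (c + 1) (c + 1) a₂ b₂ = 0 := by unfold wd; rw [if_neg (ne01 _), if_neg (ne02 _)]
  have w12 : wd (c + 1) (c + 2) a₃ b₃ = wt b₃ := by unfold wd; rw [if_neg (ne_1_21 c), if_pos (eq_1_22 c)]
  have w20 : wd (c + 2) c a₁ b₁ = wt b₁ := by unfold wd; rw [if_neg (ne21 c), if_pos rfl]
  have w21 : wd (c + 2) (c + 1) a₂ b₂ = wt a₂ := by unfold wd; rw [if_pos (eq_2_11 c)]
  have w22 : wd (c + 2) (c + 2) a₃ b₃ = 0 := by unfold wd; rw [if_neg (ne01 _), if_neg (ne02 _)]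
  rw [w00, w01, w02, zero_add, add_comm] at h4
  rw [w10, w11, w12, add_zero] at h5
  rw [w20, w21, w22, add_zero, add_comm] at h6
  have k1 : a₃ = 2 - b₂ := wt_opp _ _ h4
  have k2 : a₁ = 2 - b₃ := wt_opp _ _ h5
  have k3 : a₂ = 2 - b₁ := wt_opp _ _ h6
  rw [k1, k2, k3]
  have n1 := hτ (2 - b₁)
  have n2 := hτ (2 - b₂)
  have n3 := hτ (2 - b₃)
  field_simp

/-- **the torus** -/
theorem tri_main {τ : Fin 3 → k} (hτ0 : ∀ a, τ a ≠ 0) (hτ : τ 0 * τ 1 * τ 2 = 1) {c₁ a₁ b₁ c₂ a₂ b₂ c₃ a₃ b₃ : Fin 3}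
    (h : T (e c₁ a₁ b₁) (e c₂ a₂ b₂) (e c₃ a₃ b₃) ≠ 0) :
    (τ a₁ * (τ (2 - b₁))⁻¹) * (τ a₂ * (τ (2 - b₂))⁻¹) * (τ a₃ * (τ (2 - b₃))⁻¹) = 1 := by
  have key : ∀ c₁ c₂ c₃ : Fin 3, (c₂ = c₁ ∧ c₃ = c₁) ∨ (c₂ = c₁ ∧ c₃ = c₁ + 1) ∨ (c₂ = c₁ ∧ c₃ = c₁ + 2) ∨
      (c₂ = c₁ + 1 ∧ c₃ = c₁ + 2) ∨ (c₂ = c₁ + 2 ∧ c₃ = c₁ + 1) ∨ (c₃ = c₁ ∧ c₂ = c₁ + 1) ∨ (c₃ = c₁ ∧ c₂ = c₁ + 2) ∨
      (c₃ = c₂ ∧ c₁ = c₂ + 1) ∨ (c₃ = c₂ ∧ c₁ = c₂ + 2) := by decide
  rcases key c₁ c₂ c₃ with ⟨rfl, rfl⟩ | ⟨rfl, rfl⟩ | ⟨rfl, rfl⟩ | ⟨rfl, rfl⟩ | ⟨rfl, rfl⟩ | ⟨rfl, rfl⟩ | ⟨rfl, rfl⟩ |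
    ⟨rfl, rfl⟩ | ⟨rfl, rfl⟩
  · exact same O I h2 h3 hτ h
  · exact absurd (mixed1 O I h2 h3) h
  · exact absurd (mixed2 O I h2 h3) h
  · exact dist O I h2 h3 hτ0 h
  · rw [I.s23] at h
    have h4 := dist O I h2 h3 hτ0 h
    linear_combination h4
  · rw [I.s23] at h
    exact absurd (mixed1 O I h2 h3) h
  · rw [I.s23] at h
    exact absurd (mixed2 O I h2 h3) h
  · rw [I.s12, I.s23] at h
    exact absurd (mixed1 O I h2 h3) h
  · rw [I.s12, I.s23] at h
    exact absurd (mixed2 O I h2 h3) h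

end

end Cfsg.Agent.R2.H14.T
end

-- part: R2/H14/T/NT
section
/-!
# T-type: digits (helper14)
-/

set_option autoImplicit false
set_option linter.unusedSectionVars false

namespace Cfsg.Agent.R2.H14.T

open Cfsg.Agent.R2.H28.SL2

theorem dg_zero_add {p x Y : ℕ} (hx : x < p) : (x + p * Y) / p ^ 0 % p = x := by
  rw [pow_zero, Nat.div_one, Nat.add_mul_mod_self_left, Nat.mod_eq_of_lt hx]

theorem dg_succ_add {p x Y l : ℕ} (hx : x < p) : (x + p * Y) / p ^ (l + 1) % p = Y / p ^ l % p := by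
  rw [pow_succ', ← Nat.div_div_eq_div_mul, Nat.add_mul_div_left _ _ (by omega), Nat.div_eq_of_lt hx, zero_add]

theorem dg_two {p : ℕ} (hp : 1 < p) {x y : ℕ} (hx : x < p) (hy : y < p) {i j : ℕ} (hij : i ≠ j) (l : ℕ) :
    (x * p ^ i + y * p ^ j) / p ^ l % p = if l = i then x else if l = j then y else 0 := by
  induction i generalizing j l x y with
  | zero =>
    obtain ⟨j, rfl⟩ : ∃ j', j = j' + 1 := ⟨j - 1, by omega⟩
    have e : x * p ^ 0 + y * p ^ (j + 1) = x + p * (y * p ^ j) := by ring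
    rw [e]
    cases l with
    | zero => rw [dg_zero_add hx, if_pos rfl]
    | succ l =>
      rw [dg_succ_add hx, dg_single hp hy, if_neg (Nat.succ_ne_zero l)]
      by_cases h : l = j
      · rw [if_pos h, if_pos (by omega)]
      · rw [if_neg h, if_neg (by omega)]
  | succ i ih =>
    cases j with
    | zero =>
      have e : x * p ^ (i + 1) + y * p ^ 0 = y + p * (x * p ^ i) := by ring
      rw [e]
      cases l with
      | zero => rw [dg_zero_add hy, if_neg (by omega), if_pos rfl]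
      | succ l =>
        rw [dg_succ_add hy, dg_single hp hx]
        by_cases h : l = i
        · rw [if_pos h, if_pos (by omega)]
        · rw [if_neg h, if_neg (by omega), if_neg (by omega)]
    | succ j =>
      have e : x * p ^ (i + 1) + y * p ^ (j + 1) = 0 + p * (x * p ^ i + y * p ^ j) := by ring
      rw [e]
      cases l with
      | zero => rw [dg_zero_add (by omega), if_neg (by omega), if_neg (by omega)]
      | succ l =>
        rw [dg_succ_add (by omega), ih (j := j) hx hy (by omega)]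
        by_cases h : l = i
        · rw [if_pos h, if_pos (by omega)]
        · rw [if_neg h, if_neg (show ¬ l + 1 = i + 1 by omega)]
          by_cases h' : l = j
          · rw [if_pos h', if_pos (by omega)]
          · rw [if_neg h', if_neg (by omega)]

/-- `C(n, p ^ i)` is the digit of `n` -/
theorem choose_pow (k : Type*) [Field k] {p : ℕ} [Fact p.Prime] [CharP k p] (n i : ℕ) :
    ((n.choose (p ^ i) : ℕ) : k) = ((n / p ^ i % p : ℕ) : k) := by
  have hp : p.Prime := Fact.out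
  have h1 := Choose.choose_modEq_prod_range_choose_nat (p := p) (a := n + i + 1) (n := n) (k := p ^ i)
    (lt_of_lt_of_le (Nat.lt_pow_self hp.one_lt) (Nat.pow_le_pow_right hp.pos (by omega)))
    (Nat.pow_lt_pow_right hp.one_lt (by omega))
  have h2 : ∏ l ∈ Finset.range (n + i + 1), (n / p ^ l % p).choose (p ^ i / p ^ l % p) = n / p ^ i % p := by
    rw [Finset.prod_eq_single i]
    · have := dg_single hp.one_lt (c := 1) hp.one_lt i i
      rw [one_mul, if_pos rfl] at this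
      rw [this, Nat.choose_one_right]
    · intro l _ hl
      have := dg_single hp.one_lt (c := 1) hp.one_lt i l
      rw [one_mul, if_neg hl] at this
      rw [this, Nat.choose_zero_right]
    · intro h
      exact absurd (Finset.mem_range.2 (by omega)) h
  rw [h2] at h1
  exact (CharP.cast_eq_iff_mod_eq k p).2 h1

/-- powers of different digits -/
theorem lin2 {p : ℕ} (hp5 : 3 ≤ p) {i j : ℕ} (hij : i ≠ j) {x y : ℤ} (hx : -2 ≤ x) (hx' : x ≤ 2) (hy : -2 ≤ y)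
    (hy' : y ≤ 2) (h : x * (p : ℤ) ^ i + y * (p : ℤ) ^ j = 0) : x = 0 ∧ y = 0 := by
  have key : ∀ (i j : ℕ) (x y : ℤ), i < j → -2 ≤ x → x ≤ 2 → x * (p : ℤ) ^ i + y * (p : ℤ) ^ j = 0 → x = 0 ∧ y = 0 := by
    intro i j x y hij hx hx' h
    obtain ⟨d, rfl⟩ : ∃ d, j = i + (d + 1) := ⟨j - i - 1, by omega⟩
    have hpp : (0 : ℤ) < (p : ℤ) := by omega
    have hpi : (p : ℤ) ^ i ≠ 0 := (pow_pos hpp i).ne'
    have h1 : (x + y * (p : ℤ) ^ d * p) * (p : ℤ) ^ i = 0 := by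
      rw [← h]
      ring
    have h2 : x + y * (p : ℤ) ^ d * p = 0 := (mul_eq_zero.1 h1).resolve_right hpi
    have h3 : (p : ℤ) ∣ x := ⟨-(y * (p : ℤ) ^ d), by linear_combination h2⟩
    have h4 : x = 0 := by
      by_contra hne
      have h5 := Int.le_of_dvd (abs_pos.2 hne) ((dvd_abs _ _).2 h3)
      have h6 : |x| ≤ 2 := abs_le.2 ⟨hx, hx'⟩
      omega
    refine ⟨h4, ?_⟩
    rw [h4, zero_add] at h2
    have h5 := (mul_eq_zero.1 h2).resolve_right hpp.ne'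
    exact (mul_eq_zero.1 h5).resolve_right (pow_pos hpp d).ne'
  rcases Nat.lt_or_gt_of_ne hij with h1 | h1
  · exact key i j x y h1 hx hx' h
  · have h2 := key j i y x h1 hy hy' (by rw [← h]; ring)
    exact ⟨h2.2, h2.1⟩

/-- three distinct digits -/
structure Dg3 (p a : ℕ) (i : Fin 3 → ℕ) : Prop where
  odd : p = 3 ∨ 5 ≤ p
  inj : Function.Injective i
  lt : ∀ c, i c < a

section

variable {p a : ℕ} {i : Fin 3 → ℕ} (D : Dg3 p a i)

include D

theorem Dg3.three : 3 ≤ p := by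
  have := D.odd
  omega

theorem Dg3.three_le : 3 ≤ a := by
  by_contra hc
  have h0 := D.lt 0
  have h1 := D.lt 1
  have h2 := D.lt 2
  have n1 : i 0 ≠ i 1 := fun h => absurd (D.inj h) (by decide)
  have n2 : i 0 ≠ i 2 := fun h => absurd (D.inj h) (by decide)
  have n3 : i 1 ≠ i 2 := fun h => absurd (D.inj h) (by decide)
  omega

theorem Dg3.sum_le {j l : ℕ} (hj : j < a) (hl : l < a) (hjl : j ≠ l) : p ^ j + p ^ l ≤ p ^ (a - 2) + p ^ (a - 1) := by
  have h5 := D.three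
  have ha := D.three_le
  have key : ∀ j l : ℕ, j < l → l < a → p ^ j + p ^ l ≤ p ^ (a - 2) + p ^ (a - 1) := by
    intro j l hjl hl
    exact Nat.add_le_add (Nat.pow_le_pow_right (by omega) (by omega)) (Nat.pow_le_pow_right (by omega) (by omega))
  rcases Nat.lt_or_gt_of_ne hjl with h | h
  · exact key j l h hl
  · rw [add_comm]
    exact key l j h hj

theorem Dg3.bound {j l : ℕ} (hj : j < a) (hl : l < a) (hjl : j ≠ l) : 2 * (p ^ j + p ^ l) < p ^ a - 1 := by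
  have h5 := D.three
  have ha := D.three_le
  have h1 := D.sum_le hj hl hjl
  obtain ⟨m, rfl⟩ : ∃ m, a = m + 3 := ⟨a - 3, by omega⟩
  rw [show m + 3 - 2 = m + 1 by omega, show m + 3 - 1 = m + 2 by omega] at h1
  have h2 : 3 ≤ p ^ (m + 1) := by
    calc 3 ≤ p := h5
      _ = p ^ 1 := (pow_one p).symm
      _ ≤ p ^ (m + 1) := Nat.pow_le_pow_right (by omega) (by omega)
  obtain ⟨X, hX⟩ : ∃ X, X = p ^ (m + 1) := ⟨_, rfl⟩
  rw [show p ^ (m + 2) = X * p by rw [hX]; ring, ← hX] at h1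
  rw [show p ^ (m + 3) = X * (p * p) by rw [hX]; ring]
  rw [← hX] at h2
  obtain ⟨P, rfl⟩ : ∃ P, p = P + 3 := ⟨p - 3, by omega⟩
  have e1 : X * ((P + 3) * (P + 3)) = X * P * P + 6 * (X * P) + 9 * X := by ring
  have e2 : X * (P + 3) = X * P + 3 * X := by ring
  rw [e1]
  rw [e2] at h1
  (clear * - h2 h1; omega)

theorem Dg3.bound4 (hp5 : 5 ≤ p) {j l : ℕ} (hj : j < a) (hl : l < a) (hjl : j ≠ l) :
    4 * (p ^ j + p ^ l) < p ^ a - 1 := by
  have ha := D.three_le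
  have h1 := D.sum_le hj hl hjl
  obtain ⟨m, rfl⟩ : ∃ m, a = m + 3 := ⟨a - 3, by omega⟩
  rw [show m + 3 - 2 = m + 1 by omega, show m + 3 - 1 = m + 2 by omega] at h1
  have h2 : 5 ≤ p ^ (m + 1) := by
    calc 5 ≤ p := hp5
      _ = p ^ 1 := (pow_one p).symm
      _ ≤ p ^ (m + 1) := Nat.pow_le_pow_right (by omega) (by omega)
  obtain ⟨X, hX⟩ : ∃ X, X = p ^ (m + 1) := ⟨_, rfl⟩
  rw [show p ^ (m + 2) = X * p by rw [hX]; ring, ← hX] at h1
  rw [show p ^ (m + 3) = X * (p * p) by rw [hX]; ring]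
  rw [← hX] at h2
  obtain ⟨P, rfl⟩ : ∃ P, p = P + 5 := ⟨p - 5, by omega⟩
  have e1 : X * ((P + 5) * (P + 5)) = X * P * P + 10 * (X * P) + 25 * X := by ring
  have e2 : X * (P + 5) = X * P + 5 * X := by ring
  rw [e1]
  rw [e2] at h1
  (clear * - h2 h1; omega)

theorem Dg3.ne1 (c : Fin 3) : i (c + 1) ≠ i (c + 2) := fun h => ne21 c (D.inj h).symm

/-- the weights -/
def W (p : ℕ) (i : Fin 3 → ℕ) (c a b : Fin 3) : ℤ := 2 * (wt a * (p : ℤ) ^ i (c + 1) + wt b * (p : ℤ) ^ i (c + 2))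

theorem Dg3.boundZ {j l : ℕ} (hj : j < a) (hl : l < a) (hjl : j ≠ l) :
    2 * ((p : ℤ) ^ j + (p : ℤ) ^ l) < ((p ^ a - 1 : ℕ) : ℤ) := by
  have h := D.bound hj hl hjl
  have h1 : ((2 * (p ^ j + p ^ l) : ℕ) : ℤ) < ((p ^ a - 1 : ℕ) : ℤ) := Int.ofNat_lt.2 h
  push_cast at h1 ⊢
  exact h1

theorem Dg3.boundZ4 (hp5 : 5 ≤ p) {j l : ℕ} (hj : j < a) (hl : l < a) (hjl : j ≠ l) :
    4 * ((p : ℤ) ^ j + (p : ℤ) ^ l) < ((p ^ a - 1 : ℕ) : ℤ) := by
  have h := D.bound4 hp5 hj hl hjl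
  have h1 : ((4 * (p ^ j + p ^ l) : ℕ) : ℤ) < ((p ^ a - 1 : ℕ) : ℤ) := Int.ofNat_lt.2 h
  push_cast at h1 ⊢
  exact h1

omit D in
/-- `p = 3` -/
theorem three_aux {a i j : ℕ} (ha : 3 ≤ a) (hij : i < j) {x y : ℤ} (hx : -2 ≤ x) (hx' : x ≤ 2) (hy : -2 ≤ y)
    (hy' : y ≤ 2) (h : 2 * (x * 3 ^ i + y * 3 ^ j) = 3 ^ a - 1) : False := by
  obtain ⟨m, rfl⟩ : ∃ m, a = m + 3 := ⟨a - 3, by omega⟩
  obtain ⟨d, rfl⟩ : ∃ d, j = d + 1 := ⟨j - 1, by omega⟩
  have e3 : (3 : ℤ) ^ (m + 3) = 3 * (3 * (3 * 3 ^ m)) := by ring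
  have ej : (3 : ℤ) ^ (d + 1) = 3 * 3 ^ d := by ring
  have hm : (1 : ℤ) ≤ 3 ^ m := one_le_pow₀ (by norm_num)
  rw [e3, ej] at h
  obtain ⟨M, hM⟩ : ∃ M : ℤ, M = 3 ^ m := ⟨_, rfl⟩
  rw [← hM] at h hm
  rcases Nat.eq_zero_or_pos i with rfl | hi
  · rw [pow_zero, mul_one] at h
    rcases Nat.eq_zero_or_pos d with rfl | hd
    · rw [pow_zero, mul_one] at h
      omega
    · obtain ⟨d', rfl⟩ : ∃ d', d = d' + 1 := ⟨d - 1, by omega⟩
      have ed : (3 : ℤ) ^ (d' + 1) = 3 * 3 ^ d' := by ring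
      rw [ed] at h
      obtain ⟨Y, hY⟩ : ∃ Y : ℤ, Y = y * 3 ^ d' := ⟨_, rfl⟩
      have h1 : 2 * (x + 9 * Y) = 27 * M - 1 := by
        rw [hY]
        linear_combination h
      (clear * - hx hx' h1; omega)
  · obtain ⟨i', rfl⟩ : ∃ i', i = i' + 1 := ⟨i - 1, by omega⟩
    have ei : (3 : ℤ) ^ (i' + 1) = 3 * 3 ^ i' := by ring
    rw [ei] at h
    obtain ⟨Y, hY⟩ : ∃ Y : ℤ, Y = x * 3 ^ i' + y * 3 ^ d := ⟨_, rfl⟩
    have h1 : 2 * (3 * Y) = 27 * M - 1 := by
      rw [hY]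
      linear_combination h
    (clear * - h1; omega)

theorem Dg3.W_inj {c a₁ b₁ a₂ b₂ : Fin 3} (h : ((p ^ a - 1 : ℕ) : ℤ) ∣ W p i c a₁ b₁ - W p i c a₂ b₂) :
    a₁ = a₂ ∧ b₁ = b₂ := by
  have h5 := D.three
  obtain ⟨x, hx⟩ : ∃ x, x = wt a₁ - wt a₂ := ⟨_, rfl⟩
  obtain ⟨y, hy⟩ : ∃ y, y = wt b₁ - wt b₂ := ⟨_, rfl⟩
  have w1 := wt_bd a₁
  have w2 := wt_bd a₂
  have w3 := wt_bd b₁
  have w4 := wt_bd b₂
  have e : W p i c a₁ b₁ - W p i c a₂ b₂ = 2 * (x * (p : ℤ) ^ i (c + 1) + y * (p : ℤ) ^ i (c + 2)) := by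
    unfold W
    rw [hx, hy]
    ring
  rw [e] at h
  have hpp : (0 : ℤ) < (p : ℤ) := by omega
  have p1 : 0 < (p : ℤ) ^ i (c + 1) := pow_pos hpp _
  have p2 : 0 < (p : ℤ) ^ i (c + 2) := pow_pos hpp _
  have h0 : x * (p : ℤ) ^ i (c + 1) + y * (p : ℤ) ^ i (c + 2) = 0 := by
    by_contra hne
    have h7 : |2 * (x * (p : ℤ) ^ i (c + 1) + y * (p : ℤ) ^ i (c + 2))| ≤ 4 * ((p : ℤ) ^ i (c + 1) + (p : ℤ) ^ i (c + 2)) := by
      rw [abs_le]
      constructor <;> nlinarith only [hx, hy, w1, w2, w3, w4, p1, p2]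
    rcases D.odd with hp3 | hp5
    · -- `p = 3`
      have ha := D.three_le
      subst hp3
      obtain ⟨z, hz⟩ := h
      have hcast : (((3 : ℕ) ^ a - 1 : ℕ) : ℤ) = 3 ^ a - 1 := by
        push_cast [Nat.cast_sub (Nat.one_le_pow a 3 (by norm_num))]
        rfl
      rw [hcast] at hz
      have hs := D.sum_le (D.lt (c + 1)) (D.lt (c + 2)) (D.ne1 c)
      have hs' : ((3 : ℤ) ^ i (c + 1) + (3 : ℤ) ^ i (c + 2)) ≤ 3 ^ (a - 2) + 3 ^ (a - 1) := by exact_mod_cast hs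
      have hle : 4 * ((3 : ℤ) ^ i (c + 1) + (3 : ℤ) ^ i (c + 2)) < 2 * (3 ^ a - 1) := by
        obtain ⟨m, rfl⟩ : ∃ m, a = m + 3 := ⟨a - 3, by omega⟩
        rw [show m + 3 - 2 = m + 1 by omega, show m + 3 - 1 = m + 2 by omega] at hs'
        have hm : (1 : ℤ) ≤ 3 ^ m := one_le_pow₀ (by norm_num)
        have e1 : (3 : ℤ) ^ (m + 1) = 3 * 3 ^ m := by ring
        have e2 : (3 : ℤ) ^ (m + 2) = 9 * 3 ^ m := by ring
        have e3 : (3 : ℤ) ^ (m + 3) = 27 * 3 ^ m := by ring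
        rw [e1, e2] at hs'
        rw [e3]
        linarith only [hs', hm]
      have hA : (0 : ℤ) < 3 ^ a - 1 := by
        have : (1 : ℤ) < 3 ^ a := one_lt_pow₀ (by norm_num) (by omega)
        omega
      rw [abs_le] at h7
      push_cast at h7 hz hne
      have hz1 : z < 2 := by nlinarith only [h7, hz, hle]
      have hz2 : -2 < z := by nlinarith only [h7, hz, hle]
      have hz3 : z = -1 ∨ z = 0 ∨ z = 1 := by omega
      have hneg : -2 ≤ x ∧ x ≤ 2 ∧ -2 ≤ y ∧ y ≤ 2 := by omega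
      have hne' := D.ne1 c
      rcases hz3 with rfl | rfl | rfl
      · rcases Nat.lt_or_gt_of_ne hne' with h8 | h8
        · exact three_aux ha h8 (x := -x) (y := -y) (by omega) (by omega) (by omega) (by omega) (by linear_combination -hz)
        · exact three_aux ha h8 (x := -y) (y := -x) (by omega) (by omega) (by omega) (by omega) (by linear_combination -hz)
      · apply hne
        linarith only [hz]
      · rcases Nat.lt_or_gt_of_ne hne' with h8 | h8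
        · exact three_aux ha h8 (x := x) (y := y) (by omega) (by omega) (by omega) (by omega) (by linear_combination hz)
        · exact three_aux ha h8 (x := y) (y := x) (by omega) (by omega) (by omega) (by omega) (by linear_combination hz)
    · have hb := D.boundZ4 hp5 (D.lt (c + 1)) (D.lt (c + 2)) (D.ne1 c)
      have h6 := Int.le_of_dvd (abs_pos.2 (mul_ne_zero two_ne_zero hne)) ((dvd_abs _ _).2 h)
      omega
  obtain ⟨h8, h9⟩ := lin2 h5 (D.ne1 c) (by omega) (by omega) (by omega) (by omega) h0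
  have key : ∀ a b : Fin 3, wt a - wt b = 0 → a = b := by decide
  exact ⟨key _ _ (hx ▸ h8), key _ _ (hy ▸ h9)⟩

theorem Dg3.pow_inj {j l : ℕ} (h : (p : ℤ) ^ j = (p : ℤ) ^ l) : j = l := by
  have h5 := D.three
  have h1 : p ^ j = p ^ l := by exact_mod_cast h
  exact Nat.pow_right_injective (by omega) h1

theorem Dg3.sum3 (c : Fin 3) : (p : ℤ) ^ i (c + 1) + (p : ℤ) ^ i (c + 2) = (p : ℤ) ^ i 0 + (p : ℤ) ^ i 1 + (p : ℤ) ^ i 2 - (p : ℤ) ^ i c := by
  fin_cases c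
  · show (p : ℤ) ^ i 1 + (p : ℤ) ^ i 2 = (p : ℤ) ^ i 0 + (p : ℤ) ^ i 1 + (p : ℤ) ^ i 2 - (p : ℤ) ^ i 0
    ring
  · show (p : ℤ) ^ i 2 + (p : ℤ) ^ i 0 = (p : ℤ) ^ i 0 + (p : ℤ) ^ i 1 + (p : ℤ) ^ i 2 - (p : ℤ) ^ i 1
    ring
  · show (p : ℤ) ^ i 0 + (p : ℤ) ^ i 1 = (p : ℤ) ^ i 0 + (p : ℤ) ^ i 1 + (p : ℤ) ^ i 2 - (p : ℤ) ^ i 2
    ring

theorem Dg3.W_top {c d : Fin 3} (h : ((p ^ a - 1 : ℕ) : ℤ) ∣ W p i c 2 2 - W p i d 2 2) : c = d := by
  have h5 := D.three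
  have hpp : (0 : ℤ) < (p : ℤ) := by omega
  have hb1 := D.boundZ (D.lt (c + 1)) (D.lt (c + 2)) (D.ne1 c)
  have hb2 := D.boundZ (D.lt (d + 1)) (D.lt (d + 2)) (D.ne1 d)
  have p1 : 0 < (p : ℤ) ^ i (c + 1) := pow_pos hpp _
  have p2 : 0 < (p : ℤ) ^ i (c + 2) := pow_pos hpp _
  have p3 : 0 < (p : ℤ) ^ i (d + 1) := pow_pos hpp _
  have p4 : 0 < (p : ℤ) ^ i (d + 2) := pow_pos hpp _
  have w2 : wt 2 = 1 := rfl
  unfold W at h
  rw [w2, one_mul, one_mul, one_mul, one_mul] at h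
  have h0 : 2 * ((p : ℤ) ^ i (c + 1) + (p : ℤ) ^ i (c + 2)) - 2 * ((p : ℤ) ^ i (d + 1) + (p : ℤ) ^ i (d + 2)) = 0 := by
    by_contra hne
    have h6 := Int.le_of_dvd (abs_pos.2 hne) ((dvd_abs _ _).2 h)
    have h7 : |2 * ((p : ℤ) ^ i (c + 1) + (p : ℤ) ^ i (c + 2)) - 2 * ((p : ℤ) ^ i (d + 1) + (p : ℤ) ^ i (d + 2))| <
        ((p ^ a - 1 : ℕ) : ℤ) := by
      rw [abs_lt]
      constructor <;> (clear * - hb2 p1 p2 hb1 p3 p4; omega)
    omega
  rw [D.sum3 c, D.sum3 d] at h0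
  exact D.inj (D.pow_inj (by linarith only [h0]))

/-- **the action of a Frobenius map on the digits** -/
theorem Dg3.perm {n : ℕ} {π : Fin 3 → Fin 3}
    (h : ∀ c, ((p ^ a - 1 : ℕ) : ℤ) ∣ (p : ℤ) ^ n * W p i c 2 2 - W p i (π c) 2 2) (c a' b' : Fin 3) :
    ((p ^ a - 1 : ℕ) : ℤ) ∣ (p : ℤ) ^ n * W p i c a' b' - W p i (π c) a' b' := by
  have h5 := D.three
  have hpp : (0 : ℤ) < (p : ℤ) := by omega
  have ha := D.three_le
  have hpa : 1 ≤ p ^ a := Nat.one_le_pow _ _ (by omega)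
  -- the new digits
  obtain ⟨i', hi'⟩ : ∃ i' : Fin 3 → ℕ, i' = fun c => (i c + n) % a := ⟨_, rfl⟩
  have D' : Dg3 p a i' := by
    refine ⟨D.odd, fun c d hcd => D.inj ?_, fun c => ?_⟩
    · rw [hi'] at hcd
      have h1 : (i c + n) % a = (i d + n) % a := hcd
      have h2 : i c % a = i d % a := Nat.ModEq.add_right_cancel' n h1
      rwa [Nat.mod_eq_of_lt (D.lt c), Nat.mod_eq_of_lt (D.lt d)] at h2
    · rw [hi']
      exact Nat.mod_lt _ (by omega)
  have hcast : ((p ^ a - 1 : ℕ) : ℤ) = (p : ℤ) ^ a - 1 := by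
    push_cast [Nat.cast_sub hpa]
    rfl
  have hmod : ∀ c, ((p ^ a - 1 : ℕ) : ℤ) ∣ (p : ℤ) ^ n * (p : ℤ) ^ i c - (p : ℤ) ^ i' c := by
    intro c
    rw [hcast, hi', ← pow_add, add_comm n]
    show (p : ℤ) ^ a - 1 ∣ (p : ℤ) ^ (i c + n) - (p : ℤ) ^ ((i c + n) % a)
    obtain ⟨q', hq'⟩ : ∃ q', i c + n = a * q' + (i c + n) % a := ⟨_, (Nat.div_add_mod _ _).symm⟩
    have e : (p : ℤ) ^ (i c + n) - (p : ℤ) ^ ((i c + n) % a) = (p : ℤ) ^ ((i c + n) % a) * (((p : ℤ) ^ a) ^ q' - 1) := by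
      conv_lhs => rw [hq', pow_add, pow_mul]
      rw [Nat.mul_add_mod, Nat.mod_mod]
      ring
    rw [e]
    exact Dvd.dvd.mul_left (sub_one_dvd_pow_sub_one _ _) _
  -- the sums
  have h6 : ∀ c, (p : ℤ) ^ i' (c + 1) + (p : ℤ) ^ i' (c + 2) = (p : ℤ) ^ i (π c + 1) + (p : ℤ) ^ i (π c + 2) := by
    intro c
    have h1 := h c
    have h2 := hmod (c + 1)
    have h3 := hmod (c + 2)
    have w2 : wt 2 = 1 := rfl
    unfold W at h1
    rw [w2, one_mul, one_mul, one_mul, one_mul] at h1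
    have h4 : ((p ^ a - 1 : ℕ) : ℤ) ∣ 2 * ((p : ℤ) ^ i' (c + 1) + (p : ℤ) ^ i' (c + 2)) -
        2 * ((p : ℤ) ^ i (π c + 1) + (p : ℤ) ^ i (π c + 2)) := by
      obtain ⟨z1, hz1⟩ := h1
      obtain ⟨z2, hz2⟩ := h2
      obtain ⟨z3, hz3⟩ := h3
      exact ⟨z1 - 2 * z2 - 2 * z3, by linear_combination hz1 - 2 * hz2 - 2 * hz3⟩
    have hb1 := D'.boundZ (D'.lt (c + 1)) (D'.lt (c + 2)) (D'.ne1 c)
    have hb2 := D.boundZ (D.lt (π c + 1)) (D.lt (π c + 2)) (D.ne1 (π c))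
    have p1 : 0 < (p : ℤ) ^ i' (c + 1) := pow_pos hpp _
    have p2 : 0 < (p : ℤ) ^ i' (c + 2) := pow_pos hpp _
    have p3 : 0 < (p : ℤ) ^ i (π c + 1) := pow_pos hpp _
    have p4 : 0 < (p : ℤ) ^ i (π c + 2) := pow_pos hpp _
    by_contra hne
    have h8 := Int.le_of_dvd (abs_pos.2 (by omega)) ((dvd_abs _ _).2 h4)
    have h9 : |2 * ((p : ℤ) ^ i' (c + 1) + (p : ℤ) ^ i' (c + 2)) -
        2 * ((p : ℤ) ^ i (π c + 1) + (p : ℤ) ^ i (π c + 2))| < ((p ^ a - 1 : ℕ) : ℤ) := by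
      rw [abs_lt]
      constructor <;> omega
    omega
  obtain ⟨P, hP⟩ : ∃ P, P = (p : ℤ) ^ i 0 + (p : ℤ) ^ i 1 + (p : ℤ) ^ i 2 := ⟨_, rfl⟩
  obtain ⟨P', hP'⟩ : ∃ P', P' = (p : ℤ) ^ i' 0 + (p : ℤ) ^ i' 1 + (p : ℤ) ^ i' 2 := ⟨_, rfl⟩
  have h7 : ∀ c, P' - (p : ℤ) ^ i' c = P - (p : ℤ) ^ i (π c) := by
    intro c
    have h8 := h6 c
    rw [D'.sum3, D.sum3] at h8
    rw [hP, hP']
    exact h8
  have hπ : Function.Injective π := by
    intro c d hcd
    have h8 := h7 c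
    have h9 := h7 d
    rw [hcd] at h8
    exact D'.inj (D'.pow_inj (by linarith only [h8, h9]))
  have hsum : ∑ c, (p : ℤ) ^ i (π c) = P := by
    have hπb : Function.Bijective π := Finite.injective_iff_bijective.1 hπ
    rw [hπb.sum_comp (fun c => (p : ℤ) ^ i c), Fin.sum_univ_three, hP]
  have hPP : P' = P := by
    have s0 := h7 0
    have s1 := h7 1
    have s2 := h7 2
    rw [Fin.sum_univ_three] at hsum
    have : 3 * P' - P' = 3 * P - P := by linarith only [hP', hsum, s0, s1, s2]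
    linarith only [hP', hsum, s0, s1, s2]
  have h8 : ∀ c, i' c = i (π c) := by
    intro c
    have h9 := h7 c
    rw [hPP] at h9
    exact D.pow_inj (by linarith only [h9])
  -- a fixed point
  have hfix : (∃ c, π c = c) → ∀ c, π c = c := by
    rintro ⟨c, hc⟩ d
    have h9 := h8 c
    rw [hc, hi'] at h9
    have h10 : (i c + n) % a = i c := h9
    have h11 : n % a = 0 := by
      have : (i c + n) % a = (i c + 0) % a := by rw [h10, add_zero, Nat.mod_eq_of_lt (D.lt c)]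
      have h12 : n % a = 0 % a := Nat.ModEq.add_left_cancel' (i c) this
      rw [h12, Nat.zero_mod]
    apply D.inj
    rw [← h8 d, hi']
    show (i d + n) % a = i d
    rw [Nat.add_mod, h11, add_zero, Nat.mod_mod, Nat.mod_eq_of_lt (D.lt d)]
  have key : ∀ x0 x1 x2 : Fin 3, x0 ≠ x1 → x0 ≠ x2 → x1 ≠ x2 →
      ((x0 = 0 ∨ x1 = 1 ∨ x2 = 2) → x0 = 0 ∧ x1 = 1 ∧ x2 = 2) → x1 = x0 + 1 ∧ x2 = x0 + 2 := by decide
  have h9 := key (π 0) (π 1) (π 2) (fun h => absurd (hπ h) (by decide)) (fun h => absurd (hπ h) (by decide))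
    (fun h => absurd (hπ h) (by decide)) (by
      intro h9
      have h10 : ∃ c, π c = c := by
        rcases h9 with h9 | h9 | h9
        · exact ⟨0, h9⟩
        · exact ⟨1, h9⟩
        · exact ⟨2, h9⟩
      exact ⟨hfix h10 0, hfix h10 1, hfix h10 2⟩)
  have h10 : ∀ c, π (c + 1) = π c + 1 ∧ π (c + 2) = π c + 2 := by
    have key2 : ∀ x : Fin 3, x = x + 1 + 2 ∧ x + 2 = x + 1 + 1 ∧ x = x + 2 + 1 ∧ x + 1 = x + 2 + 2 := by decide
    intro c
    fin_cases c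
    · exact ⟨h9.1, h9.2⟩
    · show π 2 = π 1 + 1 ∧ π 0 = π 1 + 2
      rw [h9.1, h9.2]
      exact ⟨(key2 _).2.1, (key2 _).1⟩
    · show π 0 = π 2 + 1 ∧ π 1 = π 2 + 2
      rw [h9.1, h9.2]
      exact ⟨(key2 _).2.2.1, (key2 _).2.2.2⟩
  have h11 := hmod (c + 1)
  have h12 := hmod (c + 2)
  rw [h8, (h10 c).1] at h11
  rw [h8, (h10 c).2] at h12
  unfold W
  obtain ⟨z1, hz1⟩ := h11
  obtain ⟨z2, hz2⟩ := h12
  exact ⟨2 * wt a' * z1 + 2 * wt b' * z2, by linear_combination (2 * wt a') * hz1 + (2 * wt b') * hz2⟩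

end

end Cfsg.Agent.R2.H14.T
end

-- part: R2/H14/T/Der
section
/-!
# T-type: the operators `D_{p^i}` are derivations of the invariant trilinear forms (helper14)

`der` : all the operators `D_m` with a digit of `m` greater than 2 vanish (`p ≥ 5`); then `D_{p^i}` is a derivation of every
invariant trilinear form.
-/

set_option autoImplicit false
set_option linter.unusedSectionVars false

namespace Cfsg.Agent.R2.H14.T

open Matrix Cfsg.Agent.H943.SL2Rel Cfsg.Agent.R2.H28.SL2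

/-- all the digits are at most 2 -/
def Sm (p n : ℕ) : Prop := ∀ l, n / p ^ l % p ≤ 2

theorem Sm.bound {p : ℕ} (hp : 1 < p) (i : ℕ) : ∀ {n : ℕ}, Sm p n → n < p ^ i → n * (p - 1) ≤ 2 * (p ^ i - 1) := by
  induction i with
  | zero =>
    intro n _ hn
    rw [pow_zero, Nat.lt_one_iff] at hn
    rw [hn, zero_mul]
    exact Nat.zero_le _
  | succ i ih =>
    intro n hs hn
    have h1 : Sm p (n / p) := by
      intro l
      have := hs (l + 1)
      rwa [pow_succ', ← Nat.div_div_eq_div_mul] at this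
    have h2 : n / p < p ^ i := by
      rw [Nat.div_lt_iff_lt_mul (by omega), ← pow_succ]
      exact hn
    have h3 := ih h1 h2
    have h4 := Nat.div_add_mod n p
    have h5 : n % p ≤ 2 := by
      have := hs 0
      rwa [pow_zero, Nat.div_one] at this
    obtain ⟨P, rfl⟩ : ∃ P, p = P + 1 := ⟨p - 1, by omega⟩
    rw [Nat.add_sub_cancel] at h3 ⊢
    have h6 : 1 ≤ (P + 1) ^ i := Nat.one_le_pow _ _ (by omega)
    obtain ⟨X, hX⟩ : ∃ X, (P + 1) ^ i = X + 1 := ⟨(P + 1) ^ i - 1, by omega⟩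
    rw [pow_succ, hX]
    rw [hX, Nat.add_sub_cancel] at h3
    obtain ⟨d, hd⟩ : ∃ d, d = n / (P + 1) := ⟨_, rfl⟩
    obtain ⟨r, hr⟩ : ∃ r, r = n % (P + 1) := ⟨_, rfl⟩
    rw [← hd, ← hr] at h4
    rw [← hd] at h3
    rw [← hr] at h5
    have h7 : (X + 1) * (P + 1) - 1 = X * P + X + P := by
      have : (X + 1) * (P + 1) = X * P + X + P + 1 := by ring
      omega
    rw [h7, ← h4]
    nlinarith only [h3, h5]

theorem Sm.add_lt {p : ℕ} (hp : 5 ≤ p) {i m n : ℕ} (hm : Sm p m) (hn : Sm p n) (hm' : m < p ^ i) (hn' : n < p ^ i) :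
    m + n ≤ p ^ i - 1 := by
  have h1 := hm.bound (by omega) i hm'
  have h2 := hn.bound (by omega) i hn'
  by_contra hc
  have h3 : p ^ i ≤ m + n := by omega
  have h4 : 1 ≤ p ^ i := Nat.one_le_pow _ _ (by omega)
  obtain ⟨P, rfl⟩ : ∃ P, p = P + 5 := ⟨p - 5, by omega⟩
  obtain ⟨X, hX⟩ : ∃ X, (P + 5) ^ i = X + 1 := ⟨(P + 5) ^ i - 1, by omega⟩
  rw [hX] at h3
  rw [hX, Nat.add_sub_cancel] at h1 h2
  have h5 : (m + n) * (P + 4) ≤ 4 * X := by
    have e : P + 5 - 1 = P + 4 := by omega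
    rw [e] at h1 h2
    linarith only [h2, h1]
  have h6 : (X + 1) * (P + 4) ≤ (m + n) * (P + 4) := Nat.mul_le_mul_right _ h3
  nlinarith only [h3, h5]

variable {k : Type*} [Field k] {F : Type*} [Field F] [Fintype F] [DecidableEq F] (ι : F →+* k)
variable {V : Type*} [AddCommGroup V] [Module k V] (ρ : Representation k (_root_.Matrix.SpecialLinearGroup (Fin 2) F) V)

/-- `D_m` with `D_0 = 1` -/
noncomputable def Dz (m : ℕ) : V →ₗ[k] V := if m = 0 then LinearMap.id else Dm ι ρ m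

theorem Dz_zero (x : V) : Dz ι ρ 0 x = x := by
  unfold Dz
  rw [if_pos rfl]
  rfl

theorem Dz_pos {m : ℕ} (hm : m ≠ 0) (x : V) : Dz ι ρ m x = Dm ι ρ m x := by
  unfold Dz
  rw [if_neg hm]

variable (p : ℕ) [Fact p.Prime] [CharP k p] [CharP F p]

include p in
theorem u_eq' (t : F) (x : V) : ρ (u t) x = ∑ m ∈ Finset.range (Fintype.card F), ι t ^ m • Dz ι ρ m x := by
  have hq := one_lt (F := F)
  rw [u_eq ι ρ p t x, Finset.range_eq_Ico, Finset.sum_eq_sum_Ico_succ_bot (by omega), pow_zero, one_smul, Dz_zero]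
  congr 1
  have h1 : Finset.Ico (0 + 1) (Fintype.card F) = Finset.Icc 1 (Fintype.card F - 1) := by
    ext m
    rw [Finset.mem_Ico, Finset.mem_Icc]
    omega
  rw [h1]
  refine Finset.sum_congr rfl fun m hm => ?_
  rw [Finset.mem_Icc] at hm
  rw [Dz_pos ι ρ (by omega)]

variable (hp5 : 5 ≤ p) {a : ℕ} (hF : Fintype.card F = p ^ a)
  (hD : ∀ m, 1 ≤ m → m ≤ Fintype.card F - 1 → ¬ Sm p m → Dm ι ρ m = 0) (T : V →ₗ[k] V →ₗ[k] V →ₗ[k] k)
  (hT : ∀ g x y z, T (ρ g x) (ρ g y) (ρ g z) = T x y z)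

include hp5 hF hD hT

/-- **derivations** -/
theorem der {i : ℕ} (hi : i < a) (x y z : V) :
    T (Dm ι ρ (p ^ i) x) y z + T x (Dm ι ρ (p ^ i) y) z + T x y (Dm ι ρ (p ^ i) z) = 0 := by
  have hp : p.Prime := Fact.out
  have hq := one_lt (F := F)
  obtain ⟨Q, hQ⟩ : ∃ Q, Q = Fintype.card F - 1 := ⟨_, rfl⟩
  obtain ⟨N, hN⟩ : ∃ N, N = p ^ i := ⟨_, rfl⟩
  have hN1 : 1 ≤ N := by rw [hN]; exact Nat.one_le_pow _ _ hp.pos
  have hNQ : N < Q := by
    have h1 : 5 * p ^ i ≤ p ^ a := by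
      calc 5 * p ^ i ≤ p * p ^ i := Nat.mul_le_mul_right _ hp5
        _ = p ^ (i + 1) := by rw [pow_succ, mul_comm]
        _ ≤ p ^ a := Nat.pow_le_pow_right hp.pos hi
    omega
  have hcard : Fintype.card F = Q + 1 := by omega
  have hodd : (-1 : k) ^ N = -1 := by
    rw [hN]
    exact ((hp.odd_of_ne_two (by omega)).pow).neg_one_pow
  rw [← hN]
  -- the second way
  have hB : ∀ t : F, T (ρ (u t) x) (ρ (u t) y) z =
      ∑ m ∈ Finset.range (Q + 1), ((-1) ^ m * ι t ^ m) * T x y (Dz ι ρ m z) := by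
    intro t
    have h1 := hT (u t) x y (ρ (u (-t)) z)
    rw [← Module.End.mul_apply (ρ (u t)) (ρ (u (-t))), ← map_mul, ← u_add, add_neg_cancel, u_zero, map_one,
      Module.End.one_apply] at h1
    rw [h1, u_eq' ι ρ p, map_sum, hcard]
    refine Finset.sum_congr rfl fun m _ => ?_
    rw [map_smul, smul_eq_mul, map_neg, neg_pow]
  have hS1 : ∑ t : F, ι t ^ (Q - N) * T (ρ (u t) x) (ρ (u t) y) z = T x y (Dm ι ρ N z) := by
    have h1 : ∀ t : F, ι t ^ (Q - N) * T (ρ (u t) x) (ρ (u t) y) z =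
        ∑ m ∈ Finset.range (Q + 1), ((-1) ^ m * T x y (Dz ι ρ m z)) * ι t ^ (Q - N + m) := by
      intro t
      rw [hB t, Finset.mul_sum]
      refine Finset.sum_congr rfl fun m _ => ?_
      rw [pow_add]
      ring
    rw [Finset.sum_congr rfl fun t _ => h1 t, Finset.sum_comm]
    rw [Finset.sum_eq_single N]
    · rw [← Finset.mul_sum, psum ι (by omega), if_pos (by omega), hodd, Dz_pos ι ρ (by omega)]
      ring
    · intro m hm hmN
      rw [Finset.mem_range] at hm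
      rw [← Finset.mul_sum, psum ι (by omega), if_neg (by omega), mul_zero]
    · intro h
      exact absurd (Finset.mem_range.2 (by omega)) h
  -- the first way
  have hsm : ∀ m < Q + 1, ¬ Sm p m → ∀ x, Dz ι ρ m x = 0 := by
    intro m hm hs x
    have hm0 : m ≠ 0 := by
      rintro rfl
      apply hs
      intro l
      rw [Nat.zero_div, Nat.zero_mod]
      omega
    rw [Dz_pos ι ρ hm0, hD m (by omega) (by omega) hs, LinearMap.zero_apply]
  have hS2 : ∑ t : F, ι t ^ (Q - N) * T (ρ (u t) x) (ρ (u t) y) z = -(T x (Dm ι ρ N y) z + T (Dm ι ρ N x) y z) := by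
    have h1 : ∀ t : F, ι t ^ (Q - N) * T (ρ (u t) x) (ρ (u t) y) z =
        ∑ mn ∈ Finset.range (Q + 1) ×ˢ Finset.range (Q + 1),
          T (Dz ι ρ mn.1 x) (Dz ι ρ mn.2 y) z * ι t ^ (Q - N + (mn.1 + mn.2)) := by
      intro t
      rw [u_eq' ι ρ p t x, u_eq' ι ρ p t y, hcard, Finset.sum_product, map_sum T, LinearMap.sum_apply,
        LinearMap.sum_apply, Finset.mul_sum]
      refine Finset.sum_congr rfl fun m _ => ?_
      rw [map_smul, LinearMap.smul_apply, LinearMap.smul_apply, map_sum, LinearMap.sum_apply, Finset.smul_sum,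
        Finset.mul_sum]
      refine Finset.sum_congr rfl fun n _ => ?_
      rw [map_smul, LinearMap.smul_apply, smul_eq_mul, smul_eq_mul, pow_add, pow_add]
      ring
    rw [Finset.sum_congr rfl fun t _ => h1 t, Finset.sum_comm]
    have h2 : ∀ mn ∈ Finset.range (Q + 1) ×ˢ Finset.range (Q + 1),
        ∑ t : F, T (Dz ι ρ mn.1 x) (Dz ι ρ mn.2 y) z * ι t ^ (Q - N + (mn.1 + mn.2)) =
        (if mn = (0, N) then -(T x (Dm ι ρ N y) z) else 0) + (if mn = (N, 0) then -(T (Dm ι ρ N x) y z) else 0) := by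
      rintro ⟨m, n⟩ hmn
      rw [Finset.mem_product, Finset.mem_range, Finset.mem_range] at hmn
      obtain ⟨hm, hn⟩ := hmn
      simp only at hm hn
      rw [← Finset.mul_sum]
      show T (Dz ι ρ m x) (Dz ι ρ n y) z * ∑ t : F, ι t ^ (Q - N + (m + n)) = _
      by_cases e1 : m = 0 ∧ n = N
      · obtain ⟨rfl, rfl⟩ := e1
        rw [if_pos rfl, if_neg (by rintro h; rw [Prod.mk.injEq] at h; omega), psum ι (by omega), if_pos (by omega),
          Dz_zero, Dz_pos ι ρ (by omega)]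
        ring
      by_cases e2 : m = N ∧ n = 0
      · obtain ⟨rfl, rfl⟩ := e2
        rw [if_neg (by rintro h; rw [Prod.mk.injEq] at h; omega), if_pos rfl, psum ι (by omega), if_pos (by omega),
          Dz_zero, Dz_pos ι ρ (by omega)]
        ring
      rw [if_neg (by rintro h; rw [Prod.mk.injEq] at h; exact e1 h), if_neg (by rintro h; rw [Prod.mk.injEq] at h; exact e2 h),
        add_zero]
      by_cases s1 : Sm p m
      · by_cases s2 : Sm p n
        · have h3 : m + n ≤ p ^ a - 1 := s1.add_lt hp5 s2 (by omega) (by omega)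
          rw [psum ι (by omega)]
          split_ifs with h4
          · exfalso
            have h5 : m + n = N := by omega
            have h6 : m < p ^ i := by omega
            have h7 : n < p ^ i := by (clear * - hN hcard e1 h5; omega)
            have h8 := s1.add_lt hp5 s2 h6 h7
            omega
          · rw [mul_zero]
        · rw [hsm n hn s2]
          simp only [_root_.map_zero, _root_.LinearMap.zero_apply, _root_.MulZeroClass.zero_mul]
      · rw [hsm m hm s1]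
        simp only [_root_.map_zero, _root_.LinearMap.zero_apply, _root_.MulZeroClass.zero_mul]
    rw [Finset.sum_congr rfl h2, Finset.sum_add_distrib, Finset.sum_ite_eq', Finset.sum_ite_eq', if_pos (by
      rw [Finset.mem_product, Finset.mem_range, Finset.mem_range]
      exact ⟨by simp, by simp; omega⟩), if_pos (by
      rw [Finset.mem_product, Finset.mem_range, Finset.mem_range]
      exact ⟨by simp; omega, by simp⟩)]
    ring
  rw [hS1] at hS2
  linear_combination hS2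

/-- the lowering operators -/
theorem der' {i : ℕ} (hi : i < a) (x y z : V) :
    T (ρ w⁻¹ (Dm ι ρ (p ^ i) (ρ w x))) y z + T x (ρ w⁻¹ (Dm ι ρ (p ^ i) (ρ w y))) z +
      T x y (ρ w⁻¹ (Dm ι ρ (p ^ i) (ρ w z))) = 0 := by
  have h1 := der ι ρ p hp5 hF hD T hT hi (ρ w x) (ρ w y) (ρ w z)
  have hw : ∀ v : V, ρ w (ρ w⁻¹ v) = v := by
    intro v
    rw [← Module.End.mul_apply, ← map_mul, mul_inv_cancel, map_one, Module.End.one_apply]
  rw [← hT w (ρ w⁻¹ (Dm ι ρ (p ^ i) (ρ w x))) y z, ← hT w x (ρ w⁻¹ (Dm ι ρ (p ^ i) (ρ w y))) z,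
    ← hT w x y (ρ w⁻¹ (Dm ι ρ (p ^ i) (ρ w z))), hw, hw, hw]
  exact h1

end Cfsg.Agent.R2.H14.T
end

-- part: R2/H14/T/TB
section
/-!
# T-type: the basis (helper14)

`TT ι p i ρ φ` : `V = V_{b 0} ⊕ V_{b 1} ⊕ V_{b 2}`, `b c = 2 p ^ i (c + 1) + 2 p ^ i (c + 2)`; `ev φ c a b` : the basis vectors.
-/

set_option autoImplicit false
set_option linter.unusedSectionVars false

namespace Cfsg.Agent.R2.H14.T

open Matrix Cfsg.Agent.H943.SL2Rel Cfsg.Agent.H943.SL2Mod Cfsg.Agent.H943.RepAdd Cfsg.Agent.R2.H28.SL2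

theorem dg_ext {p : ℕ} (hp : 1 < p) : ∀ s m n : ℕ, m + n ≤ s → (∀ l, m / p ^ l % p = n / p ^ l % p) → m = n := by
  intro s
  induction s with
  | zero =>
    intro m n h _
    omega
  | succ s ih =>
    intro m n h hd
    have h0 := hd 0
    rw [pow_zero, Nat.div_one, Nat.div_one] at h0
    by_cases hmn : m + n = 0
    · omega
    have h1 : m / p + n / p ≤ s := by
      have h2 : (m + n) / p < m + n := Nat.div_lt_self (by omega) hp
      have h3 : m / p + n / p ≤ (m + n) / p := Nat.div_add_div_le_add_div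
      omega
    have h2 := ih (m / p) (n / p) h1 (by
      intro l
      have := hd (l + 1)
      rwa [pow_succ', ← Nat.div_div_eq_div_mul, ← Nat.div_div_eq_div_mul] at this)
    rw [← Nat.div_add_mod m p, ← Nat.div_add_mod n p, h2, h0]

/-- the highest weights -/
def bw (p : ℕ) (i : Fin 3 → ℕ) (c : Fin 3) : ℕ := 2 * p ^ i (c + 1) + 2 * p ^ i (c + 2)

/-- the exponents -/
def mw (p : ℕ) (i : Fin 3 → ℕ) (c a b : Fin 3) : ℕ := (a : ℕ) * p ^ i (c + 1) + (b : ℕ) * p ^ i (c + 2)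

section

variable {p a : ℕ} {i : Fin 3 → ℕ} (D : Dg3 p a i)

include D

theorem Dg3.dg_bw (c : Fin 3) (l : ℕ) : bw p i c / p ^ l % p = if l = i (c + 1) then 2 else if l = i (c + 2) then 2 else 0 := by
  have h5 := D.three
  exact dg_two (by omega) (by omega) (by omega) (D.ne1 c) l

theorem Dg3.dg_mw (c x y : Fin 3) (l : ℕ) : mw p i c x y / p ^ l % p =
    if l = i (c + 1) then (x : ℕ) else if l = i (c + 2) then (y : ℕ) else 0 := by
  have h5 := D.three
  have h1 := x.2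
  have h2 := y.2
  exact dg_two (by omega) (by omega) (by omega) (D.ne1 c) l

theorem Dg3.mw_le (c x y : Fin 3) : mw p i c x y ≤ bw p i c := by
  have h1 := x.2
  have h2 := y.2
  exact Nat.add_le_add (Nat.mul_le_mul_right _ (by omega)) (Nat.mul_le_mul_right _ (by omega))

omit D in
theorem sub_mw (c x y : Fin 3) : bw p i c - mw p i c x y = mw p i c (2 - x) (2 - y) := by
  have key : ∀ x : Fin 3, ((2 - x : Fin 3) : ℕ) = 2 - (x : ℕ) := by decide
  have h1 := x.2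
  have h2 := y.2
  unfold bw mw
  rw [key, key]
  generalize p ^ i (c + 1) = P
  generalize p ^ i (c + 2) = R
  obtain ⟨x', hx'⟩ : ∃ x', x' + (x : ℕ) = 2 := ⟨2 - x, by omega⟩
  obtain ⟨y', hy'⟩ : ∃ y', y' + (y : ℕ) = 2 := ⟨2 - y, by omega⟩
  have e1 : 2 * P = x' * P + x * P := by rw [← add_mul, hx']
  have e2 : 2 * R = y' * R + y * R := by rw [← add_mul, hy']
  rw [show 2 - (x : ℕ) = x' by omega, show 2 - (y : ℕ) = y' by omega]
  omega

theorem Dg3.bw_lt (c : Fin 3) : bw p i c < p ^ a - 1 := by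
  have h := D.bound (D.lt (c + 1)) (D.lt (c + 2)) (D.ne1 c)
  unfold bw
  omega

theorem Dg3.bw_inj {c d : Fin 3} (h : bw p i c = bw p i d) : c = d := by
  apply D.W_top
  have e : ∀ c, W p i c 2 2 = (bw p i c : ℤ) := by
    intro c
    unfold W bw
    rw [show wt 2 = 1 from rfl]
    push_cast
    ring
  rw [e, e, h, sub_self]
  exact dvd_zero _

variable {k : Type*} [Field k] [Fact p.Prime] [CharP k p]

theorem Dg3.mem_Bb (c x y : Fin 3) : mw p i c x y ∈ Bb k (bw p i c) := by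
  refine ⟨D.mw_le c x y, (choose_ne_iff p).2 fun l => ?_⟩
  rw [D.dg_mw, D.dg_bw]
  have h1 := x.2
  have h2 := y.2
  split_ifs <;> omega

theorem Dg3.of_mem_Bb {c : Fin 3} {m : ℕ} (h : m ∈ Bb k (bw p i c)) : ∃ x y, m = mw p i c x y := by
  have h5 := D.three
  have h1 := (choose_ne_iff p).1 h.2
  have hx := h1 (i (c + 1))
  have hy := h1 (i (c + 2))
  rw [D.dg_bw, if_pos rfl] at hx
  rw [D.dg_bw, if_neg (D.ne1 c).symm, if_pos rfl] at hy
  refine ⟨⟨m / p ^ i (c + 1) % p, Nat.lt_succ_of_le hx⟩, ⟨m / p ^ i (c + 2) % p, Nat.lt_succ_of_le hy⟩, ?_⟩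
  refine dg_ext (p := p) (by omega) _ _ _ le_rfl fun l => ?_
  rw [D.dg_mw]
  split_ifs with h2 h3
  · rw [h2]
  · rw [h3]
  · have h4 := h1 l
    rw [D.dg_bw, if_neg h2, if_neg h3] at h4
    omega

theorem Dg3.mw_inj {c x y x' y' : Fin 3} (h : mw p i c x y = mw p i c x' y') : x = x' ∧ y = y' := by
  have h1 := D.dg_mw c x y (i (c + 1))
  have h2 := D.dg_mw c x y (i (c + 2))
  rw [h, D.dg_mw] at h1 h2
  rw [if_pos rfl, if_pos rfl] at h1
  rw [if_neg (D.ne1 c).symm, if_pos rfl, if_neg (D.ne1 c).symm, if_pos rfl] at h2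
  exact ⟨Fin.ext h1.symm, Fin.ext h2.symm⟩

theorem Dg3.card_Bf [DecidableEq k] (c : Fin 3) : (Bf k (bw p i c)).card = 9 := by
  have h1 : Bf k (bw p i c) = (Finset.univ : Finset (Fin 3 × Fin 3)).image fun x => mw p i c x.1 x.2 := by
    ext m
    rw [mem_Bf, Finset.mem_image]
    constructor
    · intro h
      obtain ⟨x, y, rfl⟩ := D.of_mem_Bb h
      exact ⟨(x, y), Finset.mem_univ _, rfl⟩
    · rintro ⟨x, -, rfl⟩
      exact D.mem_Bb c x.1 x.2
  rw [h1, Finset.card_image_of_injective]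
  · rfl
  · intro x y h
    obtain ⟨h2, h3⟩ := D.mw_inj h
    exact Prod.ext h2 h3

end

variable {k : Type*} [Field k] [DecidableEq k] {K : Type*} [Field K] [Fintype K] [DecidableEq K] (ι : K →+* k)
variable (p : ℕ) [Fact p.Prime] [CharP k p] [CharP K p] (i : Fin 3 → ℕ)
variable {V : Type*} [AddCommGroup V] [Module k V] (ρ : Representation k (_root_.Matrix.SpecialLinearGroup (Fin 2) K) V)

open Classical in
/-- the monomials in `V_b` -/
noncomputable def mv (c x y : Fin 3) : Vb ι (bw p i c) :=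
  if h : mon ι (bw p i c) (mw p i c x y) ∈ Vb ι (bw p i c) then ⟨_, h⟩ else 0

/-- the basis vectors -/
noncomputable def evc (φ : ∀ c : Fin 3, Vb ι (bw p i c) →ₗ[k] V) (c x y : Fin 3) : V := φ c (mv ι p i c x y)

/-- `V = V_{b 0} ⊕ V_{b 1} ⊕ V_{b 2}` -/
structure TT (φ : ∀ c : Fin 3, Vb ι (bw p i c) →ₗ[k] V) : Prop where
  eqv : ∀ c g (x y : Vb ι (bw p i c)), (y : K × K → k) = fRep k K g x → φ c y = ρ g (φ c x)
  bas : ∃ B : Module.Basis (Fin 3 × Fin 3 × Fin 3) k V, ∀ c x y, B (c, x, y) = evc ι p i φ c x y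

section

variable {p i ρ} {a : ℕ} (hK : Fintype.card K = p ^ a) (D : Dg3 p a i)

include hK D

theorem mem_Vb' (c x y : Fin 3) : mon ι (bw p i c) (mw p i c x y) ∈ Vb ι (bw p i c) :=
  Cfsg.Agent.H179.SLC.mon_mem_Vb ι p (neg_one_pow_Q ι) (by rw [hK]; exact (D.bw_lt c).le) (D.mem_Bb c x y)

theorem coe_mv (c x y : Fin 3) : (mv ι p i c x y : K × K → k) = mon ι (bw p i c) (mw p i c x y) := by
  unfold mv
  rw [dif_pos (mem_Vb' ι hK D c x y)]

/-- a general element of `V_b` -/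
theorem exists_sum (c : Fin 3) (f : Vb ι (bw p i c)) : ∃ κ : Fin 3 × Fin 3 → k, f = ∑ x, κ x • mv ι p i c x.1 x.2 := by
  obtain ⟨e, he⟩ := Cfsg.Agent.H179.SLC.exists_coord ι p ι.injective (neg_one_pow_Q ι) (b := bw p i c)
    (by rw [hK]; exact (D.bw_lt c).le)
  obtain ⟨y, rfl⟩ := e.surjective f
  refine ⟨fun x => y ⟨mw p i c x.1 x.2, mem_Bf.2 (D.mem_Bb c x.1 x.2)⟩, Subtype.ext ?_⟩
  rw [he, Submodule.coe_sum]
  let j : Fin 3 × Fin 3 ≃ Bf k (bw p i c) := Equiv.ofBijective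
    (fun x => ⟨mw p i c x.1 x.2, mem_Bf.2 (D.mem_Bb c x.1 x.2)⟩) ⟨by
      intro x y h
      obtain ⟨h2, h3⟩ := D.mw_inj (congrArg Subtype.val h)
      exact Prod.ext h2 h3, by
      rintro ⟨m, hm⟩
      obtain ⟨x, y, rfl⟩ := D.of_mem_Bb (mem_Bf.1 hm)
      exact ⟨(x, y), rfl⟩⟩
  rw [← j.sum_comp]
  refine Finset.sum_congr rfl fun x _ => ?_
  rw [Submodule.coe_smul, coe_mv ι hK D]
  rfl

/-- the operators `D_n` on the monomials -/
theorem Dm_mv {φ : ∀ c : Fin 3, Vb ι (bw p i c) →ₗ[k] V} (T : TT ι p i ρ φ) {c x y : Fin 3} {n : ℕ} (hn : 1 ≤ n)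
    (hn' : n ≤ Fintype.card K - 1) (f : Vb ι (bw p i c))
    (hf : (f : K × K → k) = ((bw p i c - mw p i c x y).choose n : k) • mon ι (bw p i c) (mw p i c x y + n)) :
    Dm ι ρ n (evc ι p i φ c x y) = φ c f := by
  have hb : bw p i c ≤ Fintype.card K - 1 := by rw [hK]; exact (D.bw_lt c).le
  have h1 := Dm_comm ι (RB ι p hb) ρ (φ c) (fun g x => T.eqv c g x _ rfl) n (mv ι p i c x y)
  have h2 : Dm ι (RB ι p hb) n (mv ι p i c x y) = f := by
    apply Subtype.ext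
    have h8 : ((Dm ι (RB ι p hb) n (mv ι p i c x y) : Vb ι (bw p i c)) : K × K → k) =
        Dm ι (fRep k K) n (mv ι p i c x y : K × K → k) := by
      rw [Dm_apply, Dm_apply]
      push_cast
      rfl
    rw [h8, coe_mv ι hK D, Dm_mon ι hb (D.mw_le c x y) hn hn', hf]
  rw [h2] at h1
  exact h1.symm

/-- large digits -/
theorem Dm_big {φ : ∀ c : Fin 3, Vb ι (bw p i c) →ₗ[k] V} (T : TT ι p i ρ φ) {n : ℕ} (hn : 1 ≤ n)
    (hn' : n ≤ Fintype.card K - 1) (hs : ¬ Sm p n) : Dm ι ρ n = 0 := by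
  obtain ⟨B, hB⟩ := T.bas
  refine B.ext fun ⟨c, x, y⟩ => ?_
  rw [hB, LinearMap.zero_apply, Dm_mv ι hK D T hn hn' 0, map_zero]
  have h1 : (((bw p i c - mw p i c x y).choose n : ℕ) : k) = 0 := by
    by_contra hne
    rw [← Ne, choose_ne_iff p] at hne
    apply hs
    intro l
    have h2 := hne l
    rw [sub_mw, D.dg_mw] at h2
    have h3 := (2 - x).2
    have h4 := (2 - y).2
    split_ifs at h2 <;> (clear * - h3 h2 h4; omega)
  rw [h1, zero_smul]
  rfl

theorem cE_eq (x : Fin 3) : cE k x = (((2 - x : Fin 3) : ℕ) : k) := by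
  fin_cases x
  · show (2 : k) = ((2 : ℕ) : k)
    norm_num
  · show (1 : k) = ((1 : ℕ) : k)
    norm_num
  · show (0 : k) = ((0 : ℕ) : k)
    norm_num

theorem pow_le_card (c : Fin 3) : 1 ≤ p ^ i c ∧ p ^ i c ≤ Fintype.card K - 1 := by
  have h5 := D.three
  refine ⟨Nat.one_le_pow _ _ (by omega), ?_⟩
  rw [hK]
  exact Nat.le_sub_one_of_lt (Nat.pow_lt_pow_right (by omega) (D.lt c))

theorem evE1 {φ : ∀ c : Fin 3, Vb ι (bw p i c) →ₗ[k] V} (T : TT ι p i ρ φ) (c x y : Fin 3) :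
    Dm ι ρ (p ^ i (c + 1)) (evc ι p i φ c x y) = cE k x • evc ι p i φ c (x + 1) y := by
  obtain ⟨h1, h2⟩ := pow_le_card hK D (c + 1)
  have h3 : (((bw p i c - mw p i c x y).choose (p ^ i (c + 1)) : ℕ) : k) = cE k x := by
    rw [choose_pow, sub_mw, D.dg_mw, if_pos rfl, cE_eq hK D]
  rw [Dm_mv ι hK D T h1 h2 (cE k x • mv ι p i c (x + 1) y), map_smul]
  · rfl
  · rw [h3, Submodule.coe_smul, coe_mv ι hK D]
    have key : ∀ x : Fin 3, x = 2 ∨ ((x + 1 : Fin 3) : ℕ) = x + 1 := by decide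
    rcases key x with rfl | h4
    · rw [show cE k 2 = 0 from rfl, zero_smul, zero_smul]
    · congr 2
      unfold mw
      rw [h4]
      ring

theorem evE2 {φ : ∀ c : Fin 3, Vb ι (bw p i c) →ₗ[k] V} (T : TT ι p i ρ φ) (c x y : Fin 3) :
    Dm ι ρ (p ^ i (c + 2)) (evc ι p i φ c x y) = cE k y • evc ι p i φ c x (y + 1) := by
  obtain ⟨h1, h2⟩ := pow_le_card hK D (c + 2)
  have h3 : (((bw p i c - mw p i c x y).choose (p ^ i (c + 2)) : ℕ) : k) = cE k y := by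
    rw [choose_pow, sub_mw, D.dg_mw, if_neg (D.ne1 c).symm, if_pos rfl, cE_eq hK D]
  rw [Dm_mv ι hK D T h1 h2 (cE k y • mv ι p i c x (y + 1)), map_smul]
  · rfl
  · rw [h3, Submodule.coe_smul, coe_mv ι hK D]
    have key : ∀ x : Fin 3, x = 2 ∨ ((x + 1 : Fin 3) : ℕ) = x + 1 := by decide
    rcases key y with rfl | h4
    · rw [show cE k 2 = 0 from rfl, zero_smul, zero_smul]
    · congr 2
      unfold mw
      rw [h4]
      ring

theorem evE0 {φ : ∀ c : Fin 3, Vb ι (bw p i c) →ₗ[k] V} (T : TT ι p i ρ φ) (c x y : Fin 3) :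
    Dm ι ρ (p ^ i c) (evc ι p i φ c x y) = 0 := by
  obtain ⟨h1, h2⟩ := pow_le_card hK D c
  have h3 : (((bw p i c - mw p i c x y).choose (p ^ i c) : ℕ) : k) = 0 := by
    rw [choose_pow, sub_mw, D.dg_mw, if_neg, if_neg, Nat.cast_zero]
    · exact fun h => ne02 c (D.inj h)
    · exact fun h => ne01 c (D.inj h)
  rw [Dm_mv ι hK D T h1 h2 0, map_zero]
  rw [h3, zero_smul]
  rfl

/-- signs -/
def sg (k : Type*) [Field k] : Fin 3 → k := ![1, -1, 1]

theorem sg_eq (x : Fin 3) : sg k x = (-1) ^ (x : ℕ) := by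
  fin_cases x
  · show (1 : k) = (-1) ^ 0
    norm_num
  · show (-1 : k) = (-1) ^ 1
    norm_num
  · show (1 : k) = (-1) ^ 2
    norm_num

theorem ev_w {φ : ∀ c : Fin 3, Vb ι (bw p i c) →ₗ[k] V} (T : TT ι p i ρ φ) (c x y : Fin 3) :
    ρ w (evc ι p i φ c x y) = (sg k x * sg k y) • evc ι p i φ c (2 - x) (2 - y) := by
  have hp : p.Prime := Fact.out
  have h5 := D.three
  have h1 := T.eqv c w (mv ι p i c x y) ((sg k x * sg k y) • mv ι p i c (2 - x) (2 - y)) (by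
    rw [Submodule.coe_smul, coe_mv ι hK D, coe_mv ι hK D]
    funext z
    obtain ⟨s, t⟩ := z
    rw [fRep_w]
    show (sg k x * sg k y) * (ι s ^ mw p i c (2 - x) (2 - y) * ι t ^ (bw p i c - mw p i c (2 - x) (2 - y))) =
      ι (-t) ^ mw p i c x y * ι s ^ (bw p i c - mw p i c x y)
    have e1 : bw p i c - mw p i c (2 - x) (2 - y) = mw p i c x y := by
      rw [sub_mw, sub_sub_cancel, sub_sub_cancel]
    rw [e1, sub_mw, map_neg, neg_pow (ι t)]
    have hodd : ∀ j n : ℕ, ((-1 : k)) ^ (n * p ^ j) = (-1) ^ n := by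
      intro j n
      rw [mul_comm, pow_mul, ((hp.odd_of_ne_two (by omega)).pow).neg_one_pow]
    have e2 : (-1 : k) ^ mw p i c x y = sg k x * sg k y := by
      unfold mw
      rw [pow_add, hodd, hodd, sg_eq hK D, sg_eq hK D]
    rw [e2]
    ring)
  rw [map_smul] at h1
  exact h1.symm

theorem ev_winv {φ : ∀ c : Fin 3, Vb ι (bw p i c) →ₗ[k] V} (T : TT ι p i ρ φ) (c x y : Fin 3) :
    ρ w⁻¹ (evc ι p i φ c x y) = (sg k x * sg k y) • evc ι p i φ c (2 - x) (2 - y) := by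
  have h1 := ev_w ι hK D T c (2 - x) (2 - y)
  rw [sub_sub_cancel, sub_sub_cancel] at h1
  have h2 : ρ w⁻¹ (ρ w (evc ι p i φ c (2 - x) (2 - y))) = evc ι p i φ c (2 - x) (2 - y) := by
    rw [← Module.End.mul_apply, ← map_mul, inv_mul_cancel, map_one, Module.End.one_apply]
  rw [h1, map_smul] at h2
  have h3 : ∀ x : Fin 3, sg k (2 - x) = sg k x := by
    intro x
    fin_cases x
    · rfl
    · rfl
    · rfl
  have h4 : ∀ x : Fin 3, sg k x * sg k x = 1 := by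
    intro x
    rw [sg_eq hK D, ← mul_pow]
    norm_num
  rw [h3, h3] at h2
  rw [← h2, smul_smul]
  rw [show (sg k x * sg k y) * (sg k x * sg k y) = (sg k x * sg k x) * (sg k y * sg k y) by ring, h4, h4, mul_one, one_smul]

theorem cF_eq (x : Fin 3) : sg k x * (cE k (2 - x) * sg k (2 - x + 1)) = cF k x := by
  fin_cases x
  · show (1 : k) * (cE k (2 - 0) * _) = 0
    rw [show (2 - 0 : Fin 3) = 2 from rfl, show cE k 2 = 0 from rfl]
    ring
  · show (-1 : k) * (cE k (2 - 1) * sg k (2 - 1 + 1)) = -1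
    rw [show (2 - 1 : Fin 3) = 1 from rfl, show (1 + 1 : Fin 3) = 2 from rfl, show cE k 1 = 1 from rfl,
      show sg k 2 = 1 from rfl]
    ring
  · show (1 : k) * (cE k (2 - 2) * sg k (2 - 2 + 1)) = -2
    rw [show (2 - 2 : Fin 3) = 0 from rfl, show (0 + 1 : Fin 3) = 1 from rfl, show cE k 0 = 2 from rfl,
      show sg k 1 = -1 from rfl]
    ring

/-- **the operators** -/
theorem ops {φ : ∀ c : Fin 3, Vb ι (bw p i c) →ₗ[k] V} (T : TT ι p i ρ φ) :
    Ops (evc ι p i φ) (fun d => Dm ι ρ (p ^ i d)) (fun d => ρ w⁻¹ ∘ₗ Dm ι ρ (p ^ i d) ∘ₗ ρ w) where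
  E1 := evE1 ι hK D T
  E2 := evE2 ι hK D T
  E0 := evE0 ι hK D T
  F1 c x y := by
    have h4 : ∀ x : Fin 3, sg k x * sg k x = 1 := by
      intro x
      rw [sg_eq hK D, ← mul_pow]
      norm_num
    have h3 : ∀ x : Fin 3, sg k (2 - x) = sg k x := by
      intro x
      fin_cases x
      · rfl
      · rfl
      · rfl
    have key : ∀ x : Fin 3, 2 - (2 - x + 1) = x - 1 := by decide
    show ρ w⁻¹ (Dm ι ρ (p ^ i (c + 1)) (ρ w (evc ι p i φ c x y))) = _
    rw [ev_w ι hK D T, map_smul, map_smul, evE1 ι hK D T, map_smul, ev_winv ι hK D T, smul_smul, smul_smul, key,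
      sub_sub_cancel, h3 y, ← cF_eq hK D x]
    congr 1
    linear_combination (sg k x * cE k (2 - x) * sg k (2 - x + 1)) * h4 y
  F2 c x y := by
    have h4 : ∀ x : Fin 3, sg k x * sg k x = 1 := by
      intro x
      rw [sg_eq hK D, ← mul_pow]
      norm_num
    have h3 : ∀ x : Fin 3, sg k (2 - x) = sg k x := by
      intro x
      fin_cases x
      · rfl
      · rfl
      · rfl
    have key : ∀ x : Fin 3, 2 - (2 - x + 1) = x - 1 := by decide
    show ρ w⁻¹ (Dm ι ρ (p ^ i (c + 2)) (ρ w (evc ι p i φ c x y))) = _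
    rw [ev_w ι hK D T, map_smul, map_smul, evE2 ι hK D T, map_smul, ev_winv ι hK D T, smul_smul, smul_smul, key,
      sub_sub_cancel, h3 x, ← cF_eq hK D y]
    congr 1
    linear_combination (sg k y * cE k (2 - y) * sg k (2 - y + 1)) * h4 x
  F0 c x y := by
    show ρ w⁻¹ (Dm ι ρ (p ^ i c) (ρ w (evc ι p i φ c x y))) = _
    rw [ev_w ι hK D T, map_smul, map_smul, evE0 ι hK D T, map_zero, smul_zero]

/-- the weights -/
theorem ev_h {φ : ∀ c : Fin 3, Vb ι (bw p i c) →ₗ[k] V} (T : TT ι p i ρ φ) (t : Kˣ) (c x y : Fin 3) :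
    ρ (h t) (evc ι p i φ c x y) = (ι t ^ W p i c x y) • evc ι p i φ c x y := by
  have ht : ι (t : K) ≠ 0 := (map_ne_zero ι).2 t.ne_zero
  have h1 := T.eqv c (h t) (mv ι p i c x y) ((ι t ^ W p i c x y) • mv ι p i c x y) (by
    rw [Submodule.coe_smul, coe_mv ι hK D, h_mon]
    congr 1
    rw [sub_mw, inv_pow, ← zpow_natCast, ← zpow_natCast, ← _root_.zpow_neg, ← zpow_add₀ ht]
    congr 1
    unfold W mw
    have key : ∀ x : Fin 3, 2 * wt x = (x : ℕ) - ((2 - x : Fin 3) : ℕ) := by decide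
    push_cast
    linear_combination (p : ℤ) ^ i (c + 1) * key x + (p : ℤ) ^ i (c + 2) * key y)
  rw [map_smul] at h1
  exact h1.symm

end

end Cfsg.Agent.R2.H14.T
end
end

-- part: R2/P3/L11b
section
prune_inst 0x24203455312202000004009443001ec3a300040000088000002003060680040040420820aa10210200a800040030006811100020424000000e000000011e01800000100460c10008020088000000410000000000000000000000000000010000004010000
set_option linter.all false
open scoped Cfsg.Agent.FastGrp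

-- part: R2/P3/Fun
section
/-!
# Modules of `SL(2, q)` as spaces of functions (R2/P3, helper17)

* `xi`, `et` : the Frobenius twists of the coordinate functions; `bf` : the monomials of `V_{c p^i + d p^j}`;
* `bf_mem`, `Vb_le_bf`; `Hm` : equivariant maps from `V_b`, as linear maps on all functions;
* `gen_zero` : an equivariant bilinear map on `V_b × V_b'` vanishes if it vanishes on (highest, lowest) weight vector;
* `psum_gen` : power sums; `exists_Hm` : the module generated by a vector `y` fixed by `U` for which `u(t) w y` is given.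
-/

set_option autoImplicit false
set_option linter.unusedSectionVars false

namespace Cfsg.Agent.R2.P3

open Matrix Cfsg.Agent.H943.SL2Rel Cfsg.Agent.H943.SL2Mod Cfsg.Agent.H943.RepAdd Cfsg.Agent.R2.H28.SL2

universe u v w

/-! ### digits -/

theorem dg_pair {p c d i j l : ℕ} (hp : 1 < p) (hij : i ≠ j) (hc : c < p) (hd : d < p) :
    (c * p ^ i + d * p ^ j) / p ^ l % p = if l = i then c else if l = j then d else 0 := by
  have h1 : ∀ m n : ℕ, m < p ^ n → ∀ d l : ℕ, (m + d * p ^ n) / p ^ l % p =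
      if l < n then m / p ^ l % p else d / p ^ (l - n) % p := by
    intro m n hm d l
    split_ifs with h
    · obtain ⟨e, rfl⟩ : ∃ e, n = l + (e + 1) := ⟨n - l - 1, by omega⟩
      have h2 : m + d * p ^ (l + (e + 1)) = m + p ^ l * (d * p ^ e * p) := by ring
      rw [h2, Nat.add_mul_div_left _ _ (Nat.pow_pos (by omega)), Nat.add_mul_mod_self_right]
    · obtain ⟨e, rfl⟩ : ∃ e, l = n + e := ⟨l - n, by omega⟩
      rw [pow_add, ← Nat.div_div_eq_div_mul, Nat.add_mul_div_right _ _ (Nat.pow_pos (by omega)),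
        Nat.div_eq_of_lt hm, zero_add, Nat.add_sub_cancel_left]
  have key : ∀ {c d i j l : ℕ}, i < j → c < p → d < p →
      (c * p ^ i + d * p ^ j) / p ^ l % p = if l = i then c else if l = j then d else 0 := by
    intro c d i j l h hc hd
    have h2 : c * p ^ i < p ^ j := by
      calc c * p ^ i < p * p ^ i := Nat.mul_lt_mul_of_pos_right hc (Nat.pow_pos (by omega))
        _ = p ^ (i + 1) := by rw [pow_succ, mul_comm]
        _ ≤ p ^ j := Nat.pow_le_pow_right (by omega) (by omega)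
    rw [h1 (c * p ^ i) j h2 d l, dg_single hp hc]
    by_cases hlj : l < j
    · rw [if_pos hlj, if_neg (show l ≠ j by omega)]
    · rw [if_neg hlj, if_neg (show l ≠ i by omega)]
      have h4 := dg_single hp hd 0 (l - j)
      rw [pow_zero, mul_one] at h4
      rw [h4]
      by_cases hl : l = j
      · rw [if_pos hl, if_pos (by omega)]
      · rw [if_neg hl, if_neg (by omega)]
  rcases Nat.lt_or_gt_of_ne hij with h | h
  · exact key h hc hd
  · rw [add_comm, key h hd hc]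
    by_cases hl : l = i
    · rw [if_pos hl, if_neg (by omega), if_pos hl]
    · rw [if_neg hl, if_neg hl]

theorem eq_of_dg {p : ℕ} (hp : 1 < p) : ∀ {m n : ℕ}, (∀ l, m / p ^ l % p = n / p ^ l % p) → m = n := by
  intro m
  induction m using Nat.strong_induction_on with
  | _ m ih =>
    intro n h
    by_cases h0 : m = 0
    · subst h0
      by_contra hn
      have hn' : 0 < n := by omega
      -- the leading digit of `n`
      have h1 : n / p ^ (Nat.log p n) % p = n / p ^ (Nat.log p n) := by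
        apply Nat.mod_eq_of_lt
        rw [Nat.div_lt_iff_lt_mul (Nat.pow_pos (by omega)), ← pow_succ']
        exact Nat.lt_pow_succ_log_self hp n
      have h2 := h (Nat.log p n)
      rw [h1, Nat.zero_div, Nat.zero_mod] at h2
      have h3 := Nat.div_pos (Nat.pow_log_le_self p (by omega : n ≠ 0)) (Nat.pow_pos (by omega))
      omega
    · have h1 := h 0
      rw [pow_zero, Nat.div_one, Nat.div_one] at h1
      have h2 : m / p = n / p := ih (m / p) (Nat.div_lt_self (by omega) hp) fun l => by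
        have h3 := h (l + 1)
        rwa [pow_succ', ← Nat.div_div_eq_div_mul, ← Nat.div_div_eq_div_mul] at h3
      rw [← Nat.div_add_mod m p, ← Nat.div_add_mod n p, h1, h2]

theorem pair_lt_pow {p a c d i j : ℕ} (hp : 1 < p) (hij : i ≠ j) (hc : c < p) (hd : d < p) (hi : i < a) (hj : j < a) :
    c * p ^ i + d * p ^ j < p ^ a := by
  have key : ∀ {c d i j : ℕ}, i < j → j < a → c < p → d < p → c * p ^ i + d * p ^ j < p ^ a := by
    intro c d i j h hj hc hd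
    have h2 : c * p ^ i < p ^ j := by
      calc c * p ^ i < p * p ^ i := Nat.mul_lt_mul_of_pos_right hc (Nat.pow_pos (by omega))
        _ = p ^ (i + 1) := by rw [pow_succ, mul_comm]
        _ ≤ p ^ j := Nat.pow_le_pow_right (by omega) (by omega)
    calc c * p ^ i + d * p ^ j < p ^ j + d * p ^ j := Nat.add_lt_add_right h2 _
      _ = (d + 1) * p ^ j := by ring
      _ ≤ p * p ^ j := Nat.mul_le_mul_right _ (by omega)
      _ = p ^ (j + 1) := by rw [pow_succ, mul_comm]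
      _ ≤ p ^ a := Nat.pow_le_pow_right (by omega) (by omega)
  rcases Nat.lt_or_gt_of_ne hij with h | h
  · exact key h hj hc hd
  · rw [add_comm]
    exact key h hi hd hc

/-! ### functions -/

variable {k : Type u} [Field k] {F : Type w} [Field F] [Fintype F] [DecidableEq F] (ι : F →+* k)

/-- the twists of the first coordinate -/
def xi (p i : ℕ) : F × F → k := fun z => ι z.1 ^ p ^ i

/-- the twists of the second coordinate -/
def et (p i : ℕ) : F × F → k := fun z => ι z.2 ^ p ^ i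

theorem fRep_mul (g : _root_.Matrix.SpecialLinearGroup (Fin 2) F) (f f' : F × F → k) :
    fRep k F g (f * f') = fRep k F g f * fRep k F g f' := rfl

theorem fRep_pow (g : _root_.Matrix.SpecialLinearGroup (Fin 2) F) (f : F × F → k) (n : ℕ) :
    fRep k F g (f ^ n) = fRep k F g f ^ n := rfl

/-- the monomials of `V_{c p^i + d p^j}` -/
def bf (p i j c d x y : ℕ) : F × F → k := xi ι p i ^ x * et ι p i ^ (c - x) * (xi ι p j ^ y * et ι p j ^ (d - y))

theorem bf_eq_mon (p i j : ℕ) {c d x y : ℕ} (hx : x ≤ c) (hy : y ≤ d) :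
    bf ι p i j c d x y = mon ι (c * p ^ i + d * p ^ j) (x * p ^ i + y * p ^ j) := by
  funext z
  have h1 : c * p ^ i + d * p ^ j - (x * p ^ i + y * p ^ j) = (c - x) * p ^ i + (d - y) * p ^ j := by
    rw [Nat.sub_mul, Nat.sub_mul]
    have := Nat.mul_le_mul_right (p ^ i) hx
    have := Nat.mul_le_mul_right (p ^ j) hy
    omega
  show (ι z.1 ^ p ^ i) ^ x * (ι z.2 ^ p ^ i) ^ (c - x) * ((ι z.1 ^ p ^ j) ^ y * (ι z.2 ^ p ^ j) ^ (d - y)) =
    ι z.1 ^ (x * p ^ i + y * p ^ j) * ι z.2 ^ (c * p ^ i + d * p ^ j - (x * p ^ i + y * p ^ j))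
  rw [h1, pow_add, pow_add, ← pow_mul, ← pow_mul, ← pow_mul, ← pow_mul, mul_comm (p ^ i) x, mul_comm (p ^ j) y,
    mul_comm (p ^ i) (c - x), mul_comm (p ^ j) (d - y)]
  ring

variable (p : ℕ) [Fact p.Prime] [CharP k p] [CharP F p]

theorem fRep_u_xi (i : ℕ) (t : F) : fRep k F (u t) (xi ι p i) = xi ι p i := by
  funext z
  obtain ⟨x, y⟩ := z
  rw [fRep_u]
  rfl

omit [CharP F p] in
theorem fRep_u_et (i : ℕ) (t : F) : fRep k F (u t) (et ι p i) = et ι p i + (ι t ^ p ^ i) • xi ι p i := by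
  funext z
  obtain ⟨x, y⟩ := z
  rw [fRep_u]
  show ι (x * t + y) ^ p ^ i = ι y ^ p ^ i + ι t ^ p ^ i * ι x ^ p ^ i
  rw [map_add, map_mul, add_pow_char_pow, mul_pow]
  ring

omit [CharP F p] in
theorem fRep_w_xi (i : ℕ) : fRep k F w (xi ι p i) = -et ι p i := by
  funext z
  obtain ⟨x, y⟩ := z
  rw [fRep_w]
  show ι (-y) ^ p ^ i = -ι y ^ p ^ i
  have h := add_pow_char_pow (n := i) (p := p) (ι (-y)) (ι y)
  rw [← map_add, neg_add_cancel, map_zero, zero_pow (pow_ne_zero _ (Fact.out : p.Prime).ne_zero)] at h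
  exact eq_neg_of_add_eq_zero_left h.symm

theorem fRep_w_et (i : ℕ) : fRep k F w (et ι p i) = xi ι p i := by
  funext z
  obtain ⟨x, y⟩ := z
  rw [fRep_w]
  rfl

theorem fRep_h_xi (i : ℕ) (a : Fˣ) : fRep k F (h a) (xi ι p i) = (ι a ^ p ^ i) • xi ι p i := by
  funext z
  obtain ⟨x, y⟩ := z
  rw [fRep_h]
  show ι (x * a) ^ p ^ i = ι a ^ p ^ i * ι x ^ p ^ i
  rw [map_mul, mul_pow, mul_comm]

theorem fRep_h_et (i : ℕ) (a : Fˣ) : fRep k F (h a) (et ι p i) = ((ι a)⁻¹ ^ p ^ i) • et ι p i := by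
  funext z
  obtain ⟨x, y⟩ := z
  rw [fRep_h]
  show ι (y * (a : F)⁻¹) ^ p ^ i = (ι a)⁻¹ ^ p ^ i * ι y ^ p ^ i
  rw [map_mul, mul_pow, map_inv₀, mul_comm]

section Mem

variable {i j c d : ℕ}

theorem bf_mem (hij : i ≠ j) (hc : c < p) (hd : d < p) (hb : c * p ^ i + d * p ^ j ≤ Fintype.card F - 1) {x y : ℕ}
    (hx : x ≤ c) (hy : y ≤ d) : bf ι p i j c d x y ∈ Vb ι (c * p ^ i + d * p ^ j) := by
  classical
  have hp : p.Prime := Fact.out
  rw [bf_eq_mon ι p i j hx hy]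
  refine Cfsg.Agent.H179.SLC.mon_mem_Vb ι p (neg_one_pow_Q ι) hb ⟨?_, ?_⟩
  · exact Nat.add_le_add (Nat.mul_le_mul_right _ hx) (Nat.mul_le_mul_right _ hy)
  · rw [choose_ne_iff p]
    intro l
    rw [dg_pair hp.one_lt hij (by omega) (by omega), dg_pair hp.one_lt hij hc hd]
    split_ifs <;> omega

/-- the monomials span -/
theorem Vb_le_bf (hij : i ≠ j) (hc : c < p) (hd : d < p) {P : (F × F → k) → Prop}
    (h0 : P 0) (ha : ∀ f f', P f → P f' → P (f + f')) (hs : ∀ (a : k) f, P f → P (a • f))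
    (hb : ∀ x ≤ c, ∀ y ≤ d, P (bf ι p i j c d x y)) {f : F × F → k} (hf : f ∈ Vb ι (c * p ^ i + d * p ^ j)) : P f := by
  have hp : p.Prime := Fact.out
  have h1 := Vb_le ι (c * p ^ i + d * p ^ j) hf
  clear hf
  induction h1 using Submodule.span_induction with
  | mem f hf' =>
    obtain ⟨m, ⟨hm1, hm2⟩, rfl⟩ := hf'
    rw [choose_ne_iff p] at hm2
    have hx := hm2 i
    have hy := hm2 j
    rw [dg_pair hp.one_lt hij hc hd, if_pos rfl] at hx
    rw [dg_pair hp.one_lt hij hc hd, if_neg (Ne.symm hij), if_pos rfl] at hy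
    have h2 : m = m / p ^ i % p * p ^ i + m / p ^ j % p * p ^ j := by
      refine eq_of_dg hp.one_lt fun l => ?_
      rw [dg_pair hp.one_lt hij (Nat.mod_lt _ hp.pos) (Nat.mod_lt _ hp.pos)]
      split_ifs with hl hl'
      · rw [hl]
      · rw [hl']
      · have := hm2 l
        rw [dg_pair hp.one_lt hij hc hd, if_neg hl, if_neg hl'] at this
        omega
    rw [h2, ← bf_eq_mon ι p i j hx hy]
    exact hb _ hx _ hy
  | zero => exact h0
  | add f f' _ _ h1 h2 => exact ha f f' h1 h2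
  | smul a f _ h1 => exact hs a f h1

end Mem

end Cfsg.Agent.R2.P3
end

-- part: R2/P3/Hm
section
/-!
# Equivariant maps from `V_b` (R2/P3, helper17)

* `Hm` : equivariant maps from `V_b`, as linear maps on all functions; `exists_Hm_of_IsV`, `Hm.inSoc`, `Hm.inj`;
* `gen_zero` : an equivariant bilinear map on `V_b × V_b'` vanishes if it vanishes on (highest, lowest) weight vector;
* `fix_of` : vectors fixed by `U`, `T`, `w`;
* `psum_gen` : power sums; `exists_Hm` : the module generated by a vector `y` fixed by `U` for which `u(t) w y` is given.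
-/

set_option autoImplicit false
set_option linter.unusedSectionVars false

namespace Cfsg.Agent.R2.P3

open Matrix Cfsg.Agent.H943.SL2Rel Cfsg.Agent.H943.SL2Mod Cfsg.Agent.H943.RepAdd Cfsg.Agent.R2.H28.SL2

universe u v w

variable {k : Type u} [Field k] {F : Type w} [Field F] [Fintype F] [DecidableEq F] (ι : F →+* k)

section

variable {V : Type*} [AddCommGroup V] [Module k V] (r : Representation k (_root_.Matrix.SpecialLinearGroup (Fin 2) F) V)

/-- equivariant maps from `V_b` -/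
def Hm (b : ℕ) (Φ : (F × F → k) →ₗ[k] V) : Prop := ∀ g, ∀ f ∈ Vb ι b, Φ (fRep k F g f) = r g (Φ f)

variable {ι r}

/-- vectors fixed by `U`, `T` and `w` are fixed -/
theorem fix_of {x : V} (hu : ∀ t, r (u t) x = x) (hh : ∀ a, r (h a) x = x) (hw : r w x = x)
    (g : _root_.Matrix.SpecialLinearGroup (Fin 2) F) : r g x = x := by
  refine induct (P := fun g => r g x = x) hu hh hw ?_ g
  intro a b ha hb
  rw [map_mul, Module.End.mul_apply, hb, ha]

/-- **an equivariant bilinear map is determined by its value on (highest weight, lowest weight)** -/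
theorem gen_zero {b b' : ℕ} {B : (F × F → k) →ₗ[k] (F × F → k) →ₗ[k] V}
    (hB : ∀ g, ∀ f ∈ Vb ι b, ∀ f' ∈ Vb ι b', B (fRep k F g f) (fRep k F g f') = r g (B f f'))
    (hi' : ∀ g, ∀ f ∈ Vb ι b', fRep k F g f ∈ Vb ι b')
    (hm : mon ι b b ∈ Vb ι b) (hm' : mon ι b' b' ∈ Vb ι b')
    (h0 : B (mon ι b b) (fRep k F w (mon ι b' b')) = 0) : ∀ f ∈ Vb ι b, ∀ f' ∈ Vb ι b', B f f' = 0 := by
  -- the highest weight vector is fixed by `U`
  have hfix : ∀ t : F, fRep k F (u t) (mon ι b b) = mon ι b b := by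
    intro t
    funext z
    obtain ⟨x, y⟩ := z
    rw [fRep_u, mon_self, mon_self]
  have h1 : ∀ f' ∈ Vb ι b', B (mon ι b b) f' = 0 := by
    intro f' hf'
    have hle : Vb ι b' ≤ LinearMap.ker (B (mon ι b b)) := by
      refine Submodule.span_le.2 ?_
      rintro _ ⟨t, d, hd, rfl⟩
      obtain ⟨c, rfl⟩ := Submodule.mem_span_singleton.1 hd
      rw [SetLike.mem_coe, LinearMap.mem_ker, map_smul, map_smul, map_smul]
      have h2 := hB (u t) _ hm _ (hi' w _ hm')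
      rw [hfix, h0, map_zero] at h2
      rw [h2, smul_zero]
    exact LinearMap.mem_ker.1 (hle hf')
  intro f hf f' hf'
  have hle : Vb ι b ≤ LinearMap.ker (B.flip f') := by
    refine Submodule.span_le.2 ?_
    rintro _ ⟨t, d, hd, rfl⟩
    obtain ⟨c, rfl⟩ := Submodule.mem_span_singleton.1 hd
    rw [SetLike.mem_coe, LinearMap.mem_ker, map_smul, map_smul, map_smul, LinearMap.flip_apply]
    have h2 := hB (u t * w) _ hm _ (hi' (u t * w)⁻¹ _ hf')
    rw [h1 _ (hi' _ _ hf'), map_zero] at h2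
    have h3 : fRep k F (u t * w) (fRep k F (u t * w)⁻¹ f') = f' := by
      rw [← Module.End.mul_apply, ← map_mul, mul_inv_cancel, map_one, Module.End.one_apply]
    rw [h3, map_mul, Module.End.mul_apply] at h2
    rw [h2, smul_zero]
  exact LinearMap.mem_ker.1 (hle hf)

end

variable (p : ℕ) [Fact p.Prime] [CharP k p] [CharP F p]

include p in
theorem inv_Vb' {b : ℕ} (hb : b ≤ Fintype.card F - 1) : ∀ g, ∀ f ∈ Vb ι b, fRep k F g f ∈ Vb ι b :=
  Cfsg.Agent.H179.SLC.inv_Vb ι p (neg_one_pow_Q ι) hb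

include p in
theorem top_mem {b : ℕ} (hb : b ≤ Fintype.card F - 1) : mon ι b b ∈ Vb ι b :=
  Cfsg.Agent.H179.SLC.Db_le ι p (neg_one_pow_Q ι) hb (mon_mem_Db ι b)

section

variable {V : Type*} [AddCommGroup V] [Module k V] {r : Representation k (_root_.Matrix.SpecialLinearGroup (Fin 2) F) V}

theorem exists_Hm_of_IsV {X : Submodule k V} {hX : ∀ g, ∀ x ∈ X, r g x ∈ X} {b : ℕ} (h : IsV ι p (subRep r X hX) b) :
    ∃ Φ : (F × F → k) →ₗ[k] V, Hm ι r b Φ ∧ (∀ f ∈ Vb ι b, Φ f ∈ X) ∧ (∀ x ∈ X, ∃ f ∈ Vb ι b, Φ f = x) ∧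
      ∀ f ∈ Vb ι b, Φ f = 0 → f = 0 := by
  obtain ⟨hb, φ, hφ⟩ := h
  obtain ⟨Φ, hΦ⟩ := LinearMap.exists_extend (X.subtype ∘ₗ (φ : Vb ι b →ₗ[k] X))
  have h1 : ∀ f (hf : f ∈ Vb ι b), Φ f = φ ⟨f, hf⟩ := fun f hf => LinearMap.congr_fun hΦ ⟨f, hf⟩
  refine ⟨Φ, ?_, ?_, ?_, ?_⟩
  · intro g f hf
    rw [h1 _ (inv_Vb' ι p hb g f hf), h1 _ hf]
    exact congrArg Subtype.val (hφ g ⟨f, hf⟩)
  · intro f hf
    rw [h1 _ hf]
    exact (φ _).2
  · intro x hx
    obtain ⟨f, hf⟩ := φ.surjective ⟨x, hx⟩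
    exact ⟨f, f.2, by rw [h1 _ f.2, Subtype.coe_eta, hf]⟩
  · intro f hf h0
    rw [h1 _ hf] at h0
    have h2 : φ ⟨f, hf⟩ = 0 := Subtype.ext h0
    exact congrArg Subtype.val (φ.map_eq_zero_iff.1 h2)

/-- the restriction to `V_b` -/
theorem Hm.inSoc [IsAlgClosed k] [DecidableEq k] {b : ℕ} (hb : b ≤ Fintype.card F - 1) {Φ : (F × F → k) →ₗ[k] V}
    (hΦ : Hm ι r b Φ) (h0 : ∃ f ∈ Vb ι b, Φ f ≠ 0) : InSoc ι p r b := by
  refine inSoc_of_hom ι p (σ := RB ι p hb) ⟨hb, LinearEquiv.refl k _, fun g x => rfl⟩ (Φ ∘ₗ (Vb ι b).subtype)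
    (fun g x => hΦ g x x.2) ?_
  obtain ⟨f, hf, hf0⟩ := h0
  intro h
  exact hf0 (LinearMap.congr_fun h ⟨f, hf⟩)

include p in
theorem Hm.inj {b : ℕ} (hb : b ≤ Fintype.card F - 1) {Φ : (F × F → k) →ₗ[k] V}
    (hΦ : Hm ι r b Φ) (h0 : ∃ f ∈ Vb ι b, Φ f ≠ 0) : ∀ f ∈ Vb ι b, Φ f = 0 → f = 0 := by
  have h1 := Cfsg.Agent.H179.SLC.irr_rb ι p ι.injective (neg_one_pow_Q ι) hb
  rcases h1.2 (LinearMap.ker (Φ ∘ₗ (Vb ι b).subtype)) (by
    intro g x hx
    rw [LinearMap.mem_ker] at hx ⊢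
    have h2 := hΦ g x x.2
    have hx' : Φ x = 0 := hx
    show Φ (fRep k F g x) = 0
    rw [h2, hx', map_zero]) with h2 | h2
  · intro f hf hf0
    have h3 : (⟨f, hf⟩ : Vb ι b) ∈ LinearMap.ker (Φ ∘ₗ (Vb ι b).subtype) := hf0
    rw [h2, Submodule.mem_bot] at h3
    exact congrArg Subtype.val h3
  · obtain ⟨f, hf, hf0⟩ := h0
    have h3 : (⟨f, hf⟩ : Vb ι b) ∈ LinearMap.ker (Φ ∘ₗ (Vb ι b).subtype) := by rw [h2]; trivial
    exact absurd h3 hf0

omit [Fact p.Prime] [CharP k p] [CharP F p] in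
/-- `Φ ≠ 0` on `V_b` iff it is non-zero on the highest weight vector -/
theorem Hm.zero {b : ℕ} {Φ : (F × F → k) →ₗ[k] V}
    (hΦ : Hm ι r b Φ) (h0 : Φ (mon ι b b) = 0) (hm : mon ι b b ∈ Vb ι b)
    (hi : ∀ g, ∀ f ∈ Vb ι b, fRep k F g f ∈ Vb ι b) : ∀ f ∈ Vb ι b, Φ f = 0 := by
  intro f hf
  have hle : Vb ι b ≤ LinearMap.ker Φ := by
    refine Submodule.span_le.2 ?_
    rintro _ ⟨t, d, hd, rfl⟩
    obtain ⟨c, rfl⟩ := Submodule.mem_span_singleton.1 hd
    rw [SetLike.mem_coe, LinearMap.mem_ker, map_smul, map_smul, map_smul, hΦ _ _ (hi _ _ hm), hΦ _ _ hm, h0, map_zero,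
      map_zero, smul_zero]
  exact LinearMap.mem_ker.1 (hle hf)

end

include p in
/-- the power sums -/
theorem psum_gen (e : ℕ) : ∑ t : F, ι t ^ e = if e ≠ 0 ∧ Fintype.card F - 1 ∣ e then -1 else 0 := by
  classical
  have hq := one_lt (F := F)
  by_cases h0 : e = 0
  · subst h0
    rw [if_neg (fun h => h.1 rfl)]
    simp only [pow_zero, Finset.sum_const, Finset.card_univ, nsmul_eq_mul, mul_one]
    exact card_zero (k := k) (F := F) p
  · -- reduce the exponent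
    obtain ⟨d, hd1, hd2, hd3⟩ : ∃ d, d ≠ 0 ∧ d ≤ Fintype.card F - 1 ∧ d % (Fintype.card F - 1) = e % (Fintype.card F - 1) := by
      by_cases he : Fintype.card F - 1 ∣ e
      · refine ⟨Fintype.card F - 1, by omega, le_rfl, ?_⟩
        rw [Nat.mod_self, Nat.mod_eq_zero_of_dvd he]
      · refine ⟨e % (Fintype.card F - 1), fun h => he (Nat.dvd_of_mod_eq_zero h), (Nat.mod_lt _ (by omega)).le, ?_⟩
        exact Nat.mod_mod _ _
    have h1 : ∑ t : F, ι t ^ e = ∑ t : F, ι t ^ d := by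
      refine Finset.sum_congr rfl fun t _ => ?_
      by_cases ht : t = 0
      · rw [ht, map_zero, zero_pow h0, zero_pow hd1]
      · rw [← Nat.div_add_mod e (Fintype.card F - 1), ← Nat.div_add_mod d (Fintype.card F - 1), pow_add, pow_add,
          pow_mul, pow_mul, powQ ι ht, one_pow, one_pow, hd3]
    rw [h1, psum ι (by omega)]
    by_cases he : Fintype.card F - 1 ∣ e
    · have hd : d = Fintype.card F - 1 := by
        rw [Nat.mod_eq_zero_of_dvd he] at hd3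
        have := Nat.dvd_of_mod_eq_zero hd3
        have := Nat.le_of_dvd (by omega) this
        omega
      rw [if_pos hd, if_pos ⟨h0, he⟩]
    · have hd : d ≠ Fintype.card F - 1 := by
        rintro rfl
        rw [Nat.mod_self] at hd3
        exact he (Nat.dvd_of_mod_eq_zero hd3.symm)
      rw [if_neg hd, if_neg (fun h => he h.2)]

section

variable {V : Type*} [AddCommGroup V] [Module k V] {r : Representation k (_root_.Matrix.SpecialLinearGroup (Fin 2) F) V}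

include p in
/-- **coefficients** -/
theorem coeff_zero {α : Type*} {J : Finset α} {e : α → ℕ} {z : α → V} (hz : ∀ t : F, ∑ j ∈ J, ι t ^ e j • z j = 0)
    {j₀ : α} (hj₀ : j₀ ∈ J)
    (hne : ∀ j ∈ J, j ≠ j₀ → e j % (Fintype.card F - 1) ≠ e j₀ % (Fintype.card F - 1)) : z j₀ = 0 := by
  classical
  have hq := one_lt (F := F)
  -- the complementary exponent
  obtain ⟨n, hn⟩ : ∃ n, n = Fintype.card F - 1 - e j₀ % (Fintype.card F - 1) := ⟨_, rfl⟩
  have hlt := Nat.mod_lt (e j₀) (show 0 < Fintype.card F - 1 by omega)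
  have hn0 : n ≠ 0 := by omega
  have key : ∀ e' : ℕ, Fintype.card F - 1 ∣ n + e' ↔ e' % (Fintype.card F - 1) = e j₀ % (Fintype.card F - 1) := by
    intro e'
    have h1 : n + e j₀ % (Fintype.card F - 1) = Fintype.card F - 1 := by omega
    constructor
    · intro h
      have h2 : n + e' ≡ n + e j₀ [MOD Fintype.card F - 1] := by
        have h3 : Fintype.card F - 1 ∣ n + e j₀ := by
          rw [← Nat.div_add_mod (e j₀) (Fintype.card F - 1)]
          have h4 : n + ((Fintype.card F - 1) * (e j₀ / (Fintype.card F - 1)) + e j₀ % (Fintype.card F - 1)) =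
              (Fintype.card F - 1) * (e j₀ / (Fintype.card F - 1)) + (Fintype.card F - 1) := by omega
          rw [h4]
          exact Dvd.dvd.add (Dvd.intro _ rfl) (dvd_refl _)
        exact ((Nat.modEq_zero_iff_dvd).2 h).trans ((Nat.modEq_zero_iff_dvd).2 h3).symm
      exact Nat.ModEq.add_left_cancel' n h2
    · intro h
      rw [← Nat.div_add_mod e' (Fintype.card F - 1), h]
      have h4 : n + ((Fintype.card F - 1) * (e' / (Fintype.card F - 1)) + e j₀ % (Fintype.card F - 1)) =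
          (Fintype.card F - 1) * (e' / (Fintype.card F - 1)) + (Fintype.card F - 1) := by omega
      rw [h4]
      exact Dvd.dvd.add (Dvd.intro _ rfl) (dvd_refl _)
  have h1 : ∑ t : F, ι t ^ n • ∑ j ∈ J, ι t ^ e j • z j = 0 :=
    Finset.sum_eq_zero fun t _ => by rw [hz, smul_zero]
  have h2 : ∑ t : F, ι t ^ n • ∑ j ∈ J, ι t ^ e j • z j = ∑ j ∈ J, (∑ t : F, ι t ^ (n + e j)) • z j := by
    simp only [Finset.smul_sum, smul_smul, ← pow_add, Finset.sum_smul]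
    exact Finset.sum_comm
  rw [h2, Finset.sum_eq_single j₀] at h1
  · rw [psum_gen ι p, if_pos ⟨by omega, (key _).2 rfl⟩, neg_one_smul] at h1
    exact neg_eq_zero.1 h1
  · intro j hj hjj
    rw [psum_gen ι p, if_neg, zero_smul]
    rintro ⟨-, h3⟩
    rw [key] at h3
    exact hne j hj hjj h3
  · intro h
    exact absurd hj₀ h

/-- **the module generated by a vector** -/
theorem exists_Hm [DecidableEq k] {a : ℕ} (hF : Fintype.card F = p ^ a) {c : ℕ} (hc : c < Fintype.card F - 1) {y : V}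
    (hu : ∀ t, r (u t) y = y) (hh : ∀ a, r (h a) y = ι a ^ c • y) {α : Type*} {J : Finset α} {e : α → ℕ} {z : α → V}
    (hz : ∀ t, r (u t) (r w y) = ∑ j ∈ J, ι t ^ e j • z j)
    (h1 : ∀ j ∈ J, e j ≠ 0 → e j % (Fintype.card F - 1) = 0 → z j = 0)
    (h2 : ∀ s < a, c / p ^ s % p + 1 < p → ∀ j ∈ J,
      e j % (Fintype.card F - 1) = en p c s % (Fintype.card F - 1) → z j = 0) :
    ∃ Φ : (F × F → k) →ₗ[k] V, Hm ι r c Φ ∧ Φ (mon ι c c) = y := by
  have hp : p.Prime := Fact.out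
  have hq := one_lt (F := F)
  obtain ⟨Q, hQ⟩ : ∃ Q, Q = Fintype.card F - 1 := ⟨_, rfl⟩
  rw [← hQ] at hc h1 h2
  have hmem : mon ι c c ∈ Vb ι c := top_mem ι p (by omega)
  have hσ : IsV ι p (RB ι p (show c ≤ Fintype.card F - 1 by omega)) c :=
    ⟨by omega, LinearEquiv.refl k _, fun g x => rfl⟩
  obtain ⟨f, hf1, hf2⟩ := gen_hw ι p r hF hσ (m := ⟨mon ι c c, hmem⟩)
    (fun h0 => mon_ne_zero ι c (congrArg Subtype.val h0)) (fun t => by
      apply Subtype.ext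
      show fRep k F (u t) (mon ι c c) = mon ι c c
      funext z
      obtain ⟨x, y⟩ := z
      rw [fRep_u, mon_self, mon_self]) hu hh (by
      have hcb : cb k F c = 0 := if_pos (by omega)
      rw [hcb, zero_smul, SS_apply, Finset.sum_congr rfl fun t _ => hz t, Finset.sum_comm]
      refine Finset.sum_eq_zero fun j hj => ?_
      rw [← Finset.sum_smul, psum_gen ι p]
      by_cases hj0 : e j ≠ 0 ∧ Fintype.card F - 1 ∣ e j
      · rw [h1 j hj hj0.1 (by rw [hQ]; exact Nat.mod_eq_zero_of_dvd hj0.2), smul_zero]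
      · rw [if_neg hj0, zero_smul]) (fun s hs hlt => by
      have he1 : 1 ≤ en p c s := en_pos hp.pos
      have he2 : en p c s ≤ p ^ a - 1 := en_le hp.pos hs hlt
      rw [Dm_apply, neg_eq_zero, Finset.sum_congr rfl fun t _ => by rw [hz t, Finset.smul_sum], Finset.sum_comm]
      refine Finset.sum_eq_zero fun j hj => ?_
      have h3 : ∀ t : F, ι t ^ (Fintype.card F - 1 - en p c s) • ι t ^ e j • z j =
          ι t ^ (Fintype.card F - 1 - en p c s + e j) • z j := fun t => by rw [smul_smul, pow_add]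
      rw [Finset.sum_congr rfl fun t _ => h3 t, ← Finset.sum_smul, psum_gen ι p]
      by_cases hj0 : Fintype.card F - 1 - en p c s + e j ≠ 0 ∧ Fintype.card F - 1 ∣ Fintype.card F - 1 - en p c s + e j
      · rw [h2 s hs hlt j hj ?_, smul_zero]
        rw [← hQ] at hj0
        have h4 : Q - en p c s + e j + en p c s = e j + Q := by omega
        have h5 : (Q - en p c s + e j + en p c s) % Q = en p c s % Q := by
          rw [Nat.add_mod, Nat.mod_eq_zero_of_dvd hj0.2, zero_add, Nat.mod_mod]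
        rw [h4, Nat.add_mod_right] at h5
        exact h5
      · rw [if_neg hj0, zero_smul])
  obtain ⟨Φ, hΦ⟩ := LinearMap.exists_extend f
  have h3 : ∀ f' (hf' : f' ∈ Vb ι c), Φ f' = f ⟨f', hf'⟩ := fun f' hf' => LinearMap.congr_fun hΦ ⟨f', hf'⟩
  refine ⟨Φ, fun g f' hf' => ?_, by rw [h3 _ hmem, hf2]⟩
  rw [h3 _ (inv_Vb' ι p (by omega) g f' hf'), h3 _ hf', ← hf1]
  rfl

end

end Cfsg.Agent.R2.P3
end

-- part: R2/P3/Base
section
/-!
# The cubic form and the trilinear form on modules `V_b` (R2/P3, helper17)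

* `wt_eq`, `Wt`, `bf_wt` : weights; `pair_lt_Q`;
* `gen_tri` : invariant trilinear forms;
* `Trr Φ Φ' Φ''` : `tf (cr (Φ f) (Φ' f')) (Φ'' f'')`; `Trr_inv`, `Trr_wt`;
* `N_zero` : the cubic form vanishes on `Φ(V_b)` if the trilinear form does (`p = 3`).
-/

set_option autoImplicit false
set_option linter.unusedSectionVars false

namespace Cfsg.Agent.R2.P3

open Matrix Cfsg.Agent.H943.SL2Rel Cfsg.Agent.H943.SL2Mod Cfsg.Agent.H943.RepAdd Cfsg.Agent.R2.H28.SL2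
open Cfsg.Lie
open Cfsg.Agent.ChevalleyStructure.E6Min.Basic (Zgrp)
open Cfsg.Agent.ChevalleyStructure.E6Min.Inv
open Cfsg.Agent.H952.F4 (sh cr tf)
open Cfsg.Agent.H952.F4.Jord
open Cfsg.Agent.H163.E6 (V V')
open Cfsg.Agent.H163.E6.Act
open Cfsg.Agent.R2.GEO (Pair crB crB_apply tfB tfB_apply)

universe u v w

/-! ### arithmetic -/

theorem pair_lt_Q {a i j : ℕ} (ha : 3 ≤ a) (hij : i ≠ j) (hi : i < a) (hj : j < a) :
    2 * 3 ^ i + 2 * 3 ^ j < 3 ^ a - 1 := by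
  have key : ∀ {i j : ℕ}, i < j → j < a → 2 * 3 ^ i + 2 * 3 ^ j < 3 ^ a - 1 := by
    intro i j hij hj
    obtain ⟨d, rfl⟩ : ∃ d, a = d + 1 := ⟨a - 1, by omega⟩
    obtain ⟨e, rfl⟩ : ∃ e, d = e + 1 := ⟨d - 1, by omega⟩
    have h1 : 3 ^ i ≤ 3 ^ e := Nat.pow_le_pow_right (by norm_num) (by omega)
    have h2 : 3 ^ j ≤ 3 ^ (e + 1) := Nat.pow_le_pow_right (by norm_num) (by omega)
    have h3 : 3 ^ 1 ≤ 3 ^ e := Nat.pow_le_pow_right (by norm_num) (by omega)
    rw [pow_one] at h3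
    rw [pow_succ] at h2
    rw [pow_succ, pow_succ]
    omega
  rcases Nat.lt_or_gt_of_ne hij with h | h
  · exact key h hj
  · rw [add_comm]
    exact key h hi

section Wt

variable {k : Type u} [Field k] {F : Type w} [Field F] [Fintype F] [DecidableEq F] (ι : F →+* k)

theorem wt_eq {M N : ℕ} (h : ∀ a : Fˣ, ι a ^ M = ι a ^ N) : M % (Fintype.card F - 1) = N % (Fintype.card F - 1) := by
  classical
  obtain ⟨lam, hlam⟩ := IsCyclic.exists_generator (α := Fˣ)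
  have h1 := primitive ι ι.injective hlam
  have h2 := h lam
  obtain ⟨Q, hQ⟩ : ∃ Q, Q = Fintype.card F - 1 := ⟨_, rfl⟩
  have hq := one_lt (F := F)
  rw [← hQ] at h1 ⊢
  have hQ0 : 0 < Q := by omega
  have key : ∀ n, (ι lam : k) ^ n = ι lam ^ (n % Q) := fun n => by
    nth_rewrite 1 [← Nat.div_add_mod n Q]
    rw [pow_add, pow_mul, h1.pow_eq_one, one_pow, one_mul]
  rw [key M, key N] at h2
  exact h1.pow_inj (Nat.mod_lt _ hQ0) (Nat.mod_lt _ hQ0) h2

variable {V : Type*} [AddCommGroup V] [Module k V]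

/-- weights -/
def Wt (r : Representation k (_root_.Matrix.SpecialLinearGroup (Fin 2) F) V) (x : V) (m n : ℕ) : Prop :=
  ∀ a, r (h a) x = (ι a ^ m * (ι a)⁻¹ ^ n) • x

variable {ι}

theorem pow_inv_eq {x : k} (hx : x ≠ 0) {m n : ℕ} : x ^ m * x⁻¹ ^ n = 1 → x ^ m = x ^ n := by
  intro h
  rw [inv_pow] at h
  exact (mul_inv_eq_one₀ (pow_ne_zero n hx)).1 h

theorem iota_ne (a : Fˣ) : (ι a : k) ≠ 0 := by
  rw [Ne, map_eq_zero]
  exact a.ne_zero

/-- a vector of weight zero -/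
theorem Wt.fix {r : Representation k (_root_.Matrix.SpecialLinearGroup (Fin 2) F) V} {x : V} {m : ℕ} (hw : Wt ι r x m m) (a : Fˣ) :
    r (h a) x = x := by
  rw [hw, inv_pow, mul_inv_cancel₀ (pow_ne_zero _ (iota_ne a)), one_smul]

variable (p : ℕ) [Fact p.Prime] [CharP k p] [CharP F p] (ι)

theorem xi_wt (i : ℕ) (x : ℕ) : Wt ι (fRep k F) (xi ι p i ^ x) (x * p ^ i) 0 := by
  intro a
  rw [fRep_pow, fRep_h_xi, smul_pow, ← pow_mul, mul_comm x, pow_zero, mul_one]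

theorem et_wt (i : ℕ) (x : ℕ) : Wt ι (fRep k F) (et ι p i ^ x) 0 (x * p ^ i) := by
  intro a
  rw [fRep_pow, fRep_h_et, smul_pow, ← pow_mul, mul_comm x, pow_zero, one_mul]

omit [Fact p.Prime] [CharP k p] [CharP F p] in
theorem Wt.mul {f f' : F × F → k} {m n m' n' : ℕ} (h : Wt ι (fRep k F) f m n) (h' : Wt ι (fRep k F) f' m' n') :
    Wt ι (fRep k F) (f * f') (m + m') (n + n') := by
  intro a
  rw [fRep_mul, h, h', smul_mul_smul_comm, pow_add, pow_add]
  congr 1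
  ring

theorem bf_wt (i j : ℕ) (c d x y : ℕ) : Wt ι (fRep k F) (bf ι p i j c d x y) (x * p ^ i + y * p ^ j)
    ((c - x) * p ^ i + (d - y) * p ^ j) := by
  have h1 := ((xi_wt ι p i x).mul ι (et_wt ι p i (c - x))).mul ι ((xi_wt ι p j y).mul ι (et_wt ι p j (d - y)))
  rwa [add_zero, zero_add, add_zero, zero_add] at h1

end Wt

section Gen

variable {k : Type u} [Field k] {F : Type w} [Field F] [Fintype F] [DecidableEq F] {ι : F →+* k}

/-- **invariant trilinear forms** -/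
theorem gen_tri {b b' b'' : ℕ} {T : (F × F → k) →ₗ[k] (F × F → k) →ₗ[k] (F × F → k) →ₗ[k] k}
    (hT : ∀ g, ∀ f ∈ Vb ι b, ∀ f' ∈ Vb ι b', ∀ f'' ∈ Vb ι b'', T (fRep k F g f) (fRep k F g f') (fRep k F g f'') = T f f' f'')
    (hi' : ∀ g, ∀ f ∈ Vb ι b', fRep k F g f ∈ Vb ι b') (hi'' : ∀ g, ∀ f ∈ Vb ι b'', fRep k F g f ∈ Vb ι b'')
    (hm : mon ι b b ∈ Vb ι b) (hm' : mon ι b' b' ∈ Vb ι b')
    (h0 : ∀ f'' ∈ Vb ι b'', T (mon ι b b) (fRep k F w (mon ι b' b')) f'' = 0) :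
    ∀ f ∈ Vb ι b, ∀ f' ∈ Vb ι b', ∀ f'' ∈ Vb ι b'', T f f' f'' = 0 := by
  have hfix : ∀ t : F, fRep k F (u t) (mon ι b b) = mon ι b b := by
    intro t
    funext z
    obtain ⟨x, y⟩ := z
    rw [fRep_u, mon_self, mon_self]
  have hinv : ∀ (g : _root_.Matrix.SpecialLinearGroup (Fin 2) F) (f : F × F → k), fRep k F g (fRep k F g⁻¹ f) = f := by
    intro g f
    rw [← Module.End.mul_apply, ← map_mul, mul_inv_cancel, map_one, Module.End.one_apply]
  have h1 : ∀ f' ∈ Vb ι b', ∀ f'' ∈ Vb ι b'', T (mon ι b b) f' f'' = 0 := by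
    intro f' hf' f'' hf''
    have hle : Vb ι b' ≤ LinearMap.ker ((T (mon ι b b)).flip f'') := by
      refine Submodule.span_le.2 ?_
      rintro _ ⟨t, d, hd, rfl⟩
      obtain ⟨c, rfl⟩ := Submodule.mem_span_singleton.1 hd
      rw [SetLike.mem_coe, LinearMap.mem_ker, map_smul, map_smul, map_smul, LinearMap.flip_apply]
      have h2 := hT (u t) _ hm _ (hi' w _ hm') _ (hi'' (u t)⁻¹ _ hf'')
      rw [hfix, h0 _ (hi'' _ _ hf''), hinv] at h2
      rw [h2, smul_zero]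
    exact LinearMap.mem_ker.1 (hle hf')
  intro f hf f' hf' f'' hf''
  have hle : Vb ι b ≤ LinearMap.ker ((T.flip f').flip f'') := by
    refine Submodule.span_le.2 ?_
    rintro _ ⟨t, d, hd, rfl⟩
    obtain ⟨c, rfl⟩ := Submodule.mem_span_singleton.1 hd
    rw [SetLike.mem_coe, LinearMap.mem_ker, map_smul, map_smul, map_smul, LinearMap.flip_apply, LinearMap.flip_apply]
    have h2 := hT (u t * w) _ hm _ (hi' (u t * w)⁻¹ _ hf') _ (hi'' (u t * w)⁻¹ _ hf'')
    rw [h1 _ (hi' _ _ hf') _ (hi'' _ _ hf''), hinv, hinv, map_mul, Module.End.mul_apply] at h2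
    rw [h2, smul_zero]
  exact (LinearMap.mem_ker.1 (hle hf) :)

end Gen

section Fra

variable {k : Type u} [Field k] [DecidableEq k] [IsAlgClosed k] {F : Type w} [Field F] [Fintype F] [DecidableEq F] {ι : F →+* k}

/-- the trilinear form -/
noncomputable def Trr (Φ Φ' Φ'' : (F × F → k) →ₗ[k] (I27 → k)) :
    (F × F → k) →ₗ[k] (F × F → k) →ₗ[k] (F × F → k) →ₗ[k] k :=
  ((crB k).compl₁₂ Φ Φ').compr₂ ((tfB k).compl₂ Φ'')

theorem Trr_apply (Φ Φ' Φ'' : (F × F → k) →ₗ[k] (I27 → k)) (f f' f'' : F × F → k) :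
    Trr Φ Φ' Φ'' f f' f'' = tf (cr (Φ f) (Φ' f')) (Φ'' f'') := rfl

/-- symmetries -/
theorem tri_s12 (x y z : I27 → k) : tf (cr x y) z = tf (cr y x) z := by rw [cr_comm]

theorem tri_s23 (x y z : I27 → k) : tf (cr x y) z = tf (cr x z) y := by
  rw [tf_cr, tf_cr, cr_comm y z]

variable {ψ : _root_.Matrix.SpecialLinearGroup (Fin 2) F →* ↥(Zgrp k)} {ρ ρ' : Representation k ↥(Zgrp k) (I27 → k)}

theorem pair_N (hρ : Pair ρ ρ') (g : ↥(Zgrp k)) (x : I27 → k) : cubicT (ρ g x) = cubicT x := by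
  rcases hρ with ⟨rfl, rfl⟩ | ⟨rfl, rfl⟩
  · exact N_act g x
  · exact N_act' g x

theorem pair_tri (hρ : Pair ρ ρ') (g : ↥(Zgrp k)) (x y z : I27 → k) :
    tf (cr (ρ g x) (ρ g y)) (ρ g z) = tf (cr x y) z := by
  rw [pair_cr hρ, tf_comm, pair_tf hρ, tf_comm]

theorem Trr_inv (hρ : Pair ρ ρ') {b b' b'' : ℕ} {Φ Φ' Φ'' : (F × F → k) →ₗ[k] (I27 → k)}
    (hΦ : Hm ι (Rr ρ ψ) b Φ) (hΦ' : Hm ι (Rr ρ ψ) b' Φ') (hΦ'' : Hm ι (Rr ρ ψ) b'' Φ'') :
    ∀ g, ∀ f ∈ Vb ι b, ∀ f' ∈ Vb ι b', ∀ f'' ∈ Vb ι b'',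
      Trr Φ Φ' Φ'' (fRep k F g f) (fRep k F g f') (fRep k F g f'') = Trr Φ Φ' Φ'' f f' f'' := by
  intro g f hf f' hf' f'' hf''
  rw [Trr_apply, Trr_apply, hΦ g f hf, hΦ' g f' hf', hΦ'' g f'' hf'']
  exact pair_tri hρ (ψ g) _ _ _

/-- the weights -/
theorem tri_wt (hρ : Pair ρ ρ') {x y z : I27 → k} {m n m' n' m'' n'' : ℕ} (hx : Wt ι (Rr ρ ψ) x m n)
    (hy : Wt ι (Rr ρ ψ) y m' n') (hz : Wt ι (Rr ρ ψ) z m'' n'') (h0 : tf (cr x y) z ≠ 0) :
    (m + m' + m'') % (Fintype.card F - 1) = (n + n' + n'') % (Fintype.card F - 1) := by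
  refine wt_eq ι fun a => pow_inv_eq (iota_ne a) ?_
  have h1 := pair_tri hρ (ψ (h a)) x y z
  have hx' : ρ (ψ (h a)) x = _ := hx a
  have hy' : ρ (ψ (h a)) y = _ := hy a
  have hz' : ρ (ψ (h a)) z = _ := hz a
  rw [hx', hy', hz', cr_smul_left, cr_smul_right, tf_smul_left, tf_smul_left, tf_smul_right] at h1
  have h2 : (ι a ^ (m + m' + m'') * (ι a)⁻¹ ^ (n + n' + n'')) * tf (cr x y) z = 1 * tf (cr x y) z := by
    rw [one_mul]
    refine Eq.trans ?_ h1
    rw [pow_add, pow_add, pow_add, pow_add]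
    ring
  exact mul_right_cancel₀ h0 h2

theorem Hm.wt {r : Representation k (_root_.Matrix.SpecialLinearGroup (Fin 2) F) (I27 → k)} {b : ℕ}
    {Φ : (F × F → k) →ₗ[k] (I27 → k)} (hΦ : Hm ι r b Φ) {f : F × F → k} (hf : f ∈ Vb ι b) {m n : ℕ}
    (hw : Wt ι (fRep k F) f m n) : Wt ι r (Φ f) m n := by
  intro a
  rw [← hΦ _ _ hf, hw, map_smul]

theorem Trr_wt (hρ : Pair ρ ρ') {b b' b'' : ℕ} {Φ Φ' Φ'' : (F × F → k) →ₗ[k] (I27 → k)}
    (hΦ : Hm ι (Rr ρ ψ) b Φ) (hΦ' : Hm ι (Rr ρ ψ) b' Φ') (hΦ'' : Hm ι (Rr ρ ψ) b'' Φ'') {f f' f'' : F × F → k}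
    (hf : f ∈ Vb ι b) (hf' : f' ∈ Vb ι b') (hf'' : f'' ∈ Vb ι b'') {m n m' n' m'' n'' : ℕ}
    (hx : Wt ι (fRep k F) f m n) (hy : Wt ι (fRep k F) f' m' n') (hz : Wt ι (fRep k F) f'' m'' n'')
    (hne : (m + m' + m'') % (Fintype.card F - 1) ≠ (n + n' + n'') % (Fintype.card F - 1)) :
    Trr Φ Φ' Φ'' f f' f'' = 0 := by
  by_contra h0
  exact hne (tri_wt hρ (hΦ.wt hf hx) (hΦ'.wt hf' hy) (hΦ''.wt hf'' hz) h0)

variable [CharP k 3] [CharP F 3]

theorem three_zero : (3 : k) = 0 := by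
  have := CharP.cast_eq_zero k 3
  exact_mod_cast this

theorem two_ne : (2 : k) ≠ 0 := by
  intro h
  have := three_zero (k := k)
  exact one_ne_zero (α := k) (by linear_combination this - h)

/-- the cubic form on the weight spaces -/
theorem N_wt (hρ : Pair ρ ρ') {x : I27 → k} {m : ℕ} (hx : ∀ a, Rr ρ ψ (h a) x = ι a ^ m • x)
    (hm : m % (Fintype.card F - 1) ≠ 0) : cubicT x = 0 := by
  classical
  by_contra h0
  apply hm
  rw [← Nat.zero_mod (Fintype.card F - 1)]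
  refine wt_eq ι fun a => ?_
  rw [pow_zero]
  have h1 := pair_N hρ (ψ (h a)) x
  have hx' : ρ (ψ (h a)) x = _ := hx a
  rw [hx', N_smul] at h1
  have h2 : (ι a ^ m) ^ 3 = 1 := mul_right_cancel₀ h0 (by rw [h1, one_mul])
  have h3 : (ι a ^ m - 1) ^ 3 = 0 := by
    have := three_zero (k := k)
    linear_combination h2 + (- (ι a ^ m) ^ 2 + (ι a ^ m)) * this
  exact sub_eq_zero.1 (pow_eq_zero_iff (n := 3) (by norm_num) |>.1 h3)

/-- additivity of the cubic form -/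
theorem N_add_of {x y : I27 → k} (h1 : tf (cr x x) y = 0) (h2 : tf (cr y y) x = 0) :
    cubicT (x + y) = cubicT x + cubicT y := by
  have h := two_ne (k := k)
  rw [cr_self, tf_smul_left] at h1 h2
  rw [N_add, (mul_eq_zero.1 h1).resolve_left h, tf_comm x, (mul_eq_zero.1 h2).resolve_left h]
  ring

/-- **the cubic form vanishes if the trilinear form does** -/
theorem N_zero (hρ : Pair ρ ρ') {b : ℕ} {Φ : (F × F → k) →ₗ[k] (I27 → k)} (hΦ : Hm ι (Rr ρ ψ) b Φ)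
    (hi : ∀ g, ∀ f ∈ Vb ι b, fRep k F g f ∈ Vb ι b) (hm : mon ι b b ∈ Vb ι b)
    (hT : ∀ f ∈ Vb ι b, ∀ f' ∈ Vb ι b, ∀ f'' ∈ Vb ι b, tf (cr (Φ f) (Φ f')) (Φ f'') = 0)
    (h0 : cubicT (Φ (mon ι b b)) = 0) : ∀ f ∈ Vb ι b, cubicT (Φ f) = 0 := by
  have hz : cubicT (0 : I27 → k) = 0 := by
    have := N_smul (0 : k) (0 : I27 → k)
    rw [zero_smul] at this
    rw [this]
    ring
  have key : ∀ f ∈ Vb ι b, f ∈ Vb ι b ∧ cubicT (Φ f) = 0 := by
    intro f hf
    have hf' : f ∈ Submodule.span k {x | ∃ t : F, ∃ d ∈ Db ι b, x = fRep k F (u t) (fRep k F w d)} := hf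
    clear hf
    induction hf' using Submodule.span_induction with
    | mem f hf =>
      obtain ⟨t, d, hd, rfl⟩ := hf
      obtain ⟨c, rfl⟩ := Submodule.mem_span_singleton.1 hd
      rw [map_smul, map_smul]
      refine ⟨Submodule.smul_mem _ _ (hi _ _ (hi _ _ hm)), ?_⟩
      rw [map_smul, N_smul, hΦ _ _ (hi _ _ hm), hΦ _ _ hm]
      have h1 := pair_N hρ (ψ (u t)) (Rr ρ ψ w (Φ (mon ι b b)))
      have h2 := pair_N hρ (ψ w) (Φ (mon ι b b))
      rw [Rr_apply, Rr_apply] at *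
      rw [h1, h2, h0, mul_zero]
    | zero => exact ⟨zero_mem _, by rw [map_zero, hz]⟩
    | add f f' _ _ h1 h2 =>
      refine ⟨add_mem h1.1 h2.1, ?_⟩
      rw [map_add, N_add_of (hT _ h1.1 _ h1.1 _ h2.1) (hT _ h2.1 _ h2.1 _ h1.1), h1.2, h2.2, add_zero]
    | smul c f _ h1 =>
      refine ⟨Submodule.smul_mem _ _ h1.1, ?_⟩
      rw [map_smul, N_smul, h1.2, mul_zero]
  exact fun f hf => (key f hf).2

end Fra

end Cfsg.Agent.R2.P3
end

-- part: R2/P3/Q
section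
/-!
# The square of a submodule of type `11` (R2/P3, helper17), `p = 3`

`exists_sq` : for `Φ : V_{3^i + 3^j} → V` there is `Ψ : V_{2 3^i + 2 3^j} → V'` with `cr (Φ f) (Φ f') = Ψ (f f')`, and the
cubic form vanishes on the image of `Φ`.
-/

set_option autoImplicit false
set_option linter.unusedSectionVars false

namespace Cfsg.Agent.R2.P3

open Matrix Cfsg.Agent.H943.SL2Rel Cfsg.Agent.H943.SL2Mod Cfsg.Agent.H943.RepAdd Cfsg.Agent.R2.H28.SL2
open Cfsg.Lie
open Cfsg.Agent.ChevalleyStructure.E6Min.Basic (Zgrp)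
open Cfsg.Agent.ChevalleyStructure.E6Min.Inv
open Cfsg.Agent.H952.F4 (sh cr tf)
open Cfsg.Agent.H952.F4.Jord
open Cfsg.Agent.R2.GEO (Pair crB crB_apply tfB tfB_apply)

universe u v w

theorem dgt3 {i j l c d : ℕ} (hij : i ≠ j) (hc : c < 3) (hd : d < 3) :
    (c * 3 ^ i + d * 3 ^ j) / 3 ^ l % 3 = if l = i then c else if l = j then d else 0 :=
  dg_pair (by norm_num) hij hc hd

theorem rs_inj {i j r s r' s' : ℕ} (hij : i ≠ j) (hr : r < 3) (hs : s < 3) (hr' : r' < 3) (hs' : s' < 3)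
    (h : r * 3 ^ i + s * 3 ^ j = r' * 3 ^ i + s' * 3 ^ j) : r = r' ∧ s = s' := by
  have h1 := dgt3 (l := i) hij hr hs
  have h2 := dgt3 (l := j) hij hr hs
  rw [h, dgt3 hij hr' hs', if_pos rfl, if_pos rfl] at h1
  rw [h, dgt3 hij hr' hs', if_neg hij.symm, if_pos rfl, if_neg hij.symm, if_pos rfl] at h2
  exact ⟨h1.symm, h2.symm⟩

section Coeff

variable {k : Type u} [Field k] {F : Type w} [Field F] [Fintype F] [DecidableEq F] (ι : F →+* k)
variable [CharP k 3] [CharP F 3]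
variable {V : Type*} [AddCommGroup V] [Module k V]

/-- coefficients of `t^{r 3^i + s 3^j}`, `r, s ≤ 2` -/
theorem coeff2 {a i j : ℕ} (hF : Fintype.card F = 3 ^ a) (ha : 3 ≤ a) (hij : i ≠ j) (hi : i < a) (hj : j < a)
    {C : ℕ → ℕ → V}
    (h : ∀ t : F, ∑ r ∈ Finset.range 3, ∑ s ∈ Finset.range 3, ((ι t ^ 3 ^ i) ^ r * (ι t ^ 3 ^ j) ^ s) • C r s = 0) :
    ∀ r < 3, ∀ s < 3, C r s = 0 := by
  intro r hr s hs
  have hlt : ∀ {r s : ℕ}, r < 3 → s < 3 → r * 3 ^ i + s * 3 ^ j < Fintype.card F - 1 := by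
    intro r s hr hs
    have h1 := pair_lt_Q ha hij hi hj
    have h2 : r * 3 ^ i ≤ 2 * 3 ^ i := Nat.mul_le_mul_right _ (by omega)
    have h3 : s * 3 ^ j ≤ 2 * 3 ^ j := Nat.mul_le_mul_right _ (by omega)
    rw [hF]
    omega
  refine coeff_zero ι 3 (α := ℕ × ℕ) (J := Finset.range 3 ×ˢ Finset.range 3) (e := fun x => x.1 * 3 ^ i + x.2 * 3 ^ j)
    (z := fun x => C x.1 x.2) (fun t => ?_) (j₀ := (r, s)) ?_ ?_
  · rw [Finset.sum_product, ← h t]
    refine Finset.sum_congr rfl fun r _ => Finset.sum_congr rfl fun s _ => ?_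
    show ι t ^ (r * 3 ^ i + s * 3 ^ j) • C r s = _
    rw [pow_add, mul_comm r, mul_comm s, pow_mul, pow_mul]
  · rw [Finset.mem_product, Finset.mem_range, Finset.mem_range]
    exact ⟨hr, hs⟩
  · rintro ⟨r', s'⟩ h1 h2 h3
    rw [Finset.mem_product, Finset.mem_range, Finset.mem_range] at h1
    have h4 : r' * 3 ^ i + s' * 3 ^ j = r * 3 ^ i + s * 3 ^ j := by
      have h5 : (r' * 3 ^ i + s' * 3 ^ j) % (Fintype.card F - 1) = (r * 3 ^ i + s * 3 ^ j) % (Fintype.card F - 1) := h3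
      rwa [Nat.mod_eq_of_lt (hlt h1.1 h1.2), Nat.mod_eq_of_lt (hlt hr hs)] at h5
    obtain ⟨rfl, rfl⟩ := rs_inj hij h1.1 h1.2 hr hs h4
    exact h2 rfl

end Coeff

section Mono

variable {k : Type u} [Field k] {F : Type w} [Field F] [Fintype F] [DecidableEq F] (ι : F →+* k)
variable [CharP k 3] [CharP F 3]

/-- the four monomials -/
theorem e_mem {a i j : ℕ} (hF : Fintype.card F = 3 ^ a) (ha : 3 ≤ a) (hij : i ≠ j) (hi : i < a) (hj : j < a) :
    xi ι 3 i * xi ι 3 j ∈ Vb ι (1 * 3 ^ i + 1 * 3 ^ j) ∧ xi ι 3 i * et ι 3 j ∈ Vb ι (1 * 3 ^ i + 1 * 3 ^ j) ∧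
    et ι 3 i * xi ι 3 j ∈ Vb ι (1 * 3 ^ i + 1 * 3 ^ j) ∧ et ι 3 i * et ι 3 j ∈ Vb ι (1 * 3 ^ i + 1 * 3 ^ j) := by
  have h1 := pair_lt_Q ha hij hi hj
  have hb : 1 * 3 ^ i + 1 * 3 ^ j ≤ Fintype.card F - 1 := by
    rw [hF]
    omega
  have key : ∀ x ≤ 1, ∀ y ≤ 1, bf ι 3 i j 1 1 x y ∈ Vb ι (1 * 3 ^ i + 1 * 3 ^ j) := fun x hx y hy =>
    bf_mem ι 3 hij (by norm_num) (by norm_num) hb hx hy
  have k11 := key 1 le_rfl 1 le_rfl
  have k10 := key 1 le_rfl 0 (by norm_num)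
  have k01 := key 0 (by norm_num) 1 le_rfl
  have k00 := key 0 (by norm_num) 0 (by norm_num)
  unfold bf at k11 k10 k01 k00
  simp only [pow_one, Nat.sub_self, pow_zero, mul_one, Nat.sub_zero, one_mul] at k11 k10 k01 k00
  simp only [one_mul]
  exact ⟨k11, k10, k01, k00⟩

theorem wt11 (i j : ℕ) : Wt ι (fRep k F) (xi ι 3 i * xi ι 3 j) (1 * 3 ^ i + 1 * 3 ^ j) 0 := by
  have w1 := (xi_wt ι 3 i 1).mul ι (xi_wt ι 3 j 1)
  rwa [pow_one, pow_one] at w1

theorem wt00 (i j : ℕ) : Wt ι (fRep k F) (et ι 3 i * et ι 3 j) 0 (1 * 3 ^ i + 1 * 3 ^ j) := by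
  have w1 := (et_wt ι 3 i 1).mul ι (et_wt ι 3 j 1)
  rwa [pow_one, pow_one] at w1

omit [CharP k 3] [CharP F 3] in
theorem top_eq (i j : ℕ) : mon ι (1 * 3 ^ i + 1 * 3 ^ j) (1 * 3 ^ i + 1 * 3 ^ j) = xi ι 3 i * xi ι 3 j := by
  rw [← bf_eq_mon ι 3 i j le_rfl le_rfl]
  unfold bf
  simp only [pow_one, Nat.sub_self, pow_zero, mul_one]

omit [CharP k 3] [CharP F 3] in
theorem top_eq2 (i j : ℕ) : mon ι (2 * 3 ^ i + 2 * 3 ^ j) (2 * 3 ^ i + 2 * 3 ^ j) = xi ι 3 i * xi ι 3 j * (xi ι 3 i * xi ι 3 j) := by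
  rw [← bf_eq_mon ι 3 i j le_rfl le_rfl]
  unfold bf
  simp only [Nat.sub_self, pow_zero, mul_one]
  ring

/-- products of elements of `V_{3^i + 3^j}` -/
theorem mul_mem {a i j : ℕ} (hF : Fintype.card F = 3 ^ a) (ha : 3 ≤ a) (hij : i ≠ j) (hi : i < a) (hj : j < a)
    {f f' : F × F → k} (hf : f ∈ Vb ι (1 * 3 ^ i + 1 * 3 ^ j)) (hf' : f' ∈ Vb ι (1 * 3 ^ i + 1 * 3 ^ j)) :
    f * f' ∈ Vb ι (2 * 3 ^ i + 2 * 3 ^ j) := by
  have h1 := pair_lt_Q ha hij hi hj
  have hb : 2 * 3 ^ i + 2 * 3 ^ j ≤ Fintype.card F - 1 := by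
    rw [hF]
    omega
  refine Vb_le_bf ι 3 hij (by norm_num : 1 < 3) (by norm_num : 1 < 3) (P := fun f => f * f' ∈ _) ?_ ?_ ?_ ?_ hf
  · rw [zero_mul]
    exact zero_mem _
  · intro f g h1 h2
    rw [add_mul]
    exact add_mem h1 h2
  · intro c f h
    rw [smul_mul_assoc]
    exact Submodule.smul_mem _ _ h
  · intro x hx y hy
    refine Vb_le_bf ι 3 hij (by norm_num : 1 < 3) (by norm_num : 1 < 3)
      (P := fun f' => bf ι 3 i j 1 1 x y * f' ∈ _) ?_ ?_ ?_ ?_ hf'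
    · rw [mul_zero]
      exact zero_mem _
    · intro f g h1 h2
      rw [mul_add]
      exact add_mem h1 h2
    · intro c f h
      rw [mul_smul_comm]
      exact Submodule.smul_mem _ _ h
    · intro x' hx' y' hy'
      have h2 : bf ι 3 i j 1 1 x y * bf ι 3 i j 1 1 x' y' = bf ι 3 i j 2 2 (x + x') (y + y') := by
        unfold bf
        have e1 : 2 - (x + x') = (1 - x) + (1 - x') := by omega
        have e2 : 2 - (y + y') = (1 - y) + (1 - y') := by omega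
        rw [e1, e2]
        simp only [pow_add]
        ring
      rw [h2]
      exact bf_mem ι 3 hij (by norm_num) (by norm_num) hb (by omega) (by omega)

end Mono

section Main

variable {k : Type u} [Field k] [DecidableEq k] [IsAlgClosed k] {F : Type w} [Field F] [Fintype F] [DecidableEq F]
  {ι : F →+* k} [CharP k 3] [CharP F 3] {a : ℕ}
variable {ψ : _root_.Matrix.SpecialLinearGroup (Fin 2) F →* ↥(Zgrp k)} {ρ ρ' : Representation k ↥(Zgrp k) (I27 → k)}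

/-- equivariance of `cr` -/
theorem cr_eqv (hρ : Pair ρ ρ') {b b' : ℕ} {Φ Φ' : (F × F → k) →ₗ[k] (I27 → k)}
    (hΦ : Hm ι (Rr ρ ψ) b Φ) (hΦ' : Hm ι (Rr ρ ψ) b' Φ') (g : _root_.Matrix.SpecialLinearGroup (Fin 2) F) {f f' : F × F → k}
    (hf : f ∈ Vb ι b) (hf' : f' ∈ Vb ι b') :
    Rr ρ' ψ g (cr (Φ f) (Φ' f')) = cr (Φ (fRep k F g f)) (Φ' (fRep k F g f')) := by
  rw [hΦ g f hf, hΦ' g f' hf']
  exact (pair_cr hρ (ψ g) _ _).symm

/-- **the square** -/
theorem exists_sq (f0 : Fra 3 a ψ ρ ρ') (ha : 3 ≤ a) {i j : ℕ} (hij : i ≠ j) (hi : i < a) (hj : j < a)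
    {Φ : (F × F → k) →ₗ[k] (I27 → k)} (hΦ : Hm ι (Rr ρ ψ) (1 * 3 ^ i + 1 * 3 ^ j) Φ) :
    ∃ Ψ : (F × F → k) →ₗ[k] (I27 → k), Hm ι (Rr ρ' ψ) (2 * 3 ^ i + 2 * 3 ^ j) Ψ ∧
      ∀ f ∈ Vb ι (1 * 3 ^ i + 1 * 3 ^ j), ∀ f' ∈ Vb ι (1 * 3 ^ i + 1 * 3 ^ j), cr (Φ f) (Φ f') = Ψ (f * f') := by
  have hF := f0.card
  have hQ := pair_lt_Q ha hij hi hj
  have hQ1 : 1 * 3 ^ i + 1 * 3 ^ j ≤ Fintype.card F - 1 := by rw [hF]; omega
  have hQ2 : 2 * 3 ^ i + 2 * 3 ^ j ≤ Fintype.card F - 1 := by rw [hF]; omega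
  obtain ⟨m11, m10, m01, m00⟩ := e_mem ι hF ha hij hi hj
  -- the group action
  have hw11 : fRep k F w (xi ι 3 i * xi ι 3 j) = et ι 3 i * et ι 3 j := by
    rw [fRep_mul, fRep_w_xi, fRep_w_xi, neg_mul_neg]
  have hw00 : fRep k F w (et ι 3 i * et ι 3 j) = xi ι 3 i * xi ι 3 j := by
    rw [fRep_mul, fRep_w_et, fRep_w_et]
  have hu11 : ∀ t, fRep k F (u t) (xi ι 3 i * xi ι 3 j) = xi ι 3 i * xi ι 3 j := fun t => by
    rw [fRep_mul, fRep_u_xi, fRep_u_xi]
  have hu00 : ∀ t, fRep k F (u t) (et ι 3 i * et ι 3 j) = et ι 3 i * et ι 3 j + (ι t ^ 3 ^ i) • (xi ι 3 i * et ι 3 j) +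
      (ι t ^ 3 ^ j) • (et ι 3 i * xi ι 3 j) + (ι t ^ 3 ^ i * ι t ^ 3 ^ j) • (xi ι 3 i * xi ι 3 j) := fun t => by
    rw [fRep_mul, fRep_u_et, fRep_u_et]
    funext z
    simp only [Pi.add_apply, Pi.mul_apply, Pi.smul_apply, smul_eq_mul]
    ring
  -- the coefficients
  let Cf : ((F × F → k) →ₗ[k] (F × F → k) →ₗ[k] (I27 → k)) → ℕ → ℕ → (I27 → k) := fun B r s =>
    match r, s with
    | 0, 0 => B (et ι 3 i * et ι 3 j) (et ι 3 i * et ι 3 j)
    | 1, 0 => B (et ι 3 i * et ι 3 j) (xi ι 3 i * et ι 3 j) + B (xi ι 3 i * et ι 3 j) (et ι 3 i * et ι 3 j)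
    | 0, 1 => B (et ι 3 i * et ι 3 j) (et ι 3 i * xi ι 3 j) + B (et ι 3 i * xi ι 3 j) (et ι 3 i * et ι 3 j)
    | 1, 1 => B (et ι 3 i * et ι 3 j) (xi ι 3 i * xi ι 3 j) + B (xi ι 3 i * xi ι 3 j) (et ι 3 i * et ι 3 j) +
        B (xi ι 3 i * et ι 3 j) (et ι 3 i * xi ι 3 j) + B (et ι 3 i * xi ι 3 j) (xi ι 3 i * et ι 3 j)
    | 2, 0 => B (xi ι 3 i * et ι 3 j) (xi ι 3 i * et ι 3 j)
    | 0, 2 => B (et ι 3 i * xi ι 3 j) (et ι 3 i * xi ι 3 j)
    | 2, 1 => B (xi ι 3 i * xi ι 3 j) (xi ι 3 i * et ι 3 j) + B (xi ι 3 i * et ι 3 j) (xi ι 3 i * xi ι 3 j)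
    | 1, 2 => B (xi ι 3 i * xi ι 3 j) (et ι 3 i * xi ι 3 j) + B (et ι 3 i * xi ι 3 j) (xi ι 3 i * xi ι 3 j)
    | 2, 2 => B (xi ι 3 i * xi ι 3 j) (xi ι 3 i * xi ι 3 j)
    | _, _ => 0
  have hCf : ∀ (B : (F × F → k) →ₗ[k] (F × F → k) →ₗ[k] (I27 → k)) (t : F),
      B (fRep k F (u t) (et ι 3 i * et ι 3 j)) (fRep k F (u t) (et ι 3 i * et ι 3 j)) =
      ∑ r ∈ Finset.range 3, ∑ s ∈ Finset.range 3, ((ι t ^ 3 ^ i) ^ r * (ι t ^ 3 ^ j) ^ s) • Cf B r s := by
    intro B t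
    rw [hu00]
    simp only [Finset.sum_range_succ, Finset.sum_range_zero, zero_add, Cf, map_add, map_smul, LinearMap.add_apply,
      LinearMap.smul_apply, pow_zero, pow_one, mul_one, one_mul, one_smul]
    module
  -- the bilinear form
  let B1 : (F × F → k) →ₗ[k] (F × F → k) →ₗ[k] (I27 → k) := (crB k).compl₁₂ Φ Φ
  have hB1 : ∀ f f', B1 f f' = cr (Φ f) (Φ f') := fun f f' => rfl
  obtain ⟨Ψ, hΨ1, hΨ2⟩ := exists_Hm (r := Rr ρ' ψ) ι 3 hF (c := 2 * 3 ^ i + 2 * 3 ^ j) (by rw [hF]; exact hQ)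
    (y := B1 (xi ι 3 i * xi ι 3 j) (xi ι 3 i * xi ι 3 j)) (fun t => by
      rw [hB1, cr_eqv f0.pair hΦ hΦ _ m11 m11, hu11]) (fun c => by
      have h1 := hΦ.wt m11 (wt11 ι i j)
      have h2 : ρ (ψ (h c)) (Φ (xi ι 3 i * xi ι 3 j)) = _ := h1 c
      rw [hB1]
      have h3 := pair_cr f0.pair (ψ (h c)) (Φ (xi ι 3 i * xi ι 3 j)) (Φ (xi ι 3 i * xi ι 3 j))
      rw [Rr_apply, ← h3, h2, cr_smul_left, cr_smul_right, smul_smul]
      congr 1
      rw [pow_zero, mul_one, ← pow_add]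
      congr 1
      ring)
    (J := Finset.range 3 ×ˢ Finset.range 3) (e := fun x => x.1 * 3 ^ i + x.2 * 3 ^ j) (z := fun x => Cf B1 x.1 x.2)
    (fun t => by
      rw [hB1, cr_eqv f0.pair hΦ hΦ _ m11 m11, hw11, cr_eqv f0.pair hΦ hΦ _ m00 m00, ← hB1, hCf, Finset.sum_product]
      refine Finset.sum_congr rfl fun r _ => Finset.sum_congr rfl fun s _ => ?_
      show _ = ι t ^ (r * 3 ^ i + s * 3 ^ j) • Cf B1 r s
      rw [pow_add, mul_comm r, mul_comm s, pow_mul, pow_mul])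
    (by
      rintro ⟨r, s⟩ h1 h2 h3
      exfalso
      rw [Finset.mem_product, Finset.mem_range, Finset.mem_range] at h1
      have h4 : r * 3 ^ i ≤ 2 * 3 ^ i := Nat.mul_le_mul_right _ (by have := h1.1; omega)
      have h5 : s * 3 ^ j ≤ 2 * 3 ^ j := Nat.mul_le_mul_right _ (by have := h1.2; omega)
      have h6 : (r * 3 ^ i + s * 3 ^ j) % (Fintype.card F - 1) = 0 := h3
      rw [Nat.mod_eq_of_lt (by rw [hF]; omega)] at h6
      exact h2 h6)
    (by
      rintro s' hs' hlt ⟨r, s⟩ h1 h3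
      exfalso
      rw [Finset.mem_product, Finset.mem_range, Finset.mem_range] at h1
      rw [dgt3 hij (by norm_num) (by norm_num)] at hlt
      have hs1 : s' ≠ i := by rintro rfl; rw [if_pos rfl] at hlt; omega
      have hs2 : s' ≠ j := by rintro rfl; rw [if_neg hs1, if_pos rfl] at hlt; omega
      have h4 : r * 3 ^ i ≤ 2 * 3 ^ i := Nat.mul_le_mul_right _ (by have := h1.1; omega)
      have h5 : s * 3 ^ j ≤ 2 * 3 ^ j := Nat.mul_le_mul_right _ (by have := h1.2; omega)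
      have h6 : (r * 3 ^ i + s * 3 ^ j) % (Fintype.card F - 1) = en 3 (2 * 3 ^ i + 2 * 3 ^ j) s' % (Fintype.card F - 1) := h3
      have h7 : en 3 (2 * 3 ^ i + 2 * 3 ^ j) s' = 1 * 3 ^ s' := by
        unfold en
        rw [dgt3 hij (by norm_num) (by norm_num), if_neg hs1, if_neg hs2]
      have h8 : 1 * 3 ^ s' + 0 * 3 ^ i < Fintype.card F - 1 := by
        have := pair_lt_Q ha hs1 hs' hi
        rw [hF]
        omega
      rw [h7, Nat.mod_eq_of_lt (by rw [hF]; omega), Nat.mod_eq_of_lt (by omega)] at h6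
      have h9 := dgt3 (l := s') hij h1.1 h1.2
      rw [h6, if_neg hs1, if_neg hs2, dg_single (by norm_num) (by norm_num), if_pos rfl] at h9
      omega)
  refine ⟨Ψ, hΨ1, ?_⟩
  -- the difference
  let B0 : (F × F → k) →ₗ[k] (F × F → k) →ₗ[k] (I27 → k) := B1 - (LinearMap.mul k (F × F → k)).compr₂ Ψ
  have hB0 : ∀ f f', B0 f f' = cr (Φ f) (Φ f') - Ψ (f * f') := fun f f' => rfl
  have heq : ∀ g, ∀ f ∈ Vb ι (1 * 3 ^ i + 1 * 3 ^ j), ∀ f' ∈ Vb ι (1 * 3 ^ i + 1 * 3 ^ j),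
      B0 (fRep k F g f) (fRep k F g f') = Rr ρ' ψ g (B0 f f') := by
    intro g f hf f' hf'
    rw [hB0, hB0, map_sub, cr_eqv f0.pair hΦ hΦ _ hf hf', ← fRep_mul, hΨ1 g _ (mul_mem ι hF ha hij hi hj hf hf')]
  have hsym : ∀ f f', B0 f f' = B0 f' f := fun f f' => by rw [hB0, hB0, cr_comm, mul_comm]
  have htop : B0 (xi ι 3 i * xi ι 3 j) (xi ι 3 i * xi ι 3 j) = 0 := by
    rw [hB0, ← hB1, ← top_eq2, hΨ2, sub_self]
  have hC := coeff2 ι hF ha hij hi hj (C := Cf B0) (fun t => by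
    rw [← hCf, ← hw11, heq _ _ (inv_Vb' ι 3 hQ1 w _ m11) _ (inv_Vb' ι 3 hQ1 w _ m11), heq _ _ m11 _ m11, htop, map_zero,
      map_zero])
  have h2 := two_ne (k := k)
  have c1 : B0 (xi ι 3 i * xi ι 3 j) (xi ι 3 i * et ι 3 j) = 0 := by
    have h1 : B0 (xi ι 3 i * xi ι 3 j) (xi ι 3 i * et ι 3 j) + B0 (xi ι 3 i * et ι 3 j) (xi ι 3 i * xi ι 3 j) = 0 :=
      hC 2 (by norm_num) 1 (by norm_num)
    rw [hsym (xi ι 3 i * et ι 3 j), ← two_smul k, smul_eq_zero] at h1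
    exact h1.resolve_left h2
  have c2 : B0 (xi ι 3 i * xi ι 3 j) (et ι 3 i * xi ι 3 j) = 0 := by
    have h1 : B0 (xi ι 3 i * xi ι 3 j) (et ι 3 i * xi ι 3 j) + B0 (et ι 3 i * xi ι 3 j) (xi ι 3 i * xi ι 3 j) = 0 :=
      hC 1 (by norm_num) 2 (by norm_num)
    rw [hsym (et ι 3 i * xi ι 3 j), ← two_smul k, smul_eq_zero] at h1
    exact h1.resolve_left h2
  have c3 : B0 (xi ι 3 i * xi ι 3 j) (et ι 3 i * et ι 3 j) = 0 := by
    refine f0.fix' _ (fix_of ?_ ?_ ?_)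
    · intro t
      rw [← heq _ _ m11 _ m00, hu11, hu00, map_add, map_add, map_add, map_smul, map_smul, map_smul, c1, c2, htop,
        smul_zero, smul_zero, smul_zero, add_zero, add_zero, add_zero]
    · intro c
      have h1 := wt11 ι i j c
      have h3 := wt00 ι i j c
      rw [← heq _ _ m11 _ m00, h1, h3, map_smul, map_smul, LinearMap.smul_apply, smul_smul, pow_zero, pow_zero, mul_one,
        one_mul, inv_pow, inv_mul_cancel₀ (pow_ne_zero _ (iota_ne c)), one_smul]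
    · rw [← heq _ _ m11 _ m00, hw11, hw00, hsym]
  have hall := gen_zero (ι := ι) (r := Rr ρ' ψ) (b := 1 * 3 ^ i + 1 * 3 ^ j) (b' := 1 * 3 ^ i + 1 * 3 ^ j) (B := B0) heq
    (inv_Vb' ι 3 hQ1) (top_mem ι 3 hQ1) (top_mem ι 3 hQ1) (by rw [top_eq, hw11, c3])
  intro f hf f' hf'
  have := hall f hf f' hf'
  rw [hB0, sub_eq_zero] at this
  exact this

/-- **the cubic form vanishes** -/
theorem N_eleven (f0 : Fra 3 a ψ ρ ρ') (ha : 3 ≤ a) {i j : ℕ} (hij : i ≠ j) (hi : i < a) (hj : j < a)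
    {Φ : (F × F → k) →ₗ[k] (I27 → k)} (hΦ : Hm ι (Rr ρ ψ) (1 * 3 ^ i + 1 * 3 ^ j) Φ) :
    ∀ f ∈ Vb ι (1 * 3 ^ i + 1 * 3 ^ j), cubicT (Φ f) = 0 := by
  have hF := f0.card
  have hQ := pair_lt_Q ha hij hi hj
  have hQ1 : 1 * 3 ^ i + 1 * 3 ^ j ≤ Fintype.card F - 1 := by rw [hF]; omega
  obtain ⟨m11, m10, m01, m00⟩ := e_mem ι hF ha hij hi hj
  have hi' := inv_Vb' ι 3 hQ1
  have hT := gen_tri (Trr_inv f0.pair hΦ hΦ hΦ) hi' hi' (top_mem ι 3 hQ1) (top_mem ι 3 hQ1) (by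
    intro f hf
    rw [top_eq, fRep_mul, fRep_w_xi, fRep_w_xi, neg_mul_neg]
    refine Vb_le_bf ι 3 hij (by norm_num : 1 < 3) (by norm_num : 1 < 3)
      (P := fun f => Trr Φ Φ Φ (xi ι 3 i * xi ι 3 j) (et ι 3 i * et ι 3 j) f = 0) ?_ ?_ ?_ ?_ hf
    · rw [map_zero]
    · intro f f' h1 h2
      rw [map_add, h1, h2, add_zero]
    · intro c f h1
      rw [map_smul, h1, smul_zero]
    · intro x hx y hy
      refine Trr_wt f0.pair hΦ hΦ hΦ m11 m00 (bf_mem ι 3 hij (by norm_num) (by norm_num) hQ1 hx hy) (wt11 ι i j)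
        (wt00 ι i j) (bf_wt ι 3 i j 1 1 x y) ?_
      have e1 : 1 * 3 ^ i + 1 * 3 ^ j + 0 + (x * 3 ^ i + y * 3 ^ j) = (1 + x) * 3 ^ i + (1 + y) * 3 ^ j := by ring
      have e2 : 0 + (1 * 3 ^ i + 1 * 3 ^ j) + ((1 - x) * 3 ^ i + (1 - y) * 3 ^ j) =
          (1 + (1 - x)) * 3 ^ i + (1 + (1 - y)) * 3 ^ j := by ring
      rw [e1, e2]
      have h3 : ∀ {r s : ℕ}, r ≤ 2 → s ≤ 2 → r * 3 ^ i + s * 3 ^ j < Fintype.card F - 1 := by
        intro r s hr hs
        have h2 : r * 3 ^ i ≤ 2 * 3 ^ i := Nat.mul_le_mul_right _ (by omega)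
        have h3 : s * 3 ^ j ≤ 2 * 3 ^ j := Nat.mul_le_mul_right _ (by omega)
        rw [hF]
        (clear * - hQ h2 h3; omega)
      rw [Nat.mod_eq_of_lt (h3 (by omega) (by omega)), Nat.mod_eq_of_lt (h3 (by omega) (by omega))]
      intro h4
      have := rs_inj hij (by omega) (by omega) (by omega) (by omega) h4
      omega)
  refine N_zero f0.pair hΦ hi' (top_mem ι 3 hQ1) hT ?_
  rw [top_eq]
  have w1 := hΦ.wt m11 (wt11 ι i j)
  refine N_wt (ι := ι) (ψ := ψ) (m := 1 * 3 ^ i + 1 * 3 ^ j) f0.pair (fun c => ?_) ?_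
  · rw [w1 c, pow_zero, mul_one]
  · rw [Nat.mod_eq_of_lt (by rw [hF]; omega)]
    have := Nat.pow_pos (n := i) (show 0 < 3 by norm_num)
    omega

end Main

end Cfsg.Agent.R2.P3
end

-- part: R2/P3/L11
section
/-!
# No submodules of type `11` (R2/P3, helper17), `p = 3`

`no_eleven` : there are no submodules `V_{3^i + 3^j}`.
-/

set_option autoImplicit false
set_option linter.unusedSectionVars false

namespace Cfsg.Agent.R2.P3

open Matrix Cfsg.Agent.H943.SL2Rel Cfsg.Agent.H943.SL2Mod Cfsg.Agent.H943.RepAdd Cfsg.Agent.R2.H28.SL2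
open Cfsg.Lie
open Cfsg.Agent.ChevalleyStructure.E6Min.Basic (Zgrp)
open Cfsg.Agent.ChevalleyStructure.E6Min.Inv
open Cfsg.Agent.H952.F4 (sh cr tf)
open Cfsg.Agent.H952.F4.Jord
open Cfsg.Agent.R2.GEO (Pair crB crB_apply tfB tfB_apply)

universe u v w

section Quart

variable {k : Type*} [Field k] [IsAlgClosed k] {A : Type*} [CommRing A] [Algebra k A] {W : Type*} [AddCommGroup W]
  [Module k W]

/-- **polarization, first step** -/
theorem polar1 (h2 : (2 : k) ≠ 0) {S : Submodule k A} {B : A →ₗ[k] A →ₗ[k] W} (hs : ∀ x y, B x y = B y x)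
    (h : ∀ f ∈ S, B (f * f) (f * f) = 0) {f g : A} (hf : f ∈ S) (hg : g ∈ S) : B (f * f) (f * g) = 0 := by
  obtain ⟨c, hc⟩ := IsAlgClosed.exists_pow_nat_eq (-1 : k) (n := 2) (by norm_num)
  have key : ∀ l : k, B (f * f) (f * f) + (4 * l) • B (f * f) (f * g) + (l ^ 2) • ((2 : k) • B (f * f) (g * g) +
      (4 : k) • B (f * g) (f * g)) + (4 * l ^ 3) • B (g * g) (f * g) + (l ^ 4) • B (g * g) (g * g) = 0 := by
    intro l
    have h1 := h (f + l • g) (S.add_mem hf (S.smul_mem l hg))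
    have e1 : (f + l • g) * (f + l • g) = f * f + (2 * l) • (f * g) + (l ^ 2) • (g * g) := by
      simp only [Algebra.smul_def, map_mul, map_pow, map_ofNat]
      ring
    rw [e1] at h1
    simp only [map_add, map_smul, LinearMap.add_apply, LinearMap.smul_apply] at h1
    rw [hs (f * g) (f * f), hs (g * g) (f * f), hs (f * g) (g * g)] at h1
    rw [← h1]
    module
  rw [h f hf, h g hg] at key
  simp only [zero_add, smul_zero, add_zero] at key
  have k1 := key 1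
  have k2 := key (-1)
  have k3 := key c
  have hc4 : c ^ 4 = 1 := by
    rw [show 4 = 2 * 2 by norm_num, pow_mul, hc]
    norm_num
  have hc3 : c ^ 3 = -c := by
    rw [pow_succ, hc]
    ring
  rw [hc, hc3] at k3
  have hc0 : c ≠ 0 := by
    rintro rfl
    rw [zero_pow (by norm_num)] at hc
    exact one_ne_zero (α := k) (by linear_combination hc)
  -- c2 = 0
  have e1 : (2 : k) • ((2 : k) • B (f * f) (g * g) + (4 : k) • B (f * g) (f * g)) = 0 := by
    linear_combination (norm := module) k1 + k2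
  rw [smul_eq_zero] at e1
  have e2 := e1.resolve_left h2
  rw [e2] at k1 k3
  simp only [smul_zero, add_zero] at k1 k3
  have e3 : (8 * c) • B (f * f) (f * g) = 0 := by
    linear_combination (norm := module) c • k1 + k3
  rw [smul_eq_zero] at e3
  refine e3.resolve_left (mul_ne_zero ?_ hc0)
  rw [show (8 : k) = 2 * 2 * 2 by norm_num]
  exact mul_ne_zero (mul_ne_zero h2 h2) h2

omit [IsAlgClosed k] in
/-- **polarization, second step** -/
theorem polar3 (h2 : (2 : k) ≠ 0) {S : Submodule k A} {B : A →ₗ[k] A →ₗ[k] W}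
    (h : ∀ f ∈ S, ∀ g ∈ S, B (f * f) (f * g) = 0) {f g e : A} (hf : f ∈ S) (hg : g ∈ S) (he : e ∈ S) :
    B (f * f) (g * e) + (2 : k) • B (f * g) (f * e) = 0 := by
  have h1 := h (f + g) (S.add_mem hf hg) e he
  have h3 := h (f - g) (S.sub_mem hf hg) e he
  have e1 : (f + g) * (f + g) = f * f + (2 : k) • (f * g) + g * g := by
    simp only [Algebra.smul_def, map_ofNat]
    ring
  have e2 : (f - g) * (f - g) = f * f - (2 : k) • (f * g) + g * g := by
    simp only [Algebra.smul_def, map_ofNat]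
    ring
  rw [e1, add_mul] at h1
  rw [e2, sub_mul] at h3
  simp only [map_add, map_sub, map_smul, LinearMap.add_apply, LinearMap.smul_apply, LinearMap.sub_apply] at h1 h3
  rw [h f hf e he, h g hg e he] at h1 h3
  have e3 : (2 : k) • (B (f * f) (g * e) + (2 : k) • B (f * g) (f * e)) = 0 := by
    linear_combination (norm := module) h1 - h3
  exact (smul_eq_zero.1 e3).resolve_left h2

end Quart

section Mono2

variable {k : Type u} [Field k] {F : Type w} [Field F] [Fintype F] [DecidableEq F] (ι : F →+* k)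

theorem emul (i j : ℕ) {x y x' y' : ℕ} (hx : x ≤ 1) (hy : y ≤ 1) (hx' : x' ≤ 1) (hy' : y' ≤ 1) :
    bf ι 3 i j 1 1 x y * bf ι 3 i j 1 1 x' y' = bf ι 3 i j 2 2 (x + x') (y + y') := by
  unfold bf
  have e1 : 2 - (x + x') = (1 - x) + (1 - x') := by omega
  have e2 : 2 - (y + y') = (1 - y) + (1 - y') := by omega
  rw [e1, e2]
  simp only [pow_add]
  ring

theorem bf_swap (i j : ℕ) (x y : ℕ) : bf ι 3 j i 2 2 y x = bf ι 3 i j 2 2 x y := by
  unfold bf
  ring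

variable [CharP k 3] [CharP F 3]

theorem w_bf (i j : ℕ) {x y : ℕ} (hx : x ≤ 2) (hy : y ≤ 2) :
    fRep k F w (bf ι 3 i j 2 2 x y) = ((-1 : k) ^ (x + y)) • bf ι 3 i j 2 2 (2 - x) (2 - y) := by
  unfold bf
  rw [fRep_mul, fRep_mul, fRep_mul, fRep_pow, fRep_pow, fRep_pow, fRep_pow, fRep_w_xi, fRep_w_et, fRep_w_xi, fRep_w_et]
  funext z
  simp only [Pi.mul_apply, Pi.pow_apply, Pi.smul_apply, Pi.neg_apply, smul_eq_mul]
  rw [neg_pow, neg_pow (et ι 3 j z), show 2 - (2 - x) = x by omega, show 2 - (2 - y) = y by omega, pow_add]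
  ring

end Mono2

section Main

variable {k : Type u} [Field k] [DecidableEq k] [IsAlgClosed k] {F : Type w} [Field F] [Fintype F] [DecidableEq F]
  {ι : F →+* k} [CharP k 3] [CharP F 3] {a : ℕ}
variable {ψ : _root_.Matrix.SpecialLinearGroup (Fin 2) F →* ↥(Zgrp k)} {ρ ρ' : Representation k ↥(Zgrp k) (I27 → k)}

/-- no stable totally singular subspaces -/
def Nts (r : Representation k (_root_.Matrix.SpecialLinearGroup (Fin 2) F) (I27 → k)) : Prop :=
  ∀ W : Submodule k (I27 → k), (∀ g, ∀ x ∈ W, r g x ∈ W) → (∀ x ∈ W, sh x = 0) → W = ⊥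

theorem Nts.hm {r : Representation k (_root_.Matrix.SpecialLinearGroup (Fin 2) F) (I27 → k)} (hn : Nts r) {b : ℕ}
    {Φ : (F × F → k) →ₗ[k] (I27 → k)} (hΦ : Hm ι r b Φ) (hi : ∀ g, ∀ f ∈ Vb ι b, fRep k F g f ∈ Vb ι b)
    (h : ∀ f ∈ Vb ι b, cr (Φ f) (Φ f) = 0) : ∀ f ∈ Vb ι b, Φ f = 0 := by
  have h1 := hn ((Vb ι b).map Φ) (by
    rintro g _ ⟨f, hf, rfl⟩
    exact ⟨fRep k F g f, hi g f hf, hΦ g f hf⟩) (by
    rintro _ ⟨f, hf, rfl⟩
    have h1 := h f hf
    rw [cr_self, smul_eq_zero] at h1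
    exact h1.resolve_left (two_ne (k := k)))
  intro f hf
  have h2 : Φ f ∈ (Vb ι b).map Φ := ⟨f, hf, rfl⟩
  rw [h1] at h2
  exact (Submodule.mem_bot k).1 h2

/-- the situation -/
structure Cf11 (ι : F →+* k) (a i j : ℕ) (ρ ρ' : Representation k ↥(Zgrp k) (I27 → k))
    (ψ : _root_.Matrix.SpecialLinearGroup (Fin 2) F →* ↥(Zgrp k)) (Φ Ψ : (F × F → k) →ₗ[k] (I27 → k)) : Prop where
  fra : Fra 3 a ψ ρ ρ'
  ha : 3 ≤ a
  hij : i ≠ j
  hi : i < a
  hj : j < a
  n1 : Nts (Rr ρ ψ)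
  n2 : Nts (Rr ρ' ψ)
  h1 : Hm ι (Rr ρ ψ) (1 * 3 ^ i + 1 * 3 ^ j) Φ
  h2 : Hm ι (Rr ρ' ψ) (2 * 3 ^ i + 2 * 3 ^ j) Ψ
  sq : ∀ f ∈ Vb ι (1 * 3 ^ i + 1 * 3 ^ j), ∀ f' ∈ Vb ι (1 * 3 ^ i + 1 * 3 ^ j), cr (Φ f) (Φ f') = Ψ (f * f')

theorem Cf11.swap {i j : ℕ} {Φ Ψ : (F × F → k) →ₗ[k] (I27 → k)} (C : Cf11 ι a i j ρ ρ' ψ Φ Ψ) :
    Cf11 ι a j i ρ ρ' ψ Φ Ψ where
  fra := C.fra
  ha := C.ha
  hij := C.hij.symm
  hi := C.hj
  hj := C.hi
  n1 := C.n1
  n2 := C.n2
  h1 := by rw [add_comm]; exact C.h1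
  h2 := by rw [add_comm]; exact C.h2
  sq := by
    rw [add_comm (1 * 3 ^ j)]
    exact C.sq

section

variable {i j : ℕ} {Φ Ψ : (F × F → k) →ₗ[k] (I27 → k)} (C : Cf11 ι a i j ρ ρ' ψ Φ Ψ)

include C

theorem Cf11.q1 : 1 * 3 ^ i + 1 * 3 ^ j ≤ Fintype.card F - 1 := by
  have := pair_lt_Q C.ha C.hij C.hi C.hj
  rw [C.fra.card]
  omega

theorem Cf11.q2 : 2 * 3 ^ i + 2 * 3 ^ j ≤ Fintype.card F - 1 := by
  have := pair_lt_Q C.ha C.hij C.hi C.hj
  rw [C.fra.card]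
  omega

theorem Cf11.em {x y : ℕ} (hx : x ≤ 1) (hy : y ≤ 1) : bf ι 3 i j 1 1 x y ∈ Vb ι (1 * 3 ^ i + 1 * 3 ^ j) :=
  bf_mem ι 3 C.hij (by norm_num) (by norm_num) C.q1 hx hy

theorem Cf11.mm {x y : ℕ} (hx : x ≤ 2) (hy : y ≤ 2) : bf ι 3 i j 2 2 x y ∈ Vb ι (2 * 3 ^ i + 2 * 3 ^ j) :=
  bf_mem ι 3 C.hij (by norm_num) (by norm_num) C.q2 hx hy

theorem Cf11.p0 : ∀ f ∈ Vb ι (1 * 3 ^ i + 1 * 3 ^ j), cr (Ψ (f * f)) (Ψ (f * f)) = 0 := by
  intro f hf
  have h1 := N_eleven C.fra C.ha C.hij C.hi C.hj C.h1 f hf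
  rw [← C.sq f hf f hf, cr_self (Φ f), cr_smul_left, cr_smul_right, cr_self, sh_sh, h1, zero_smul, smul_zero, smul_zero,
    smul_zero]

/-- P1 -/
theorem Cf11.p1 {f g : F × F → k} (hf : f ∈ Vb ι (1 * 3 ^ i + 1 * 3 ^ j)) (hg : g ∈ Vb ι (1 * 3 ^ i + 1 * 3 ^ j)) :
    cr (Ψ (f * f)) (Ψ (f * g)) = 0 :=
  polar1 (two_ne (k := k)) (S := Vb ι (1 * 3 ^ i + 1 * 3 ^ j)) (B := (crB k).compl₁₂ Ψ Ψ) (fun _ _ => cr_comm _ _) C.p0
    hf hg

/-- P3 -/
theorem Cf11.p3 {f g e : F × F → k} (hf : f ∈ Vb ι (1 * 3 ^ i + 1 * 3 ^ j)) (hg : g ∈ Vb ι (1 * 3 ^ i + 1 * 3 ^ j))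
    (he : e ∈ Vb ι (1 * 3 ^ i + 1 * 3 ^ j)) :
    cr (Ψ (f * f)) (Ψ (g * e)) + (2 : k) • cr (Ψ (f * g)) (Ψ (f * e)) = 0 :=
  polar3 (two_ne (k := k)) (S := Vb ι (1 * 3 ^ i + 1 * 3 ^ j)) (B := (crB k).compl₁₂ Ψ Ψ) (fun _ hf _ hg => C.p1 hf hg)
    hf hg he

/-- P1 on monomials -/
theorem Cf11.m1 {x y x' y' : ℕ} (hx : x ≤ 1) (hy : y ≤ 1) (hx' : x' ≤ 1) (hy' : y' ≤ 1) :
    cr (Ψ (bf ι 3 i j 2 2 (x + x) (y + y))) (Ψ (bf ι 3 i j 2 2 (x + x') (y + y'))) = 0 := by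
  rw [← emul ι i j hx hy hx hy, ← emul ι i j hx hy hx' hy']
  exact C.p1 (C.em hx hy) (C.em hx' hy')

/-- P3 on monomials -/
theorem Cf11.m3 {x y x' y' x'' y'' : ℕ} (hx : x ≤ 1) (hy : y ≤ 1) (hx' : x' ≤ 1) (hy' : y' ≤ 1) (hx'' : x'' ≤ 1)
    (hy'' : y'' ≤ 1) :
    cr (Ψ (bf ι 3 i j 2 2 (x + x) (y + y))) (Ψ (bf ι 3 i j 2 2 (x' + x'') (y' + y''))) +
    (2 : k) • cr (Ψ (bf ι 3 i j 2 2 (x + x') (y + y'))) (Ψ (bf ι 3 i j 2 2 (x + x'') (y + y''))) = 0 := by
  rw [← emul ι i j hx hy hx hy, ← emul ι i j hx hy hx' hy', ← emul ι i j hx hy hx'' hy'', ← emul ι i j hx' hy' hx'' hy'']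
  exact C.p3 (C.em hx hy) (C.em hx' hy') (C.em hx'' hy'')

/-- the cubic form vanishes on `Ψ(V_22)` -/
theorem Cf11.nz : ∀ f ∈ Vb ι (2 * 3 ^ i + 2 * 3 ^ j), cubicT (Ψ f) = 0 := by
  have hF := C.fra.card
  have hQ := pair_lt_Q C.ha C.hij C.hi C.hj
  have hi' := inv_Vb' ι 3 C.q2
  have hT := gen_tri (Trr_inv C.fra.pair.swap C.h2 C.h2 C.h2) hi' hi' (top_mem ι 3 C.q2) (top_mem ι 3 C.q2) (by
    intro f hf
    have e1 : mon ι (2 * 3 ^ i + 2 * 3 ^ j) (2 * 3 ^ i + 2 * 3 ^ j) = bf ι 3 i j 2 2 2 2 :=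
      (bf_eq_mon ι 3 i j le_rfl le_rfl).symm
    rw [e1, w_bf ι i j le_rfl le_rfl, show (-1 : k) ^ (2 + 2) = 1 by norm_num, one_smul]
    refine Vb_le_bf ι 3 C.hij (by norm_num : 2 < 3) (by norm_num : 2 < 3)
      (P := fun f => Trr Ψ Ψ Ψ (bf ι 3 i j 2 2 2 2) (bf ι 3 i j 2 2 (2 - 2) (2 - 2)) f = 0) ?_ ?_ ?_ ?_ hf
    · rw [map_zero]
    · intro f f' h1 h2
      rw [map_add, h1, h2, add_zero]
    · intro c f h1
      rw [map_smul, h1, smul_zero]
    · intro x hx y hy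
      by_cases hxy : x = 1 ∧ y = 1
      · obtain ⟨rfl, rfl⟩ := hxy
        rw [Trr_apply, tri_s12, tri_s23, C.m1 (x := 0) (y := 0) (x' := 1) (y' := 1) (by norm_num) (by norm_num) le_rfl le_rfl]
        exact Cfsg.Agent.R2.GEO.tf_zero_left _
      · refine Trr_wt C.fra.pair.swap C.h2 C.h2 C.h2 (C.mm le_rfl le_rfl) (C.mm (by norm_num) (by norm_num)) (C.mm hx hy)
          (bf_wt ι 3 i j 2 2 2 2) (bf_wt ι 3 i j 2 2 _ _) (bf_wt ι 3 i j 2 2 x y) ?_
        intro h3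
        apply hxy
        have h4 : 2 * 3 ^ i + 2 * 3 ^ j + (x * 3 ^ i + y * 3 ^ j) ≡ 2 * 3 ^ i + 2 * 3 ^ j + ((2 - x) * 3 ^ i + (2 - y) * 3 ^ j)
            [MOD Fintype.card F - 1] := by
          show _ % _ = _ % _
          simpa only [_root_.tsub_self, _root_.MulZeroClass.zero_mul, _root_.add_zero, _root_.tsub_zero, _root_.zero_add] using h3
        have h5 := Nat.ModEq.add_left_cancel' _ h4
        have h6 : ∀ {r s : ℕ}, r ≤ 2 → s ≤ 2 → r * 3 ^ i + s * 3 ^ j < Fintype.card F - 1 := by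
          intro r s hr hs
          have h2 : r * 3 ^ i ≤ 2 * 3 ^ i := Nat.mul_le_mul_right _ (by omega)
          have h3 : s * 3 ^ j ≤ 2 * 3 ^ j := Nat.mul_le_mul_right _ (by omega)
          rw [hF]
          omega
        have h7 := Nat.ModEq.eq_of_lt_of_lt h5 (h6 hx hy) (h6 (by omega) (by omega))
        have := rs_inj C.hij (by omega) (by omega) (by omega) (by omega) h7
        omega)
  refine N_zero C.fra.pair.swap C.h2 hi' (top_mem ι 3 C.q2) hT ?_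
  have e1 : mon ι (2 * 3 ^ i + 2 * 3 ^ j) (2 * 3 ^ i + 2 * 3 ^ j) = bf ι 3 i j 2 2 2 2 :=
    (bf_eq_mon ι 3 i j le_rfl le_rfl).symm
  rw [e1]
  have w1 := C.h2.wt (C.mm le_rfl le_rfl) (bf_wt ι 3 i j 2 2 2 2)
  refine N_wt (ι := ι) (ψ := ψ) (m := 2 * 3 ^ i + 2 * 3 ^ j) C.fra.pair.swap (fun c => ?_) ?_
  · rw [w1 c]
    simp
  · rw [Nat.mod_eq_of_lt (by rw [hF]; omega)]
    have := Nat.pow_pos (n := i) (show 0 < 3 by norm_num)
    omega

/-- the squares of `Ψ(V_22)` -/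
theorem Cf11.shsh {f : F × F → k} (hf : f ∈ Vb ι (2 * 3 ^ i + 2 * 3 ^ j)) :
    cr (cr (Ψ f) (Ψ f)) (cr (Ψ f) (Ψ f)) = 0 := by
  rw [cr_self (Ψ f), cr_smul_left, cr_smul_right, cr_self, sh_sh, C.nz f hf, zero_smul, smul_zero, smul_zero, smul_zero]

/-- the action of `u t` -/
theorem Cf11.uw (t : F) :
    Rr ρ ψ (u t) (cr (Ψ (bf ι 3 i j 2 2 0 0)) (Ψ (bf ι 3 i j 2 2 0 2))) =
    cr (Ψ (bf ι 3 i j 2 2 0 0)) (Ψ (bf ι 3 i j 2 2 0 2)) +
    (ι t ^ 3 ^ i) • ((2 : k) • cr (Ψ (bf ι 3 i j 2 2 1 0)) (Ψ (bf ι 3 i j 2 2 0 2)) +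
      (2 : k) • cr (Ψ (bf ι 3 i j 2 2 0 0)) (Ψ (bf ι 3 i j 2 2 1 2))) +
    ((ι t ^ 3 ^ i) ^ 2) • (cr (Ψ (bf ι 3 i j 2 2 2 0)) (Ψ (bf ι 3 i j 2 2 0 2)) +
      (4 : k) • cr (Ψ (bf ι 3 i j 2 2 1 0)) (Ψ (bf ι 3 i j 2 2 1 2)) +
      cr (Ψ (bf ι 3 i j 2 2 0 0)) (Ψ (bf ι 3 i j 2 2 2 2))) +
    ((ι t ^ 3 ^ i) ^ 3) • ((2 : k) • cr (Ψ (bf ι 3 i j 2 2 2 0)) (Ψ (bf ι 3 i j 2 2 1 2)) +
      (2 : k) • cr (Ψ (bf ι 3 i j 2 2 1 0)) (Ψ (bf ι 3 i j 2 2 2 2))) +
    ((ι t ^ 3 ^ i) ^ 4) • cr (Ψ (bf ι 3 i j 2 2 2 0)) (Ψ (bf ι 3 i j 2 2 2 2)) := by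
  obtain ⟨c, hc⟩ : ∃ c, c = ι t ^ 3 ^ i := ⟨_, rfl⟩
  obtain ⟨d, hd⟩ : ∃ d, d = ι t ^ 3 ^ j := ⟨_, rfl⟩
  have m1 := C.em (x := 0) (y := 0) (by norm_num) (by norm_num)
  have m2 := C.em (x := 1) (y := 0) (by norm_num) (by norm_num)
  have m3 := C.em (x := 0) (y := 1) (by norm_num) (by norm_num)
  have m4 := C.em (x := 1) (y := 1) (by norm_num) (by norm_num)
  -- `f1 = (E + c X) E'`, `f2 = (E + c X) X'`
  have n1 : bf ι 3 i j 1 1 0 0 + c • bf ι 3 i j 1 1 1 0 ∈ Vb ι (1 * 3 ^ i + 1 * 3 ^ j) :=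
    add_mem m1 (Submodule.smul_mem _ _ m2)
  have n2 : bf ι 3 i j 1 1 0 1 + c • bf ι 3 i j 1 1 1 1 ∈ Vb ι (1 * 3 ^ i + 1 * 3 ^ j) :=
    add_mem m3 (Submodule.smul_mem _ _ m4)
  have e1 : fRep k F (u t) (bf ι 3 i j 2 2 0 0) =
      (bf ι 3 i j 1 1 0 0 + c • bf ι 3 i j 1 1 1 0) * (bf ι 3 i j 1 1 0 0 + c • bf ι 3 i j 1 1 1 0) +
      (2 * d) • ((bf ι 3 i j 1 1 0 1 + c • bf ι 3 i j 1 1 1 1) * (bf ι 3 i j 1 1 0 0 + c • bf ι 3 i j 1 1 1 0)) +
      (d ^ 2) • ((bf ι 3 i j 1 1 0 1 + c • bf ι 3 i j 1 1 1 1) * (bf ι 3 i j 1 1 0 1 + c • bf ι 3 i j 1 1 1 1)) := by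
    unfold bf
    simp only [fRep_mul, fRep_pow, fRep_u_xi, fRep_u_et, ← hc, ← hd]
    funext z
    simp only [Pi.add_apply, Pi.mul_apply, Pi.smul_apply, Pi.pow_apply, smul_eq_mul]
    ring
  have e2 : fRep k F (u t) (bf ι 3 i j 2 2 0 2) =
      (bf ι 3 i j 1 1 0 1 + c • bf ι 3 i j 1 1 1 1) * (bf ι 3 i j 1 1 0 1 + c • bf ι 3 i j 1 1 1 1) := by
    unfold bf
    simp only [fRep_mul, fRep_pow, fRep_u_xi, fRep_u_et, ← hc, ← hd]
    funext z
    simp only [Pi.add_apply, Pi.mul_apply, Pi.smul_apply, Pi.pow_apply, smul_eq_mul]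
    ring
  have e3 : (bf ι 3 i j 1 1 0 0 + c • bf ι 3 i j 1 1 1 0) * (bf ι 3 i j 1 1 0 0 + c • bf ι 3 i j 1 1 1 0) =
      bf ι 3 i j 2 2 0 0 + (2 * c) • bf ι 3 i j 2 2 1 0 + (c ^ 2) • bf ι 3 i j 2 2 2 0 := by
    unfold bf
    funext z
    simp only [Pi.add_apply, Pi.mul_apply, Pi.smul_apply, Pi.pow_apply, smul_eq_mul]
    ring
  have e4 : (bf ι 3 i j 1 1 0 1 + c • bf ι 3 i j 1 1 1 1) * (bf ι 3 i j 1 1 0 1 + c • bf ι 3 i j 1 1 1 1) =
      bf ι 3 i j 2 2 0 2 + (2 * c) • bf ι 3 i j 2 2 1 2 + (c ^ 2) • bf ι 3 i j 2 2 2 2 := by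
    unfold bf
    funext z
    simp only [Pi.add_apply, Pi.mul_apply, Pi.smul_apply, Pi.pow_apply, smul_eq_mul]
    ring
  have h5 := C.p1 n2 n1
  have h6 := C.p1 n2 n2
  rw [cr_eqv C.fra.pair.swap C.h2 C.h2 _ (C.mm (by norm_num) (by norm_num)) (C.mm (by norm_num) (by norm_num)), e1, e2]
  simp only [map_add Ψ, map_smul Ψ, cr_add_left, cr_smul_left]
  rw [cr_comm (Ψ ((bf ι 3 i j 1 1 0 1 + c • bf ι 3 i j 1 1 1 1) * (bf ι 3 i j 1 1 0 0 + c • bf ι 3 i j 1 1 1 0))), h5, h6,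
    smul_zero, smul_zero, add_zero, add_zero, e3, e4, ← hc]
  simp only [map_add Ψ, map_smul Ψ, cr_add_left, cr_smul_left, cr_add_right, cr_smul_right]
  module

end

end Main

end Cfsg.Agent.R2.P3
end

-- part: R2/P3/L11b
section
/-!
# No submodules of type `11`, second part (R2/P3, helper17), `p = 3`

`no_eleven` : there are no submodules `V_{3^i + 3^j}`.
-/

set_option autoImplicit false
set_option linter.unusedSectionVars false

namespace Cfsg.Agent.R2.P3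

open Matrix Cfsg.Agent.H943.SL2Rel Cfsg.Agent.H943.SL2Mod Cfsg.Agent.H943.RepAdd Cfsg.Agent.R2.H28.SL2
open Cfsg.Lie
open Cfsg.Agent.ChevalleyStructure.E6Min.Basic (Zgrp)
open Cfsg.Agent.ChevalleyStructure.E6Min.Inv
open Cfsg.Agent.H952.F4 (sh cr tf)
open Cfsg.Agent.H952.F4.Jord
open Cfsg.Agent.R2.GEO (Pair crB crB_apply tfB tfB_apply)

universe u v w

theorem next_ne {a i : ℕ} (ha : 3 ≤ a) (hi : i < a) : i ≠ (i + 1) % a := by
  rcases Nat.lt_or_ge (i + 1) a with h | h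
  · rw [Nat.mod_eq_of_lt h]
    omega
  · rw [show i + 1 = a by omega, Nat.mod_self]
    omega

theorem pow_next {k : Type u} [Field k] {F : Type w} [Field F] [Fintype F] [DecidableEq F] (ι : F →+* k) {a i : ℕ}
    (hF : Fintype.card F = 3 ^ a) (hi : i < a) (t : F) : (ι t ^ 3 ^ i) ^ 3 = ι t ^ 3 ^ ((i + 1) % a) := by
  rw [← pow_mul, ← pow_succ]
  rcases Nat.lt_or_ge (i + 1) a with h | h
  · rw [Nat.mod_eq_of_lt h]
  · rw [show i + 1 = a by omega, Nat.mod_self, pow_zero, pow_one, ← hF, powq]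

section Gen11

variable {k : Type u} [Field k] {F : Type w} [Field F] [Fintype F] [DecidableEq F] (ι : F →+* k) [CharP k 3] [CharP F 3]
  {a : ℕ} {V : Type*} [AddCommGroup V] [Module k V] {r : Representation k (_root_.Matrix.SpecialLinearGroup (Fin 2) F) V}
  {i i' : ℕ} {w0 w1 w2 w3 w4 : V}

/-- the middle coefficient is fixed by `U` -/
theorem u_fix (hF : Fintype.card F = 3 ^ a) (ha : 3 ≤ a) (hne : i ≠ i') (hi : i < a) (hi' : i' < a)
    (huw : ∀ t, r (u t) w0 = w0 + (ι t ^ 3 ^ i) • w1 + ((ι t ^ 3 ^ i) ^ 2) • w2 + (ι t ^ 3 ^ i') • w3 +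
      (ι t ^ 3 ^ i * ι t ^ 3 ^ i') • w4) (s : F) : r (u s) w2 = w2 := by
  let D : ℕ → ℕ → V := fun r' s' =>
    match r', s' with
    | 0, 0 => r (u s) w0 - (w0 + (ι s ^ 3 ^ i) • w1 + ((ι s ^ 3 ^ i) ^ 2) • w2 + (ι s ^ 3 ^ i') • w3 +
        (ι s ^ 3 ^ i * ι s ^ 3 ^ i') • w4)
    | 1, 0 => r (u s) w1 - (w1 + (2 * ι s ^ 3 ^ i) • w2 + (ι s ^ 3 ^ i') • w4)
    | 2, 0 => r (u s) w2 - w2
    | 0, 1 => r (u s) w3 - (w3 + (ι s ^ 3 ^ i) • w4)
    | 1, 1 => r (u s) w4 - w4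
    | _, _ => 0
  have hD := coeff2 ι hF ha hne hi hi' (C := D) (fun t => by
    have h1 : r (u s) (r (u t) w0) = r (u (s + t)) w0 := by
      rw [u_add, map_mul, Module.End.mul_apply]
    rw [huw t, huw (s + t), map_add ι, add_pow_char_pow, add_pow_char_pow] at h1
    simp only [map_add, map_smul] at h1
    simp only [Finset.sum_range_succ, Finset.sum_range_zero, zero_add, D, pow_zero, pow_one, mul_one, one_mul, one_smul,
      smul_zero, add_zero]
    rw [← sub_eq_zero] at h1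
    rw [← h1]
    module)
  exact sub_eq_zero.1 (hD 2 (by norm_num) 0 (by norm_num))

/-- all coefficients vanish -/
theorem w_zero (hF : Fintype.card F = 3 ^ a) (ha : 3 ≤ a) (hne : i ≠ i') (hi : i < a) (hi' : i' < a)
    (huw : ∀ t : F, w0 + (ι t ^ 3 ^ i) • w1 + ((ι t ^ 3 ^ i) ^ 2) • w2 + (ι t ^ 3 ^ i') • w3 +
      (ι t ^ 3 ^ i * ι t ^ 3 ^ i') • w4 = 0) : w3 = 0 := by
  let D : ℕ → ℕ → V := fun r' s' =>
    match r', s' with
    | 0, 0 => w0
    | 1, 0 => w1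
    | 2, 0 => w2
    | 0, 1 => w3
    | 1, 1 => w4
    | _, _ => 0
  have hD := coeff2 ι hF ha hne hi hi' (C := D) (fun t => by
    simp only [Finset.sum_range_succ, Finset.sum_range_zero, zero_add, D, pow_zero, pow_one, mul_one, one_mul, one_smul,
      smul_zero, add_zero]
    rw [← huw t]
    module)
  exact hD 0 (by norm_num) 1 (by norm_num)

/-- the module generated by a vector of weight `3^i + 3^i'` -/
theorem exists_gen11 [DecidableEq k] (hF : Fintype.card F = 3 ^ a) (ha : 3 ≤ a) (hne : i ≠ i') (hi : i < a) (hi' : i' < a) {P : V}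
    (huP : ∀ t, r (u t) P = P) (hwt : ∀ c, r (h c) P = ι c ^ (1 * 3 ^ i + 1 * 3 ^ i') • P)
    (huw : ∀ t, r (u t) (r w P) = w0 + (ι t ^ 3 ^ i) • w1 + ((ι t ^ 3 ^ i) ^ 2) • w2 + (ι t ^ 3 ^ i') • w3 +
      (ι t ^ 3 ^ i * ι t ^ 3 ^ i') • w4) (hw2z : w2 = 0) :
    ∃ Φ₁ : (F × F → k) →ₗ[k] V, Hm ι r (1 * 3 ^ i + 1 * 3 ^ i') Φ₁ ∧
      Φ₁ (mon ι (1 * 3 ^ i + 1 * 3 ^ i') (1 * 3 ^ i + 1 * 3 ^ i')) = P := by
  have hQ := pair_lt_Q ha hne hi hi'
  let z : ℕ → ℕ → V := fun r s' =>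
      match r, s' with
      | 0, 0 => w0
      | 1, 0 => w1
      | 2, 0 => w2
      | 0, 1 => w3
      | 1, 1 => w4
      | _, _ => 0
  have hz20 : z 2 0 = 0 := hw2z
  have hz02 : z 0 2 = 0 := rfl
  have hsum : ∀ t, r (u t) (r w P) = ∑ x ∈ Finset.range 3 ×ˢ Finset.range 3, ι t ^ (x.1 * 3 ^ i + x.2 * 3 ^ i') • z x.1 x.2 := by
    intro t
    rw [huw, Finset.sum_product]
    simp only [Finset.sum_range_succ, Finset.sum_range_zero, zero_add, z]
    simp only [zero_mul, add_zero, pow_zero, one_smul, one_mul, zero_add, smul_zero, pow_add, pow_mul, mul_comm 2 (3 ^ i)]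
    abel
  clear_value z
  refine exists_Hm (r := r) ι 3 hF (c := 1 * 3 ^ i + 1 * 3 ^ i') (by rw [hF]; omega) (y := P) huP hwt
    (J := Finset.range 3 ×ˢ Finset.range 3) (e := fun x => x.1 * 3 ^ i + x.2 * 3 ^ i') (z := fun x => z x.1 x.2)
    hsum
    (by
      rintro ⟨r, s⟩ h1 h2 h3
      exfalso
      rw [Finset.mem_product, Finset.mem_range, Finset.mem_range] at h1
      have h4 : r * 3 ^ i ≤ 2 * 3 ^ i := Nat.mul_le_mul_right _ (by have := h1.1; omega)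
      have h5 : s * 3 ^ i' ≤ 2 * 3 ^ i' := Nat.mul_le_mul_right _ (by have := h1.2; omega)
      have h6 : (r * 3 ^ i + s * 3 ^ i') % (Fintype.card F - 1) = 0 := h3
      rw [Nat.mod_eq_of_lt (by rw [hF]; omega)] at h6
      exact h2 h6)
    (by
      rintro s' hs' - ⟨r, s⟩ h1 h3
      rw [Finset.mem_product, Finset.mem_range, Finset.mem_range] at h1
      have h4 : r * 3 ^ i ≤ 2 * 3 ^ i := Nat.mul_le_mul_right _ (by have := h1.1; omega)
      have h5 : s * 3 ^ i' ≤ 2 * 3 ^ i' := Nat.mul_le_mul_right _ (by have := h1.2; omega)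
      have h6 : (r * 3 ^ i + s * 3 ^ i') % (Fintype.card F - 1) = en 3 (1 * 3 ^ i + 1 * 3 ^ i') s' % (Fintype.card F - 1) := h3
      rw [Nat.mod_eq_of_lt (by rw [hF]; omega)] at h6
      by_cases hs1 : s' = i
      · subst hs1
        have h7 : en 3 (1 * 3 ^ s' + 1 * 3 ^ i') s' = 2 * 3 ^ s' + 0 * 3 ^ i' := by
          unfold en
          rw [dgt3 hne (by norm_num) (by norm_num), if_pos rfl]
          ring
        rw [h7, Nat.mod_eq_of_lt (by rw [hF]; omega)] at h6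
        obtain ⟨rfl, rfl⟩ := rs_inj hne h1.1 h1.2 (by norm_num) (by norm_num) h6
        exact hz20
      · by_cases hs2 : s' = i'
        · subst hs2
          have h7 : en 3 (1 * 3 ^ i + 1 * 3 ^ s') s' = 0 * 3 ^ i + 2 * 3 ^ s' := by
            unfold en
            rw [dgt3 hne (by norm_num) (by norm_num), if_neg (Ne.symm hne), if_pos rfl]
            ring
          rw [h7, Nat.mod_eq_of_lt (by rw [hF]; omega)] at h6
          obtain ⟨rfl, rfl⟩ := rs_inj hne h1.1 h1.2 (by norm_num) (by norm_num) h6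
          exact hz02
        · exfalso
          have h7 : en 3 (1 * 3 ^ i + 1 * 3 ^ i') s' = 1 * 3 ^ s' := by
            unfold en
            rw [dgt3 hne (by norm_num) (by norm_num), if_neg hs1, if_neg hs2]
          have h8 : 1 * 3 ^ s' + 0 * 3 ^ i < Fintype.card F - 1 := by
            have := pair_lt_Q ha hs1 hs' hi
            rw [hF]
            omega
          rw [h7, Nat.mod_eq_of_lt (by omega)] at h6
          have h9 := dgt3 (l := s') hne h1.1 h1.2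
          rw [h6, if_neg hs1, if_neg hs2, dg_single (by norm_num) (by norm_num), if_pos rfl] at h9
          omega)

end Gen11

section Main

variable {k : Type u} [Field k] [DecidableEq k] [IsAlgClosed k] {F : Type w} [Field F] [Fintype F] [DecidableEq F]
  {ι : F →+* k} [CharP k 3] [CharP F 3] {a : ℕ}
variable {ψ : _root_.Matrix.SpecialLinearGroup (Fin 2) F →* ↥(Zgrp k)} {ρ ρ' : Representation k ↥(Zgrp k) (I27 → k)}
variable {i j : ℕ} {Φ Ψ : (F × F → k) →ₗ[k] (I27 → k)} (C : Cf11 ι a i j ρ ρ' ψ Φ Ψ)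

include C

/-- the weights of `cr (Ψ f) (Ψ f')` -/
theorem Cf11.cwt {f f' : F × F → k} (hf : f ∈ Vb ι (2 * 3 ^ i + 2 * 3 ^ j)) (hf' : f' ∈ Vb ι (2 * 3 ^ i + 2 * 3 ^ j))
    {m n m' n' : ℕ} (h : Wt ι (fRep k F) f m n) (h' : Wt ι (fRep k F) f' m' n') :
    Wt ι (Rr ρ ψ) (cr (Ψ f) (Ψ f')) (m + m') (n + n') := by
  intro c
  rw [cr_eqv C.fra.pair.swap C.h2 C.h2 _ hf hf', h, h', map_smul, map_smul, cr_smul_left, cr_smul_right, smul_smul]
  congr 1
  rw [pow_add, pow_add]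
  ring

omit C [DecidableEq k] [IsAlgClosed k] in
theorem wv : fRep k F w (bf ι 3 i j 2 2 2 2) = bf ι 3 i j 2 2 0 0 ∧ fRep k F w (bf ι 3 i j 2 2 2 0) = bf ι 3 i j 2 2 0 2 ∧
    fRep k F w (bf ι 3 i j 2 2 0 2) = bf ι 3 i j 2 2 2 0 ∧ fRep k F w (bf ι 3 i j 2 2 0 0) = bf ι 3 i j 2 2 2 2 ∧
    fRep k F w (bf ι 3 i j 2 2 1 0) = (-1 : k) • bf ι 3 i j 2 2 1 2 ∧
    fRep k F w (bf ι 3 i j 2 2 1 2) = (-1 : k) • bf ι 3 i j 2 2 1 0 ∧
    fRep k F w (bf ι 3 i j 2 2 1 1) = bf ι 3 i j 2 2 1 1 := by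
  have e1 : ∀ n, Even n → (-1 : k) ^ n = 1 := fun n hn => hn.neg_one_pow
  have e2 : ∀ n, Odd n → (-1 : k) ^ n = -1 := fun n hn => hn.neg_one_pow
  refine ⟨?_, ?_, ?_, ?_, ?_, ?_, ?_⟩ <;> rw [w_bf ι i j (by decide) (by decide)]
  · rw [e1 _ (by decide), one_smul]
  · rw [e1 _ (by decide), one_smul]
  · rw [e1 _ (by decide), one_smul]
  · rw [e1 _ (by decide), one_smul]
  · rw [e2 _ (by decide)]
  · rw [e2 _ (by decide)]
  · rw [e1 _ (by decide), one_smul]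

/-- P1 and P3 on monomials, explicitly -/
theorem Cf11.rel :
    cr (Ψ (bf ι 3 i j 2 2 2 2)) (Ψ (bf ι 3 i j 2 2 2 2)) = 0 ∧ cr (Ψ (bf ι 3 i j 2 2 2 2)) (Ψ (bf ι 3 i j 2 2 2 1)) = 0 ∧
    cr (Ψ (bf ι 3 i j 2 2 2 2)) (Ψ (bf ι 3 i j 2 2 1 2)) = 0 ∧ cr (Ψ (bf ι 3 i j 2 2 2 2)) (Ψ (bf ι 3 i j 2 2 1 1)) = 0 ∧
    cr (Ψ (bf ι 3 i j 2 2 2 0)) (Ψ (bf ι 3 i j 2 2 2 0)) = 0 :=
  ⟨C.m1 (x := 1) (y := 1) (x' := 1) (y' := 1) le_rfl le_rfl le_rfl le_rfl,
    C.m1 (x := 1) (y := 1) (x' := 1) (y' := 0) le_rfl le_rfl le_rfl (by decide),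
    C.m1 (x := 1) (y := 1) (x' := 0) (y' := 1) le_rfl le_rfl (by decide) le_rfl,
    C.m1 (x := 1) (y := 1) (x' := 0) (y' := 0) le_rfl le_rfl (by decide) (by decide),
    C.m1 (x := 1) (y := 0) (x' := 1) (y' := 0) le_rfl (by decide) le_rfl (by decide)⟩

/-- the middle coefficient vanishes -/
theorem Cf11.w2z : cr (Ψ (bf ι 3 i j 2 2 2 0)) (Ψ (bf ι 3 i j 2 2 0 2)) +
      (4 : k) • cr (Ψ (bf ι 3 i j 2 2 1 0)) (Ψ (bf ι 3 i j 2 2 1 2)) +
      cr (Ψ (bf ι 3 i j 2 2 0 0)) (Ψ (bf ι 3 i j 2 2 2 2)) = 0 := by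
  have hne := next_ne C.ha C.hi
  have hlt : (i + 1) % a < a := Nat.mod_lt _ (by have := C.ha; omega)
  have M : ∀ {x y : ℕ}, x ≤ 2 → y ≤ 2 → bf ι 3 i j 2 2 x y ∈ Vb ι (2 * 3 ^ i + 2 * 3 ^ j) := fun hx hy => C.mm hx hy
  obtain ⟨v22, v20, v02, v00, v10, v12, v11⟩ := wv (ι := ι) (i := i) (j := j)
  refine C.fra.fix _ (fix_of ?_ ?_ ?_)
  · refine u_fix ι C.fra.card C.ha hne C.hi hlt (w0 := cr (Ψ (bf ι 3 i j 2 2 0 0)) (Ψ (bf ι 3 i j 2 2 0 2)))
      (w1 := (2 : k) • cr (Ψ (bf ι 3 i j 2 2 1 0)) (Ψ (bf ι 3 i j 2 2 0 2)) +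
      (2 : k) • cr (Ψ (bf ι 3 i j 2 2 0 0)) (Ψ (bf ι 3 i j 2 2 1 2)))
      (w3 := (2 : k) • cr (Ψ (bf ι 3 i j 2 2 2 0)) (Ψ (bf ι 3 i j 2 2 1 2)) +
      (2 : k) • cr (Ψ (bf ι 3 i j 2 2 1 0)) (Ψ (bf ι 3 i j 2 2 2 2)))
      (w4 := cr (Ψ (bf ι 3 i j 2 2 2 0)) (Ψ (bf ι 3 i j 2 2 2 2))) fun t => ?_
    rw [C.uw t, ← pow_next ι C.fra.card C.hi t, ← pow_succ']
  · intro c
    have k1 := (C.cwt (M le_rfl (by norm_num)) (M (by norm_num) le_rfl) (bf_wt ι 3 i j 2 2 2 0) (bf_wt ι 3 i j 2 2 0 2))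
    have k2 := (C.cwt (M (by norm_num) (by norm_num)) (M (by norm_num) le_rfl) (bf_wt ι 3 i j 2 2 1 0)
      (bf_wt ι 3 i j 2 2 1 2))
    have k3 := (C.cwt (M (by norm_num) (by norm_num)) (M le_rfl le_rfl) (bf_wt ι 3 i j 2 2 0 0)
      (bf_wt ι 3 i j 2 2 2 2))
    have e1 : 2 * 3 ^ i + 0 * 3 ^ j + (0 * 3 ^ i + 2 * 3 ^ j) = (2 - 2) * 3 ^ i + (2 - 0) * 3 ^ j + ((2 - 0) * 3 ^ i + (2 - 2) * 3 ^ j) := by
      norm_num only [_root_.MulZeroClass.zero_mul, _root_.add_zero, _root_.zero_add]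
      ring
    have e2 : 1 * 3 ^ i + 0 * 3 ^ j + (1 * 3 ^ i + 2 * 3 ^ j) = (2 - 1) * 3 ^ i + (2 - 0) * 3 ^ j + ((2 - 1) * 3 ^ i + (2 - 2) * 3 ^ j) := by
      norm_num
      ring
    have e3 : 0 * 3 ^ i + 0 * 3 ^ j + (2 * 3 ^ i + 2 * 3 ^ j) = (2 - 0) * 3 ^ i + (2 - 0) * 3 ^ j + ((2 - 2) * 3 ^ i + (2 - 2) * 3 ^ j) := by
      norm_num
    rw [← e1] at k1
    rw [← e2] at k2
    rw [← e3] at k3
    rw [map_add, map_add, map_smul, k1.fix, k2.fix, k3.fix]
  · rw [map_add, map_add, map_smul, cr_eqv C.fra.pair.swap C.h2 C.h2 _ (M le_rfl (by norm_num)) (M (by norm_num) le_rfl),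
      cr_eqv C.fra.pair.swap C.h2 C.h2 _ (M (by norm_num) (by norm_num)) (M (by norm_num) le_rfl),
      cr_eqv C.fra.pair.swap C.h2 C.h2 _ (M (by norm_num) (by norm_num)) (M le_rfl le_rfl),
      v20, v02, v10, v12, v00, v22, map_smul, map_smul, cr_smul_left, cr_smul_right, smul_smul (-1 : k) (-1 : k),
      neg_one_mul, neg_neg, one_smul,
      cr_comm (Ψ (bf ι 3 i j 2 2 0 2)), cr_comm (Ψ (bf ι 3 i j 2 2 1 2)), cr_comm (Ψ (bf ι 3 i j 2 2 2 2))]

/-- **the vector `cr (Ψ y22) (Ψ y20)` vanishes** -/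
theorem Cf11.pz : cr (Ψ (bf ι 3 i j 2 2 2 2)) (Ψ (bf ι 3 i j 2 2 2 0)) = 0 := by
  have hF := C.fra.card
  have hne := next_ne C.ha C.hi
  have hlt : (i + 1) % a < a := Nat.mod_lt _ (by have := C.ha; omega)
  have M : ∀ {x y : ℕ}, x ≤ 2 → y ≤ 2 → bf ι 3 i j 2 2 x y ∈ Vb ι (2 * 3 ^ i + 2 * 3 ^ j) := fun hx hy => C.mm hx hy
  obtain ⟨v22, v20, v02, v00, v10, v12, v11⟩ := wv (ι := ι) (i := i) (j := j)
  obtain ⟨r1, r2, r3, r4, r5⟩ := C.rel
  obtain ⟨P, hP⟩ : ∃ P, P = cr (Ψ (bf ι 3 i j 2 2 2 2)) (Ψ (bf ι 3 i j 2 2 2 0)) := ⟨_, rfl⟩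
  rw [← hP]
  have hwP : Rr ρ ψ w P = cr (Ψ (bf ι 3 i j 2 2 0 0)) (Ψ (bf ι 3 i j 2 2 0 2)) := by
    rw [hP, cr_eqv C.fra.pair.swap C.h2 C.h2 _ (M le_rfl le_rfl) (M le_rfl (by norm_num)), v22, v20]
  -- `u t P = P`
  have huP : ∀ t, Rr ρ ψ (u t) P = P := by
    intro t
    have e1 : fRep k F (u t) (bf ι 3 i j 2 2 2 2) = bf ι 3 i j 2 2 2 2 := by
      unfold bf
      simp only [fRep_mul, fRep_pow, fRep_u_xi, Nat.sub_self, pow_zero]
      rfl
    have e2 : fRep k F (u t) (bf ι 3 i j 2 2 2 0) = bf ι 3 i j 2 2 2 0 + (2 * ι t ^ 3 ^ j) • bf ι 3 i j 2 2 2 1 +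
        ((ι t ^ 3 ^ j) ^ 2) • bf ι 3 i j 2 2 2 2 := by
      unfold bf
      simp only [fRep_mul, fRep_pow, fRep_u_xi, fRep_u_et]
      funext z
      simp only [Pi.add_apply, Pi.mul_apply, Pi.smul_apply, Pi.pow_apply, smul_eq_mul]
      ring
    rw [hP, cr_eqv C.fra.pair.swap C.h2 C.h2 _ (M le_rfl le_rfl) (M le_rfl (by norm_num)), e1, e2]
    rw [map_add, map_add, map_smul, map_smul, cr_add_right, cr_add_right, cr_smul_right, cr_smul_right, r1, r2, smul_zero,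
      smul_zero, add_zero, add_zero]
  -- the module generated by `P`
  by_contra hP0
  have hQ := pair_lt_Q C.ha hne C.hi hlt
  have hwtP : ∀ c, Rr ρ ψ (h c) P = ι c ^ (1 * 3 ^ i + 1 * 3 ^ ((i + 1) % a)) • P := by
    intro c
    have k1 := (C.cwt (M le_rfl le_rfl) (M le_rfl (by norm_num)) (bf_wt ι 3 i j 2 2 2 2) (bf_wt ι 3 i j 2 2 2 0)) c
    rw [← hP] at k1
    rw [k1]
    congr 1
    have hc0 := iota_ne (ι := ι) c
    rw [show 1 * 3 ^ i + 1 * 3 ^ ((i + 1) % a) = 3 ^ i + 3 ^ ((i + 1) % a) by ring, pow_add (ι (c : F)) (3 ^ i),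
      ← pow_next ι C.fra.card C.hi]
    rw [show 2 * 3 ^ i + 2 * 3 ^ j + (2 * 3 ^ i + 0 * 3 ^ j) = 3 ^ i * 4 + 2 * 3 ^ j by ring,
      show (2 - 2) * 3 ^ i + (2 - 2) * 3 ^ j + ((2 - 2) * 3 ^ i + (2 - 0) * 3 ^ j) = 2 * 3 ^ j by
        rw [Nat.sub_self, Nat.sub_zero, zero_mul, zero_mul, zero_add, zero_add, zero_add],
      pow_add, pow_mul, inv_pow, mul_assoc, mul_inv_cancel₀ (pow_ne_zero _ hc0)]
    ring
  obtain ⟨Φ₁, hΦ1, hΦ2⟩ := exists_gen11 ι hF C.ha hne C.hi hlt huP hwtP (fun t => by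
    rw [hwP, C.uw t, ← pow_next ι C.fra.card C.hi t, ← pow_succ']) C.w2z
  -- the square of this module
  obtain ⟨Ψ₁, hΨ1, hΨ2⟩ := exists_sq C.fra C.ha hne C.hi hlt hΦ1
  have hq1 : 1 * 3 ^ i + 1 * 3 ^ ((i + 1) % a) ≤ Fintype.card F - 1 := by rw [hF]; omega
  have hq2 : 2 * 3 ^ i + 2 * 3 ^ ((i + 1) % a) ≤ Fintype.card F - 1 := by rw [hF]; omega
  have htop := top_mem ι 3 hq1
  have hPP : cr P P = 0 := by
    have h3 := C.shsh (f := bf ι 3 i j 2 2 2 2 + bf ι 3 i j 2 2 2 0) (add_mem (M le_rfl le_rfl) (M le_rfl (by norm_num)))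
    have h4 : cr (Ψ (bf ι 3 i j 2 2 2 2 + bf ι 3 i j 2 2 2 0)) (Ψ (bf ι 3 i j 2 2 2 2 + bf ι 3 i j 2 2 2 0)) =
        (2 : k) • P := by
      rw [map_add, cr_add_left, cr_add_right, cr_add_right, r1, r5, cr_comm (Ψ (bf ι 3 i j 2 2 2 0)), ← hP, zero_add,
        add_zero, ← two_smul k]
    rw [h4, cr_smul_left, cr_smul_right, smul_smul] at h3
    exact (smul_eq_zero.1 h3).resolve_left (mul_ne_zero (two_ne (k := k)) (two_ne (k := k)))
  have h1 := hΨ2 _ htop _ htop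
  rw [hΦ2, hPP, top_eq, ← top_eq2] at h1
  have h2 := Hm.zero ι hΨ1 h1.symm (top_mem ι 3 hq2) (inv_Vb' ι 3 hq2)
  have h3 := C.n1.hm hΦ1 (inv_Vb' ι 3 hq1) (fun f hf => by
    rw [hΨ2 f hf f hf]
    exact h2 _ (mul_mem ι hF C.ha hne C.hi hlt hf hf)) _ htop
  rw [hΦ2] at h3
  exact hP0 h3

theorem Cf11.cl : cr (Ψ (bf ι 3 i j 2 2 1 1)) (Ψ (bf ι 3 i j 2 2 2 1)) = 0 ∧
    cr (Ψ (bf ι 3 i j 2 2 2 1)) (Ψ (bf ι 3 i j 2 2 2 1)) = 0 := by
  have hne := next_ne C.ha C.hi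
  have hlt : (i + 1) % a < a := Nat.mod_lt _ (by have := C.ha; omega)
  have M : ∀ {x y : ℕ}, x ≤ 2 → y ≤ 2 → bf ι 3 i j 2 2 x y ∈ Vb ι (2 * 3 ^ i + 2 * 3 ^ j) := fun hx hy => C.mm hx hy
  obtain ⟨v22, v20, v02, v00, v10, v12, v11⟩ := wv (ι := ι) (i := i) (j := j)
  have h2 := two_ne (k := k)
  have s1 : cr (Ψ (bf ι 3 i j 2 2 2 2)) (Ψ (bf ι 3 i j 2 2 1 0)) +
      (2 : k) • cr (Ψ (bf ι 3 i j 2 2 1 1)) (Ψ (bf ι 3 i j 2 2 2 1)) = 0 :=
    C.m3 (x := 1) (y := 1) (x' := 0) (y' := 0) (x'' := 1) (y'' := 0) le_rfl le_rfl (by decide) (by decide) le_rfl (by decide)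
  have s2 : cr (Ψ (bf ι 3 i j 2 2 2 0)) (Ψ (bf ι 3 i j 2 2 1 2)) +
      (2 : k) • cr (Ψ (bf ι 3 i j 2 2 1 1)) (Ψ (bf ι 3 i j 2 2 2 1)) = 0 :=
    C.m3 (x := 1) (y := 0) (x' := 0) (y' := 1) (x'' := 1) (y'' := 1) le_rfl (by decide) (by decide) le_rfl le_rfl le_rfl
  have s3 : cr (Ψ (bf ι 3 i j 2 2 2 2)) (Ψ (bf ι 3 i j 2 2 2 0)) +
      (2 : k) • cr (Ψ (bf ι 3 i j 2 2 2 1)) (Ψ (bf ι 3 i j 2 2 2 1)) = 0 :=
    C.m3 (x := 1) (y := 1) (x' := 1) (y' := 0) (x'' := 1) (y'' := 0) le_rfl le_rfl le_rfl (by decide) le_rfl (by decide)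
  rw [C.pz, zero_add, smul_eq_zero] at s3
  refine ⟨?_, s3.resolve_left h2⟩
  have hw0 : cr (Ψ (bf ι 3 i j 2 2 0 0)) (Ψ (bf ι 3 i j 2 2 0 2)) = 0 := by
    have h1 := cr_eqv C.fra.pair.swap C.h2 C.h2 w (M (x := 2) (y := 2) le_rfl le_rfl) (M (x := 2) (y := 0) le_rfl (by norm_num))
    rw [v22, v20, C.pz, map_zero] at h1
    exact h1.symm
  have h3 := w_zero ι C.fra.card C.ha hne C.hi hlt (w0 := cr (Ψ (bf ι 3 i j 2 2 0 0)) (Ψ (bf ι 3 i j 2 2 0 2)))
      (w1 := (2 : k) • cr (Ψ (bf ι 3 i j 2 2 1 0)) (Ψ (bf ι 3 i j 2 2 0 2)) +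
      (2 : k) • cr (Ψ (bf ι 3 i j 2 2 0 0)) (Ψ (bf ι 3 i j 2 2 1 2)))
      (w2 := cr (Ψ (bf ι 3 i j 2 2 2 0)) (Ψ (bf ι 3 i j 2 2 0 2)) +
        (4 : k) • cr (Ψ (bf ι 3 i j 2 2 1 0)) (Ψ (bf ι 3 i j 2 2 1 2)) +
        cr (Ψ (bf ι 3 i j 2 2 0 0)) (Ψ (bf ι 3 i j 2 2 2 2)))
      (w3 := (2 : k) • cr (Ψ (bf ι 3 i j 2 2 2 0)) (Ψ (bf ι 3 i j 2 2 1 2)) +
      (2 : k) • cr (Ψ (bf ι 3 i j 2 2 1 0)) (Ψ (bf ι 3 i j 2 2 2 2)))
      (w4 := cr (Ψ (bf ι 3 i j 2 2 2 0)) (Ψ (bf ι 3 i j 2 2 2 2))) (fun t => by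
    have h4 := C.uw t
    rw [hw0, map_zero, ← hw0] at h4
    rw [← pow_next ι C.fra.card C.hi t, ← pow_succ']
    exact h4.symm.trans hw0)
  rw [cr_comm (Ψ (bf ι 3 i j 2 2 1 0))] at h3
  have h5 : (8 : k) • cr (Ψ (bf ι 3 i j 2 2 1 1)) (Ψ (bf ι 3 i j 2 2 2 1)) = 0 := by
    linear_combination (norm := module) (2 : k) • s1 + (2 : k) • s2 - h3
  rw [smul_eq_zero] at h5
  refine h5.resolve_left ?_
  rw [show (8 : k) = 2 * 2 * 2 by norm_num]
  exact mul_ne_zero (mul_ne_zero h2 h2) h2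

/-- **`Φ = 0`** -/
theorem Cf11.zero : ∀ f ∈ Vb ι (1 * 3 ^ i + 1 * 3 ^ j), Φ f = 0 := by
  have M : ∀ {x y : ℕ}, x ≤ 2 → y ≤ 2 → bf ι 3 i j 2 2 x y ∈ Vb ι (2 * 3 ^ i + 2 * 3 ^ j) := fun hx hy => C.mm hx hy
  obtain ⟨v22, v20, v02, v00, v10, v12, v11⟩ := wv (ι := ι) (i := i) (j := j)
  obtain ⟨r1, r2, r3, r4, r5⟩ := C.rel
  have h2 := two_ne (k := k)
  obtain ⟨c1, c2⟩ := C.cl
  obtain ⟨c3, c4⟩ := C.swap.cl
  rw [bf_swap ι i j 1 1, bf_swap ι i j 1 2] at c3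
  rw [bf_swap ι i j 1 2] at c4
  have c5 : cr (Ψ (bf ι 3 i j 2 2 2 2)) (Ψ (bf ι 3 i j 2 2 1 1)) +
      (2 : k) • cr (Ψ (bf ι 3 i j 2 2 1 2)) (Ψ (bf ι 3 i j 2 2 2 1)) = 0 :=
    C.m3 (x := 1) (y := 1) (x' := 0) (y' := 1) (x'' := 1) (y'' := 0) le_rfl le_rfl (by decide) le_rfl le_rfl (by decide)
  rw [r4, zero_add, smul_eq_zero] at c5
  have c5 := c5.resolve_left h2
  have c6 : cr (Ψ (bf ι 3 i j 2 2 2 2)) (Ψ (bf ι 3 i j 2 2 0 0)) +
      (2 : k) • cr (Ψ (bf ι 3 i j 2 2 1 1)) (Ψ (bf ι 3 i j 2 2 1 1)) = 0 :=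
    C.m3 (x := 1) (y := 1) (x' := 0) (y' := 0) (x'' := 0) (y'' := 0) le_rfl le_rfl (by decide) (by decide) (by decide) (by decide)
  have hc : cr (Ψ (bf ι 3 i j 2 2 1 1)) (Ψ (bf ι 3 i j 2 2 1 1)) = 0 := by
    refine C.fra.fix _ (fix_of ?_ ?_ ?_)
    · intro t
      have e1 : fRep k F (u t) (bf ι 3 i j 2 2 1 1) = bf ι 3 i j 2 2 1 1 + (ι t ^ 3 ^ i) • bf ι 3 i j 2 2 2 1 +
          (ι t ^ 3 ^ j) • bf ι 3 i j 2 2 1 2 + (ι t ^ 3 ^ i * ι t ^ 3 ^ j) • bf ι 3 i j 2 2 2 2 := by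
        unfold bf
        simp only [fRep_mul, fRep_pow, fRep_u_xi, fRep_u_et]
        funext z
        simp only [Pi.add_apply, Pi.mul_apply, Pi.smul_apply, Pi.pow_apply, smul_eq_mul]
        ring
      rw [cr_eqv C.fra.pair.swap C.h2 C.h2 _ (M (by norm_num) (by norm_num)) (M (by norm_num) (by norm_num)), e1]
      have c1' := c1
      have c3' := c3
      have c5' := c5
      have r2' := r2
      have r3' := r3
      have r4' := r4
      rw [cr_comm] at c1' c3' c5' r2' r3' r4'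
      simp only [map_add Ψ, map_smul Ψ, cr_add_left, cr_smul_left, cr_add_right, cr_smul_right, c1, c2, c3, c4, c5, r1, r2, r3,
        r4, c1', c3', c5', r2', r3', r4', smul_zero, add_zero]
    · intro c
      have k1 := (C.cwt (M (by norm_num) (by norm_num)) (M (by norm_num) (by norm_num)) (bf_wt ι 3 i j 2 2 1 1)
        (bf_wt ι 3 i j 2 2 1 1))
      exact k1.fix c
    · rw [cr_eqv C.fra.pair.swap C.h2 C.h2 _ (M (by norm_num) (by norm_num)) (M (by norm_num) (by norm_num)), v11]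
  rw [hc, smul_zero, add_zero] at c6
  have hall := gen_zero (ι := ι) (r := Rr ρ ψ) (b := 2 * 3 ^ i + 2 * 3 ^ j) (b' := 2 * 3 ^ i + 2 * 3 ^ j)
    (B := (crB k).compl₁₂ Ψ Ψ) (fun g f hf f' hf' => (cr_eqv C.fra.pair.swap C.h2 C.h2 g hf hf').symm)
    (inv_Vb' ι 3 C.q2) (top_mem ι 3 C.q2) (top_mem ι 3 C.q2) (by
      rw [← bf_eq_mon ι 3 i j le_rfl le_rfl, v22]
      exact c6)
  have h3 := C.n2.hm C.h2 (inv_Vb' ι 3 C.q2) (fun f hf => hall f hf f hf)
  exact C.n1.hm C.h1 (inv_Vb' ι 3 C.q1) (fun f hf => by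
    rw [C.sq f hf f hf]
    exact h3 _ (mul_mem ι C.fra.card C.ha C.hij C.hi C.hj hf hf))

omit C

/-- **there are no submodules of type `11`** -/
theorem no_eleven (f0 : Fra 3 a ψ ρ ρ') (ha : 3 ≤ a) (n1 : Nts (Rr ρ ψ)) (n2 : Nts (Rr ρ' ψ)) {i j : ℕ} (hij : i ≠ j)
    (hi : i < a) (hj : j < a) : ¬ InSoc ι 3 (Rr ρ ψ) (3 ^ i + 3 ^ j) := by
  rintro ⟨X, hX, hb⟩
  have hb' : IsV ι 3 (subRep (Rr ρ ψ) X hX) (1 * 3 ^ i + 1 * 3 ^ j) := by
    rw [one_mul, one_mul]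
    exact hb
  obtain ⟨Φ, hΦ, -, -, hinj⟩ := exists_Hm_of_IsV ι 3 hb'
  obtain ⟨Ψ, hΨ, hsq⟩ := exists_sq f0 ha hij hi hj hΦ
  have C : Cf11 ι a i j ρ ρ' ψ Φ Ψ := ⟨f0, ha, hij, hi, hj, n1, n2, hΦ, hΨ, hsq⟩
  have htop := top_mem ι 3 C.q1
  exact mon_ne_zero ι _ (hinj _ htop (C.zero _ htop))

end Main

end Cfsg.Agent.R2.P3
end
end

-- part: R2/P3/Mix
section
prune_inst 0x24202014310002000000059433001802a000000010000000a020010208408820c94228000a00210200209000000000081010002000400000040004000007010000901204e1c9a00c06008e800000000000000000000000000000000000000000000000000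
set_option linter.all false
open scoped Cfsg.Agent.FastGrp

-- part: R2/P3/Chi
section
/-!
# Composition factors (R2/P3, helper17)

* `soc_of_map` : nonzero equivariant maps; `dg_add`, `chB_disj` : labels with disjoint supports;
* `no_two` : no submodules `V_{2 3^i}`; `cf_TT` : the factors of `S² V_{2 3^i} ⊗ S² V_{2 3^j}`.
-/

set_option autoImplicit false
set_option linter.unusedSectionVars false

namespace Cfsg.Agent.R2.P3

open Matrix Cfsg.Agent.H943.SL2Rel Cfsg.Agent.H943.SL2Mod Cfsg.Agent.H943.RepAdd Cfsg.Agent.R2.H28.SL2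
open Cfsg.Lie
open Cfsg.Agent.ChevalleyStructure.E6Min.Basic (Zgrp)
open scoped TensorProduct

universe u v v' w

/-! ### digits -/

theorem dg_add {p : ℕ} (hp : 1 < p) : ∀ (l : ℕ) {b b' : ℕ}, (∀ l, b / p ^ l % p = 0 ∨ b' / p ^ l % p = 0) →
    (b + b') / p ^ l % p = b / p ^ l % p + b' / p ^ l % p := by
  intro l
  induction l with
  | zero =>
    intro b b' h
    have h1 := h 0
    rw [pow_zero, Nat.div_one, Nat.div_one] at h1
    rw [pow_zero, Nat.div_one, Nat.div_one, Nat.div_one]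
    rcases h1 with h1 | h1
    · rw [Nat.add_mod, h1, zero_add, Nat.mod_mod]
    · rw [Nat.add_mod, h1, add_zero, Nat.mod_mod]
  | succ l ih =>
    intro b b' h
    have h1 := h 0
    rw [pow_zero, Nat.div_one, Nat.div_one] at h1
    have h2 : (b + b') / p = b / p + b' / p := by
      rw [Nat.add_div (by omega), if_neg, add_zero]
      rw [not_le]
      rcases h1 with h1 | h1
      · rw [h1, zero_add]
        exact Nat.mod_lt _ (by omega)
      · rw [h1, add_zero]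
        exact Nat.mod_lt _ (by omega)
    rw [pow_succ', ← Nat.div_div_eq_div_mul, ← Nat.div_div_eq_div_mul, ← Nat.div_div_eq_div_mul, h2]
    refine ih fun l => ?_
    have h3 := h (l + 1)
    rwa [pow_succ', ← Nat.div_div_eq_div_mul, ← Nat.div_div_eq_div_mul] at h3

section chb

variable (k : Type*) [Field k] [DecidableEq k] (p : ℕ) [Fact p.Prime] [CharP k p]

/-- characters of labels with disjoint supports -/
theorem chB_disj : ∀ (n : ℕ) {b b' : ℕ}, b + b' ≤ n → (∀ l, b / p ^ l % p = 0 ∨ b' / p ^ l % p = 0) → ∀ z : ℂ,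
    chB k (b + b') z = chB k b z * chB k b' z := by
  have hp : p.Prime := Fact.out
  intro n
  induction n with
  | zero =>
    intro b b' h0 _ z
    obtain rfl : b = 0 := by omega
    obtain rfl : b' = 0 := by omega
    rw [chB_zero, mul_one]
  | succ n ih =>
    intro b b' hn h z
    by_cases h0 : b + b' = 0
    · obtain rfl : b = 0 := by omega
      obtain rfl : b' = 0 := by omega
      rw [chB_zero, mul_one]
    · have h1 := h 0
      rw [pow_zero, Nat.div_one, Nat.div_one] at h1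
      have hb := Nat.div_add_mod b p
      have hb' := Nat.div_add_mod b' p
      have h2 : ∀ l, b / p / p ^ l % p = 0 ∨ b' / p / p ^ l % p = 0 := by
        intro l
        have h3 := h (l + 1)
        rwa [pow_succ', ← Nat.div_div_eq_div_mul, ← Nat.div_div_eq_div_mul] at h3
      have h4 : b / p + b' / p ≤ n := by
        have h5 : b / p ≤ b := Nat.div_le_self _ _
        have h6 : b' / p ≤ b' := Nat.div_le_self _ _
        rcases Nat.eq_zero_or_pos b with hb0 | hb0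
        · have : b' / p < b' := Nat.div_lt_self (by omega) hp.one_lt
          omega
        · have : b / p < b := Nat.div_lt_self hb0 hp.one_lt
          omega
      have h5 := ih h4 h2 (z ^ p)
      have e1 := chB_mul k p (b / p) (Nat.mod_lt b hp.pos) z
      have e2 := chB_mul k p (b' / p) (Nat.mod_lt b' hp.pos) z
      rw [hb] at e1
      rw [hb'] at e2
      have h6 : b % p + b' % p < p := by
        have := Nat.mod_lt b hp.pos
        have := Nat.mod_lt b' hp.pos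
        rcases h1 with h1 | h1 <;> omega
      have e3 := chB_mul k p (b / p + b' / p) h6 z
      have h7 : p * (b / p + b' / p) + (b % p + b' % p) = b + b' := by
        rw [mul_add]
        omega
      rw [h7] at e3
      rw [e1, e2, e3, h5]
      rcases h1 with h1 | h1
      · rw [h1, zero_add, chi_zero]
        ring
      · rw [h1, add_zero, chi_zero]
        ring

end chb

section map

variable {k : Type u} [Field k] [DecidableEq k] {F : Type w} [Field F] [Fintype F] [DecidableEq F] (ι : F →+* k)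
variable (p : ℕ) [Fact p.Prime] [CharP k p] [CharP F p] [IsAlgClosed k]

/-- **nonzero equivariant maps** -/
theorem soc_of_map {W : Type v} [AddCommGroup W] [Module k W] [FiniteDimensional k W]
    {τ : Representation k (_root_.Matrix.SpecialLinearGroup (Fin 2) F) W} {V : Type v'} [AddCommGroup V] [Module k V]
    [FiniteDimensional k V] {ρ : Representation k (_root_.Matrix.SpecialLinearGroup (Fin 2) F) V} (T : W →ₗ[k] V)
    (he : ∀ g x, T (τ g x) = ρ g (T x)) (h0 : T ≠ 0) : ∃ c, c ∈ cf (Sy.{u, v, w} ι p) τ ∧ InSoc ι p ρ c := by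
  have hR : ∀ g, ∀ x ∈ LinearMap.range T, ρ g x ∈ LinearMap.range T := by
    rintro g _ ⟨x, rfl⟩
    exact ⟨τ g x, he g x⟩
  have hR0 : LinearMap.range T ≠ ⊥ := fun h => h0 (LinearMap.range_eq_bot.1 h)
  obtain ⟨c, ⟨Y, hY, hYc⟩, hc2⟩ := exists_inSoc_sub ι p hR hR0
  refine ⟨c, ?_, hc2⟩
  have hres : ∀ g x, T.rangeRestrict (τ g x) = subRep ρ _ hR g (T.rangeRestrict x) := fun g x => Subtype.ext (he g x)
  have hW' : ∀ g, ∀ x ∈ Y.comap T.rangeRestrict, τ g x ∈ Y.comap T.rangeRestrict := by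
    intro g x hx
    rw [Submodule.mem_comap, hres]
    exact hY g _ hx
  let f : Y.comap T.rangeRestrict →ₗ[k] Y := T.rangeRestrict.restrict fun x hx => hx
  have hf : ∀ g x, f (subRep τ _ hW' g x) = subRep (subRep ρ _ hR) Y hY g (f x) := fun g x =>
    Subtype.ext (hres g x)
  have hfs : Function.Surjective f := by
    rintro ⟨y, hy⟩
    obtain ⟨x, hx⟩ := T.surjective_rangeRestrict y
    refine ⟨⟨x, ?_⟩, Subtype.ext hx⟩
    rw [Submodule.mem_comap, hx]
    exact hy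
  have hK : ∀ g, ∀ x ∈ LinearMap.ker f, subRep τ _ hW' g x ∈ LinearMap.ker f := by
    intro g x hx
    rw [LinearMap.mem_ker] at hx ⊢
    rw [hf, hx, map_zero]
  obtain ⟨e, he', -⟩ := quot_iso (subRep τ _ hW') (subRep (subRep ρ _ hR) Y hY) f hf hfs (LinearMap.ker f) hK
    fun x => Iff.rfl
  have h1 : IsV ι p (quotRep (subRep τ _ hW') (LinearMap.ker f) hK) c :=
    IsV.iso ι p e.symm (fun g x => e.injective (by rw [LinearEquiv.apply_symm_apply, he', LinearEquiv.apply_symm_apply])) hYc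
  have h2 := cf_irr (Sy.{u, v, w} ι p) h1
  have h3 := cf_quot_le (Sy.{u, v, w} ι p) (subRep τ _ hW') (LinearMap.ker f) hK
  rw [h2] at h3
  exact Multiset.mem_of_le (h3.trans (cf_sub_le (Sy.{u, v, w} ι p) τ _ hW')) (Multiset.mem_singleton_self c)

end map

section three

variable {k : Type u} [Field k] [DecidableEq k] [IsAlgClosed k] {F : Type w} [Field F] [Fintype F] [DecidableEq F]
  {ι : F →+* k} [CharP k 3] [CharP F 3] {a : ℕ}
variable {ψ : _root_.Matrix.SpecialLinearGroup (Fin 2) F →* ↥(Zgrp k)} {ρ ρ' : Representation k ↥(Zgrp k) (I27 → k)}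

theorem sqs_two {i c : ℕ} (ha : a ≠ 1) (h : c ∈ sqs 3 a i 2) : c = 0 ∨ c = 3 ^ i + 3 ^ ((i + 1) % a) := by
  unfold sqs Cfsg.Agent.R2.H28.SL2.one ov at h
  rw [if_neg (by norm_num), if_neg ha] at h
  simp only [Multiset.insert_eq_cons, Multiset.mem_add, Multiset.mem_cons, Multiset.mem_singleton] at h
  unfold sqs at h
  rw [Multiset.mem_singleton] at h
  rcases h with (h | h) | h
  · right
    rw [h]
    ring
  · left
    rw [h]
    ring
  · left
    exact h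

/-- **no submodules of type `2`** -/
theorem no_two (f0 : Fra 3 a ψ ρ ρ') (ha : 3 ≤ a) (n1 : Nts (Rr ρ ψ)) (n2 : Nts (Rr ρ' ψ)) {i : ℕ}
    (hi : i < a) : ¬ InSoc ι 3 (Rr ρ ψ) (2 * 3 ^ i) := by
  rintro ⟨X, hX, hb⟩
  have hts : ¬ ∀ x ∈ X, Cfsg.Agent.H952.F4.sh x = 0 := by
    intro h
    have h1 := n1 X hX h
    have h2 := hb.irr.1
    rw [h1] at h2
    exact not_subsingleton _ (inferInstance : Subsingleton (⊥ : Submodule k (I27 → k)))
  obtain ⟨c, hc1, hc2, hc3⟩ := f0.lzero ι hX hts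
  rw [cf_sq_single ι 3 f0.card (by norm_num) hi hb] at hc1
  rcases sqs_two (by omega) hc1 with h | h
  · exact hc3 h
  · rw [h] at hc2
    exact no_eleven f0.swap ha n2 n1 (next_ne ha hi) hi (Nat.mod_lt _ (by omega)) hc2

end three

end Cfsg.Agent.R2.P3
end

-- part: R2/P3/TT
section
/-!
# The factors of `S² V_{2 3^i} ⊗ S² V_{2 3^j}` (R2/P3, helper17)

`cf_TT` : every factor is trivial or has a digit `1`.
-/

set_option autoImplicit false
set_option linter.unusedSectionVars false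

namespace Cfsg.Agent.R2.P3

open Matrix Cfsg.Agent.H943.SL2Rel Cfsg.Agent.H943.SL2Mod Cfsg.Agent.H943.RepAdd Cfsg.Agent.R2.H28.SL2
open scoped TensorProduct

universe u v v' w

theorem lt_of_dg {p a b : ℕ} (hp : 1 < p) (h : ∀ l, a ≤ l → b / p ^ l % p = 0) : b < p ^ a := by
  by_contra hb
  have hb : p ^ a ≤ b := not_lt.1 hb
  have hb0 : b ≠ 0 := by
    rintro rfl
    have := Nat.pow_pos (n := a) (show 0 < p by omega)
    omega
  have h1 := h (Nat.log p b) ((Nat.le_log_iff_pow_le hp hb0).2 hb)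
  have h2 : b / p ^ (Nat.log p b) < p := by
    rw [Nat.div_lt_iff_lt_mul (Nat.pow_pos (by omega)), ← pow_succ']
    exact Nat.lt_pow_succ_log_self hp b
  rw [Nat.mod_eq_of_lt h2] at h1
  have h3 := Nat.div_pos (Nat.pow_log_le_self p hb0) (Nat.pow_pos (n := Nat.log p b) (by omega))
  omega

section

variable {k : Type u} [Field k] [DecidableEq k] [IsAlgClosed k] {F : Type w} [Field F] [Fintype F] [DecidableEq F]
  (ι : F →+* k) [CharP k 3] [CharP F 3] {a : ℕ}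

/-- the character of `S² V_{2 3^i}` -/
theorem cs_sqi {X : Type v} [AddCommGroup X] [Module k X] [FiniteDimensional k X]
    {σ : Representation k (_root_.Matrix.SpecialLinearGroup (Fin 2) F) X} (hF : Fintype.card F = 3 ^ a) (ha : 3 ≤ a) {i : ℕ} (hi : i < a)
    (h : IsV ι 3 σ (2 * 3 ^ i)) {z : ℂ} (hz : Zs (3 ^ a) z) :
    cs k (cf (Sy.{u, v, w} ι 3) (Sq σ)) z = chi 1 (z ^ 3 ^ i) * chi 1 (z ^ 3 ^ ((i + 1) % a)) + 2 := by
  have hz0 := hz.ne_zero (two_le_q 3 hF)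
  have hi0 := pow_ne_zero (3 ^ i) hz0
  rw [cs_sq_single ι 3 hF (by norm_num) h hz, s2_two hi0]
  have h1 := chi_over 1 3 (by norm_num) hi0
  rw [chi_wrap (two_le_q 3 hF) 1 hi hz] at h1
  norm_num at h1
  rw [h1, chi_zero]
  ring

theorem chB11 {i j : ℕ} (hij : i ≠ j) (z : ℂ) : chB k (1 * 3 ^ i + 1 * 3 ^ j) z = chi 1 (z ^ 3 ^ i) * chi 1 (z ^ 3 ^ j) :=
  chB_pair k 3 (by norm_num) (by norm_num) hij z

/-- the factors in terms of the character -/
theorem cf_TT_aux {W : Type v} [AddCommGroup W] [Module k W] [FiniteDimensional k W]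
    {τ : Representation k (_root_.Matrix.SpecialLinearGroup (Fin 2) F) W} (hF : Fintype.card F = 3 ^ a) {i i1 j j1 : ℕ}
    (hi : i < a) (hj : j < a) (hi1 : i1 < a) (hj1 : j1 < a) (h1 : i ≠ i1) (h2 : j ≠ j1) (h3 : i ≠ j) (h4 : i1 ≠ j1)
    (h5 : i ≠ j1)
    (hc : ∀ z, Zs (3 ^ a) z → cs k (cf (Sy.{u, v, w} ι 3) τ) z =
      (chi 1 (z ^ 3 ^ i) * chi 1 (z ^ 3 ^ i1) + 2) * (chi 1 (z ^ 3 ^ j) * chi 1 (z ^ 3 ^ j1) + 2)) :
    ∀ c ∈ cf (Sy.{u, v, w} ι 3) τ, c = 0 ∨ ∃ l, c / 3 ^ l % 3 = 1 := by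
  have p11 : ∀ {i j : ℕ}, i ≠ j → ∀ l, (1 * 3 ^ i + 1 * 3 ^ j) / 3 ^ l % 3 = if l = i then 1 else if l = j then 1 else 0 :=
    fun hij l => dgt3 hij (by norm_num) (by norm_num)
  have lt11 : ∀ {i j : ℕ}, i ≠ j → i < a → j < a → 1 * 3 ^ i + 1 * 3 ^ j < 3 ^ a := fun hij hi hj =>
    pair_lt_pow (by norm_num) hij (by norm_num) (by norm_num) hi hj
  by_cases h6 : i1 = j
  · subst h6
    -- labels: `1 2 1`
    have hdis : ∀ l, (1 * 3 ^ i + 1 * 3 ^ j1) / 3 ^ l % 3 = 0 ∨ (2 * 3 ^ i1) / 3 ^ l % 3 = 0 := by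
      intro l
      rw [p11 h5, dg_single (by norm_num) (by norm_num)]
      by_cases hl : l = i1
      · left
        rw [if_neg (by omega), if_neg (by omega)]
      · right
        rw [if_neg hl]
    have hS : cf (Sy.{u, v, w} ι 3) τ = {1 * 3 ^ i + 1 * 3 ^ j1 + 2 * 3 ^ i1, 1 * 3 ^ i + 1 * 3 ^ j1, 1 * 3 ^ i + 1 * 3 ^ i1,
        1 * 3 ^ i + 1 * 3 ^ i1, 1 * 3 ^ i1 + 1 * 3 ^ j1, 1 * 3 ^ i1 + 1 * 3 ^ j1, 0, 0, 0, 0} := by
      refine cf_of_cs ι 3 hF ?_ fun z hz => ?_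
      · intro b hb
        simp only [Multiset.insert_eq_cons, Multiset.mem_cons, Multiset.mem_singleton] at hb
        rcases hb with rfl | rfl | rfl | rfl | rfl | rfl | rfl | rfl | rfl | rfl
        · refine lt_of_dg (by norm_num) fun l hl => ?_
          rw [dg_add (by norm_num) l hdis, p11 h5, dg_single (by norm_num) (by norm_num), if_neg (by omega),
            if_neg (by omega), if_neg (by omega)]
        · exact lt11 h5 hi hj1
        · exact lt11 h1 hi hi1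
        · exact lt11 h1 hi hi1
        · exact lt11 h2 hi1 hj1
        · exact lt11 h2 hi1 hj1
        all_goals exact Nat.pow_pos (by norm_num)
      · have hz0 := hz.ne_zero (two_le_q 3 hF)
        have e1 := chi_mul_one 0 (pow_ne_zero (3 ^ i1) hz0)
        rw [zero_add, chi_zero] at e1
        simp only [Multiset.insert_eq_cons]
        rw [hc z hz, cs_cons, cs_cons, cs_cons, cs_cons, cs_cons, cs_cons, cs_cons, cs_cons, cs_cons, cs_singleton,
          chB_disj k 3 _ le_rfl hdis, chB11 h5, chB11 h1, chB11 h2, chB_zero, chB_single k 3 (by norm_num)]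
        linear_combination (chi 1 (z ^ 3 ^ i) * chi 1 (z ^ 3 ^ j1)) * e1
    intro c hc
    rw [hS] at hc
    simp only [Multiset.insert_eq_cons, Multiset.mem_cons, Multiset.mem_singleton] at hc
    rcases hc with rfl | rfl | rfl | rfl | rfl | rfl | rfl | rfl | rfl | rfl
    · refine Or.inr ⟨i, ?_⟩
      rw [dg_add (by norm_num) i hdis, p11 h5, dg_single (by norm_num) (by norm_num), if_pos rfl, if_neg h1]
    · exact Or.inr ⟨i, by rw [p11 h5, if_pos rfl]⟩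
    · exact Or.inr ⟨i, by rw [p11 h1, if_pos rfl]⟩
    · exact Or.inr ⟨i, by rw [p11 h1, if_pos rfl]⟩
    · exact Or.inr ⟨i1, by rw [p11 h2, if_pos rfl]⟩
    · exact Or.inr ⟨i1, by rw [p11 h2, if_pos rfl]⟩
    all_goals exact Or.inl rfl
  · have hdis : ∀ l, (1 * 3 ^ i + 1 * 3 ^ i1) / 3 ^ l % 3 = 0 ∨ (1 * 3 ^ j + 1 * 3 ^ j1) / 3 ^ l % 3 = 0 := by
      intro l
      rw [p11 h1, p11 h2]
      by_cases hl : l = i ∨ l = i1
      · right
        rw [if_neg (by omega), if_neg (by omega)]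
      · left
        rw [if_neg (by omega), if_neg (by omega)]
    have hS : cf (Sy.{u, v, w} ι 3) τ = {(1 * 3 ^ i + 1 * 3 ^ i1) + (1 * 3 ^ j + 1 * 3 ^ j1), 1 * 3 ^ i + 1 * 3 ^ i1,
        1 * 3 ^ i + 1 * 3 ^ i1, 1 * 3 ^ j + 1 * 3 ^ j1, 1 * 3 ^ j + 1 * 3 ^ j1, 0, 0, 0, 0} := by
      refine cf_of_cs ι 3 hF ?_ fun z hz => ?_
      · intro b hb
        simp only [Multiset.insert_eq_cons, Multiset.mem_cons, Multiset.mem_singleton] at hb
        rcases hb with rfl | rfl | rfl | rfl | rfl | rfl | rfl | rfl | rfl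
        · refine lt_of_dg (by norm_num) fun l hl => ?_
          rw [dg_add (by norm_num) l hdis, p11 h1, p11 h2, if_neg (by omega),
            if_neg (by omega), if_neg (by omega), if_neg (by omega)]
        · exact lt11 h1 hi hi1
        · exact lt11 h1 hi hi1
        · exact lt11 h2 hj hj1
        · exact lt11 h2 hj hj1
        all_goals exact Nat.pow_pos (by norm_num)
      · simp only [Multiset.insert_eq_cons]
        rw [hc z hz, cs_cons, cs_cons, cs_cons, cs_cons, cs_cons, cs_cons, cs_cons, cs_cons, cs_singleton,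
          chB_disj k 3 _ le_rfl hdis, chB11 h1, chB11 h2, chB_zero]
        ring
    intro c hc
    rw [hS] at hc
    simp only [Multiset.insert_eq_cons, Multiset.mem_cons, Multiset.mem_singleton] at hc
    rcases hc with rfl | rfl | rfl | rfl | rfl | rfl | rfl | rfl | rfl
    · refine Or.inr ⟨i, ?_⟩
      rw [dg_add (by norm_num) i hdis, p11 h1, p11 h2, if_pos rfl, if_neg h3, if_neg h5]
    · exact Or.inr ⟨i, by rw [p11 h1, if_pos rfl]⟩
    · exact Or.inr ⟨i, by rw [p11 h1, if_pos rfl]⟩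
    · exact Or.inr ⟨j, by rw [p11 h2, if_pos rfl]⟩
    · exact Or.inr ⟨j, by rw [p11 h2, if_pos rfl]⟩
    all_goals exact Or.inl rfl

theorem succ_mod_inj {a i j : ℕ} (hi : i < a) (hj : j < a) (h : (i + 1) % a = (j + 1) % a) : i = j := by
  rcases Nat.lt_or_ge (i + 1) a with h1 | h1 <;> rcases Nat.lt_or_ge (j + 1) a with h2 | h2
  · rw [Nat.mod_eq_of_lt h1, Nat.mod_eq_of_lt h2] at h
    omega
  · rw [Nat.mod_eq_of_lt h1, show j + 1 = a by omega, Nat.mod_self] at h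
    omega
  · rw [Nat.mod_eq_of_lt h2, show i + 1 = a by omega, Nat.mod_self] at h
    omega
  · omega

/-- **the factors of `S² V_{2 3^i} ⊗ S² V_{2 3^j}`** -/
theorem cf_TT {X : Type v} [AddCommGroup X] [Module k X] [FiniteDimensional k X]
    {σ : Representation k (_root_.Matrix.SpecialLinearGroup (Fin 2) F) X} {Y : Type v} [AddCommGroup Y] [Module k Y]
    [FiniteDimensional k Y] {σ' : Representation k (_root_.Matrix.SpecialLinearGroup (Fin 2) F) Y} (hF : Fintype.card F = 3 ^ a)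
    (ha : 3 ≤ a) {i j : ℕ} (hij : i ≠ j) (hi : i < a) (hj : j < a) (h : IsV ι 3 σ (2 * 3 ^ i))
    (h' : IsV ι 3 σ' (2 * 3 ^ j)) :
    ∀ c ∈ cf (Sy.{u, v, w} ι 3) ((Sq σ).tprod (Sq σ')), c = 0 ∨ ∃ l, c / 3 ^ l % 3 = 1 := by
  have hi1 : (i + 1) % a < a := Nat.mod_lt _ (by omega)
  have hj1 : (j + 1) % a < a := Nat.mod_lt _ (by omega)
  have hc : ∀ z, Zs (3 ^ a) z → cs k (cf (Sy.{u, v, w} ι 3) ((Sq σ).tprod (Sq σ'))) z =
      (chi 1 (z ^ 3 ^ i) * chi 1 (z ^ 3 ^ ((i + 1) % a)) + 2) * (chi 1 (z ^ 3 ^ j) * chi 1 (z ^ 3 ^ ((j + 1) % a)) + 2) := by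
    intro z hz
    rw [cs_tens ι 3 hF _ _ hz, cs_sqi ι hF ha hi h hz, cs_sqi ι hF ha hj h' hz]
  by_cases h5 : i = (j + 1) % a
  · refine cf_TT_aux ι hF hj hi hj1 hi1 (next_ne ha hj) (next_ne ha hi) hij.symm
      (fun h => hij (succ_mod_inj hi hj h.symm)) ?_ fun z hz => ?_
    · -- `j ≠ i + 1` since `a ≥ 3`
      intro h6
      rcases Nat.lt_or_ge (j + 1) a with h1 | h1
      · rw [Nat.mod_eq_of_lt h1] at h5
        rcases Nat.lt_or_ge (i + 1) a with h2 | h2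
        · rw [Nat.mod_eq_of_lt h2] at h6
          omega
        · rw [show i + 1 = a by omega, Nat.mod_self] at h6
          omega
      · rw [show j + 1 = a by omega, Nat.mod_self] at h5
        rcases Nat.lt_or_ge (i + 1) a with h2 | h2
        · rw [Nat.mod_eq_of_lt h2] at h6
          omega
        · omega
    · rw [hc z hz]
      ring
  · exact cf_TT_aux ι hF hi hj hi1 hj1 (next_ne ha hi) (next_ne ha hj) hij (fun h => hij (succ_mod_inj hi hj h)) h5 hc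

end

end Cfsg.Agent.R2.P3
end

-- part: R2/P3/Star
section
/-!
# The product on a submodule of type `22` (R2/P3, helper17), `p = 3`

`star` : if all irreducible submodules of `V'` have type `22` then `cr (Φ (u v)) (Φ (u' v'))` is alternating in `u, u'` and in
`v, v'`.
-/

set_option autoImplicit false
set_option linter.unusedSectionVars false

namespace Cfsg.Agent.R2.P3

open Matrix Cfsg.Agent.H943.SL2Rel Cfsg.Agent.H943.SL2Mod Cfsg.Agent.H943.RepAdd Cfsg.Agent.R2.H28.SL2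
open Cfsg.Lie
open Cfsg.Agent.ChevalleyStructure.E6Min.Basic (Zgrp)
open Cfsg.Agent.H952.F4 (sh cr tf)
open Cfsg.Agent.H952.F4.Jord
open Cfsg.Agent.R2.GEO (Pair crB crB_apply tfB tfB_apply)
open scoped TensorProduct

universe u v v' w

section Quad

variable {k : Type*} [Field k] [DecidableEq k] {A : Type*} [CommRing A] [Algebra k A] {W : Type*} [AddCommGroup W] [Module k W]

/-- the form `B (u v) (u' v') + B (u v') (u' v)` for fixed `u, u'` -/
def M2 (B : A →ₗ[k] A →ₗ[k] W) (u u' : A) : A →ₗ[k] A →ₗ[k] W :=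
  B.compl₁₂ (LinearMap.mulLeft k u) (LinearMap.mulLeft k u') + (B.compl₁₂ (LinearMap.mulLeft k u) (LinearMap.mulLeft k u')).flip

theorem M2_apply (B : A →ₗ[k] A →ₗ[k] W) (u u' v v' : A) :
    M2 B u u' v v' = B (u * v) (u' * v') + B (u * v') (u' * v) := rfl

variable {B : A →ₗ[k] A →ₗ[k] W} (hs : ∀ x y, B x y = B y x) {X : Type*} [AddCommGroup X] [Module k X] (px : X →ₗ[k] A)
  {Y : Type*} [AddCommGroup Y] [Module k Y] (py : Y →ₗ[k] A)

include hs in
theorem M2_s1 (u u' v v' : A) : M2 B u' u v v' = M2 B u u' v v' := by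
  rw [M2_apply, M2_apply, hs (u' * v) (u * v'), hs (u' * v') (u * v), add_comm]

theorem M2_s2 (u u' v v' : A) : M2 B u u' v' v = M2 B u u' v v' := by
  rw [M2_apply, M2_apply, add_comm]

theorem P2_alt (u u' : A) : Alt k Y ≤ LinearMap.ker (TensorProduct.lift ((M2 B u u').compl₁₂ py py)) := by
  unfold Alt
  refine Submodule.span_le.2 ?_
  rintro _ ⟨x, y, rfl⟩
  rw [SetLike.mem_coe, LinearMap.mem_ker, map_sub, TensorProduct.lift.tmul, TensorProduct.lift.tmul,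
    LinearMap.compl₁₂_apply, LinearMap.compl₁₂_apply, M2_s2, sub_self]

/-- the map on `S² Y` for fixed `u, u'` -/
noncomputable def P2 (B : A →ₗ[k] A →ₗ[k] W) (u u' : A) : ((Y ⊗[k] Y) ⧸ Alt k Y) →ₗ[k] W :=
  (Alt k Y).liftQ (TensorProduct.lift ((M2 B u u').compl₁₂ py py)) (P2_alt py u u')

theorem P2_apply (u u' : A) (v v' : Y) : P2 py B u u' ((Alt k Y).mkQ (v ⊗ₜ v')) = M2 B u u' (py v) (py v') := by
  unfold P2
  rw [Submodule.mkQ_apply, Submodule.liftQ_apply, TensorProduct.lift.tmul]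
  rfl

theorem P2_ext {f g : ((Y ⊗[k] Y) ⧸ Alt k Y) →ₗ[k] W}
    (h : ∀ v v' : Y, f ((Alt k Y).mkQ (v ⊗ₜ v')) = g ((Alt k Y).mkQ (v ⊗ₜ v'))) : f = g := by
  apply Submodule.linearMap_qext
  apply TensorProduct.ext'
  exact h

/-- the map `X ⊗ X → Hom(S² Y, W)` -/
noncomputable def Q2 (B : A →ₗ[k] A →ₗ[k] W) : (X ⊗[k] X) →ₗ[k] ((Y ⊗[k] Y) ⧸ Alt k Y) →ₗ[k] W :=
  TensorProduct.lift (LinearMap.mk₂ k (fun u u' : X => P2 py B (px u) (px u'))
    (fun u₁ u₂ u' => P2_ext fun v v' => by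
      rw [LinearMap.add_apply, P2_apply, P2_apply, P2_apply, M2_apply, M2_apply, M2_apply, map_add px, add_mul, add_mul,
        map_add, map_add, LinearMap.add_apply, LinearMap.add_apply]
      abel)
    (fun c u u' => P2_ext fun v v' => by
      rw [LinearMap.smul_apply, P2_apply, P2_apply, M2_apply, M2_apply, map_smul px, smul_mul_assoc, smul_mul_assoc,
        map_smul, map_smul, LinearMap.smul_apply, LinearMap.smul_apply, smul_add])
    (fun u u₁ u₂ => P2_ext fun v v' => by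
      rw [LinearMap.add_apply, P2_apply, P2_apply, P2_apply, M2_apply, M2_apply, M2_apply, map_add px, add_mul, add_mul,
        map_add, map_add]
      abel)
    (fun c u u' => P2_ext fun v v' => by
      rw [LinearMap.smul_apply, P2_apply, P2_apply, M2_apply, M2_apply, map_smul px, smul_mul_assoc, smul_mul_assoc,
        map_smul, map_smul, smul_add]))

theorem Q2_apply (u u' : X) (v v' : Y) :
    Q2 px py B (u ⊗ₜ u') ((Alt k Y).mkQ (v ⊗ₜ v')) = M2 B (px u) (px u') (py v) (py v') := by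
  unfold Q2
  rw [TensorProduct.lift.tmul, LinearMap.mk₂_apply, P2_apply]

include hs in
theorem Q2_alt : Alt k X ≤ LinearMap.ker (Q2 px py B) := by
  refine (Submodule.span_le (p := LinearMap.ker (Q2 px py B))).2 ?_
  rintro _ ⟨x, y, rfl⟩
  rw [SetLike.mem_coe, LinearMap.mem_ker, map_sub, sub_eq_zero]
  refine P2_ext fun v v' => ?_
  rw [Q2_apply, Q2_apply, M2_s1 hs]

theorem T2_ext {f g : (((X ⊗[k] X) ⧸ Alt k X) ⊗[k] ((Y ⊗[k] Y) ⧸ Alt k Y)) →ₗ[k] W}
    (h : ∀ (u u' : X) (v v' : Y), f ((Alt k X).mkQ (u ⊗ₜ u') ⊗ₜ (Alt k Y).mkQ (v ⊗ₜ v')) =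
      g ((Alt k X).mkQ (u ⊗ₜ u') ⊗ₜ (Alt k Y).mkQ (v ⊗ₜ v'))) : f = g := by
  apply TensorProduct.ext
  apply Submodule.linearMap_qext
  apply TensorProduct.ext'
  intro x x'
  apply P2_ext
  intro y y'
  exact h x x' y y'

theorem Sq_mk {G : Type*} [Group G] (σ : Representation k G X) (g : G) (x x' : X) :
    Sq σ g ((Alt k X).mkQ (x ⊗ₜ x')) = (Alt k X).mkQ (σ g x ⊗ₜ σ g x') := by
  unfold Sq
  rw [quotRep_mk]
  rfl

include hs in
/-- the map `S² X ⊗ S² Y → W` -/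
theorem exists_T2 {G : Type*} [Group G] {σ : Representation k G X} {σ' : Representation k G Y} {r : Representation k G W}
    (he : ∀ g x x' y y', B (px (σ g x) * py (σ' g y)) (px (σ g x') * py (σ' g y')) = r g (B (px x * py y) (px x' * py y'))) :
    ∃ T : (((X ⊗[k] X) ⧸ Alt k X) ⊗[k] ((Y ⊗[k] Y) ⧸ Alt k Y)) →ₗ[k] W,
    (∀ (u u' : X) (v v' : Y), T ((Alt k X).mkQ (u ⊗ₜ u') ⊗ₜ (Alt k Y).mkQ (v ⊗ₜ v')) =
      M2 B (px u) (px u') (py v) (py v')) ∧ ∀ g z, T ((Sq σ).tprod (Sq σ') g z) = r g (T z) := by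
  have h1 : ∀ (u u' : X) (v v' : Y), TensorProduct.lift ((Alt k X).liftQ (Q2 px py B) (Q2_alt hs px py))
      ((Alt k X).mkQ (u ⊗ₜ u') ⊗ₜ (Alt k Y).mkQ (v ⊗ₜ v')) = M2 B (px u) (px u') (py v) (py v') := by
    intro u u' v v'
    rw [TensorProduct.lift.tmul, Submodule.mkQ_apply (Alt k X), Submodule.liftQ_apply, Q2_apply]
  refine ⟨TensorProduct.lift ((Alt k X).liftQ (Q2 px py B) (Q2_alt hs px py)), h1, ?_⟩
  intro g
  have h2 : TensorProduct.lift ((Alt k X).liftQ (Q2 px py B) (Q2_alt hs px py)) ∘ₗ (Sq σ).tprod (Sq σ') g =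
      r g ∘ₗ TensorProduct.lift ((Alt k X).liftQ (Q2 px py B) (Q2_alt hs px py)) := by
    refine T2_ext fun u u' v v' => ?_
    rw [LinearMap.comp_apply, LinearMap.comp_apply, h1, Representation.tprod_apply, TensorProduct.map_tmul, Sq_mk, Sq_mk, h1,
      M2_apply, M2_apply, he, he, map_add]
  exact fun z => LinearMap.congr_fun h2 z

end Quad

section Main

variable {k : Type u} [Field k] [DecidableEq k] [IsAlgClosed k] {F : Type w} [Field F] [Fintype F] [DecidableEq F]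
  {ι : F →+* k} [CharP k 3] [CharP F 3] {a : ℕ}
variable {ψ : _root_.Matrix.SpecialLinearGroup (Fin 2) F →* ↥(Zgrp k)} {ρ ρ' : Representation k ↥(Zgrp k) (I27 → k)}

/-- `V_{2 3^i}` is spanned by the monomials -/
theorem Vb_le_two {i : ℕ} {P : (F × F → k) → Prop}
    (h0 : P 0) (ha : ∀ f f', P f → P f' → P (f + f')) (hs : ∀ (c : k) f, P f → P (c • f))
    (hb : ∀ x ≤ 2, P (xi ι 3 i ^ x * et ι 3 i ^ (2 - x))) {f : F × F → k} (hf : f ∈ Vb ι (2 * 3 ^ i)) : P f := by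
  have hf' : f ∈ Vb ι (2 * 3 ^ i + 0 * 3 ^ (i + 1)) := by
    rw [zero_mul, add_zero]
    exact hf
  refine Vb_le_bf ι 3 (show i ≠ i + 1 by omega) (by norm_num : 2 < 3) (by norm_num : 0 < 3) h0 ha hs ?_ hf'
  intro x hx y hy
  obtain rfl : y = 0 := by omega
  have h1 : bf ι 3 i (i + 1) 2 0 x 0 = xi ι 3 i ^ x * et ι 3 i ^ (2 - x) := by
    unfold bf
    rw [pow_zero, Nat.sub_self, pow_zero, mul_one, mul_one]
  rw [h1]
  exact hb x hx

theorem two_mem {i : ℕ} (hq : 2 * 3 ^ i ≤ Fintype.card F - 1) {x : ℕ} (hx : x ≤ 2) :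
    xi ι 3 i ^ x * et ι 3 i ^ (2 - x) ∈ Vb ι (2 * 3 ^ i) := by
  have h := bf_mem ι 3 (show i ≠ i + 1 by omega) (show 2 < 3 by norm_num) (show 0 < 3 by norm_num) (i := i) (j := i + 1)
    (by rw [zero_mul, add_zero]; exact hq) hx (le_refl 0)
  rw [zero_mul, add_zero] at h
  have h1 : bf ι 3 i (i + 1) 2 0 x 0 = xi ι 3 i ^ x * et ι 3 i ^ (2 - x) := by
    unfold bf
    rw [pow_zero, Nat.sub_self, pow_zero, mul_one, mul_one]
  rwa [h1] at h

theorem mul_mem2 {i j : ℕ} (hF : Fintype.card F = 3 ^ a) (ha : 3 ≤ a) (hij : i ≠ j) (hi : i < a) (hj : j < a)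
    {f f' : F × F → k} (hf : f ∈ Vb ι (2 * 3 ^ i)) (hf' : f' ∈ Vb ι (2 * 3 ^ j)) :
    f * f' ∈ Vb ι (2 * 3 ^ i + 2 * 3 ^ j) := by
  have h1 := pair_lt_Q ha hij hi hj
  have hb : 2 * 3 ^ i + 2 * 3 ^ j ≤ Fintype.card F - 1 := by
    rw [hF]
    omega
  refine Vb_le_two (ι := ι) (i := i) (P := fun f => f * f' ∈ _) ?_ ?_ ?_ ?_ hf
  · rw [zero_mul]
    exact zero_mem _
  · intro f g h1 h2
    rw [add_mul]
    exact add_mem h1 h2
  · intro c f h
    rw [smul_mul_assoc]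
    exact Submodule.smul_mem _ _ h
  · intro x hx
    refine Vb_le_two (ι := ι) (i := j) (P := fun f' => xi ι 3 i ^ x * et ι 3 i ^ (2 - x) * f' ∈ _) ?_ ?_ ?_ ?_ hf'
    · rw [mul_zero]
      exact zero_mem _
    · intro f g h1 h2
      rw [mul_add]
      exact add_mem h1 h2
    · intro c f h
      rw [mul_smul_comm]
      exact Submodule.smul_mem _ _ h
    · intro y hy
      exact bf_mem ι 3 hij (by norm_num) (by norm_num) hb hx hy

/-- all irreducible submodules have no digit `1` -/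
def No1 (ι : F →+* k) (r : Representation k (_root_.Matrix.SpecialLinearGroup (Fin 2) F) (I27 → k)) : Prop :=
  ∀ c, InSoc ι 3 r c → ∀ l, c / 3 ^ l % 3 ≠ 1

/-- **the product on a submodule of type `22`** -/
theorem star (f0 : Fra 3 a ψ ρ ρ') (ha : 3 ≤ a) {i j : ℕ} (hij : i ≠ j) (hi : i < a) (hj : j < a)
    (hn : No1 ι (Rr ρ' ψ)) {Φ : (F × F → k) →ₗ[k] (I27 → k)} (hΦ : Hm ι (Rr ρ ψ) (2 * 3 ^ i + 2 * 3 ^ j) Φ)
    {x x' y y' : F × F → k} (hx : x ∈ Vb ι (2 * 3 ^ i)) (hx' : x' ∈ Vb ι (2 * 3 ^ i)) (hy : y ∈ Vb ι (2 * 3 ^ j))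
    (hy' : y' ∈ Vb ι (2 * 3 ^ j)) :
    cr (Φ (x * y)) (Φ (x' * y')) + cr (Φ (x * y')) (Φ (x' * y)) = 0 := by
  have hF := f0.card
  have hQ := pair_lt_Q ha hij hi hj
  have hqi : 2 * 3 ^ i ≤ Fintype.card F - 1 := by rw [hF]; omega
  have hqj : 2 * 3 ^ j ≤ Fintype.card F - 1 := by rw [hF]; omega
  have hVi : IsV ι 3 (RB ι 3 hqi) (2 * 3 ^ i) := ⟨hqi, LinearEquiv.refl k _, fun _ _ => rfl⟩
  have hVj : IsV ι 3 (RB ι 3 hqj) (2 * 3 ^ j) := ⟨hqj, LinearEquiv.refl k _, fun _ _ => rfl⟩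
  have hfi := hVi.finite
  have hfj := hVj.finite
  obtain ⟨T, hT, hTe⟩ := exists_T2 (k := k) (B := (crB k).compl₁₂ Φ Φ) (fun _ _ => cr_comm _ _) (Vb ι (2 * 3 ^ i)).subtype
    (Vb ι (2 * 3 ^ j)).subtype (σ := RB ι 3 hqi) (σ' := RB ι 3 hqj) (r := Rr ρ' ψ) (fun g x x' y y' =>
      (cr_eqv f0.pair hΦ hΦ g (mul_mem2 hF ha hij hi hj x.2 y.2) (mul_mem2 hF ha hij hi hj x'.2 y'.2)).symm)
  have hT0 : T = 0 := by
    by_contra h0
    obtain ⟨c, hc1, hc2⟩ := soc_of_map ι 3 (ρ := Rr ρ' ψ) T hTe h0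
    rcases cf_TT ι hF ha hij hi hj hVi hVj c hc1 with h | ⟨l, hl⟩
    · exact f0.swap.soc_ne_zero ι hc2 h
    · exact hn c hc2 l hl
  have h1 := hT ⟨x, hx⟩ ⟨x', hx'⟩ ⟨y, hy⟩ ⟨y', hy'⟩
  rw [hT0, LinearMap.zero_apply] at h1
  exact h1.symm

end Main

end Cfsg.Agent.R2.P3
end

-- part: R2/P3/L22
section
/-!
# Submodules of type `22` (R2/P3, helper17), `p = 3`

* `mm`, `mm_mem`, `mm_ts` : the span of the products of `p a c` (`a, c : Fin 3`) if `cr (p a c) (p b d)` is alternating;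
* `tri_ne` : the trilinear form on a submodule of type `22` is not zero;
* `exists_compl22` : a submodule of type `22` has a complement.
-/

set_option autoImplicit false
set_option linter.unusedSectionVars false

namespace Cfsg.Agent.R2.P3

open Matrix Cfsg.Agent.H943.SL2Rel Cfsg.Agent.H943.SL2Mod Cfsg.Agent.H943.RepAdd Cfsg.Agent.R2.H28.SL2
open Cfsg.Lie
open Cfsg.Agent.ChevalleyStructure.E6Min.Basic (Zgrp)
open Cfsg.Agent.ChevalleyStructure.E6Min.Inv
open Cfsg.Agent.H952.F4 (sh cr tf)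
open Cfsg.Agent.H952.F4.Jord
open Cfsg.Agent.R2.GEO (Pair crB crB_apply tfB tfB_apply perp mem_perp finrank_perp perp_stab perp_perp)

universe u v w

section Abs

variable {k : Type u} [Field k] {p : Fin 3 → Fin 3 → (I27 → k)}

/-- the products -/
def mm (p : Fin 3 → Fin 3 → (I27 → k)) (x : Fin 3 × Fin 3) : I27 → k := cr (p (x.1 + 1) (x.2 + 1)) (p (x.1 + 2) (x.2 + 2))

theorem fin3 : ∀ a b : Fin 3, a = b ∨ (b = a + 1 ∧ ∃ e, a = e + 1 ∧ b = e + 2) ∨ (a = b + 1 ∧ ∃ e, b = e + 1 ∧ a = e + 2) := by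
  decide

variable (hp : ∀ a b c d, cr (p a c) (p b d) + cr (p a d) (p b c) = 0) (h2 : (2 : k) ≠ 0)

include hp

theorem swp (a b c d : Fin 3) : cr (p a c) (p b d) = -cr (p a d) (p b c) := eq_neg_of_add_eq_zero_left (hp a b c d)

include h2

theorem eq_left (a c d : Fin 3) : cr (p a c) (p a d) = 0 := by
  have h1 := hp a a c d
  rw [cr_comm (p a d), ← two_smul k, smul_eq_zero] at h1
  exact h1.resolve_left h2

theorem eq_right (a b c : Fin 3) : cr (p a c) (p b c) = 0 := by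
  have h1 := hp a b c c
  rw [← two_smul k, smul_eq_zero] at h1
  exact h1.resolve_left h2

theorem mm_mem (a b c d : Fin 3) : cr (p a c) (p b d) ∈ Submodule.span k (Set.range (mm p)) := by
  have key : ∀ e f, mm p (e, f) ∈ Submodule.span k (Set.range (mm p)) := fun e f => Submodule.subset_span ⟨_, rfl⟩
  rcases fin3 a b with rfl | ⟨-, e, rfl, rfl⟩ | ⟨-, e, rfl, rfl⟩
  · rw [eq_left hp h2]
    exact zero_mem _
  · rcases fin3 c d with rfl | ⟨-, f, rfl, rfl⟩ | ⟨-, f, rfl, rfl⟩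
    · rw [eq_right hp h2]
      exact zero_mem _
    · exact key e f
    · rw [swp hp]
      exact neg_mem (key e f)
  · rcases fin3 c d with rfl | ⟨-, f, rfl, rfl⟩ | ⟨-, f, rfl, rfl⟩
    · rw [eq_right hp h2]
      exact zero_mem _
    · rw [cr_comm, swp hp]
      exact neg_mem (key e f)
    · rw [cr_comm]
      exact key e f

omit h2 in
/-- the products with a given factor -/
theorem mm_eq {x y : Fin 3 × Fin 3} (h1 : y.1 ≠ x.1) (h2 : y.2 ≠ x.2) : ∃ (s : k) (z : Fin 3 × Fin 3),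
    mm p x = s • cr (p y.1 y.2) (p z.1 z.2) := by
  obtain ⟨a, c⟩ := x
  obtain ⟨f, e⟩ := y
  have key : ∀ a f : Fin 3, f ≠ a → f = a + 1 ∨ f = a + 2 := by decide
  unfold mm
  rcases key a f h1 with rfl | rfl
  · rcases key c e h2 with rfl | rfl
    · exact ⟨1, (a + 2, c + 2), by rw [one_smul]⟩
    · refine ⟨-1, (a + 2, c + 1), ?_⟩
      rw [neg_one_smul]
      exact swp hp _ _ _ _
  · rcases key c e h2 with rfl | rfl
    · refine ⟨-1, (a + 1, c + 2), ?_⟩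
      rw [neg_one_smul, cr_comm (p (a + 2) (c + 1))]
      exact swp hp _ _ _ _
    · exact ⟨1, (a + 1, c + 1), by rw [one_smul, cr_comm]⟩

omit h2 in
theorem mm_ts (hA : ∀ x y z : Fin 3 × Fin 3, cr (cr (p x.1 x.2) (p y.1 y.2)) (cr (p x.1 x.2) (p z.1 z.2)) = 0)
    {x y : I27 → k} (hx : x ∈ Submodule.span k (Set.range (mm p))) (hy : y ∈ Submodule.span k (Set.range (mm p))) :
    cr x y = 0 := by
  have key : ∀ x y : Fin 3 × Fin 3, cr (mm p x) (mm p y) = 0 := by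
    intro x y
    have ex : ∀ a b : Fin 3, ∃ c, c ≠ a ∧ c ≠ b := by decide
    obtain ⟨f, hf1, hf2⟩ := ex x.1 y.1
    obtain ⟨e, he1, he2⟩ := ex x.2 y.2
    obtain ⟨s, z, h3⟩ := mm_eq hp (x := x) (y := (f, e)) hf1 he1
    obtain ⟨s', z', h4⟩ := mm_eq hp (x := y) (y := (f, e)) hf2 he2
    rw [h3, h4, cr_smul_left, cr_smul_right, hA (f, e) z z', smul_zero, smul_zero]
  induction hx using Submodule.span_induction with
  | mem x hx =>
    obtain ⟨x', rfl⟩ := hx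
    induction hy using Submodule.span_induction with
    | mem y hy =>
      obtain ⟨y', rfl⟩ := hy
      exact key x' y'
    | zero =>
      have := cr_smul_right (0 : k) (mm p x') 0
      rwa [zero_smul, zero_smul] at this
    | add y y' _ _ h1 h2 => rw [cr_add_right, h1, h2, add_zero]
    | smul c y _ h1 => rw [cr_smul_right, h1, smul_zero]
  | zero =>
    have := cr_smul_left (0 : k) 0 y
    rwa [zero_smul, zero_smul] at this
  | add x x' _ _ h1 h2 => rw [cr_add_left, h1, h2, add_zero]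
  | smul c x _ h1 => rw [cr_smul_left, h1, smul_zero]

omit hp in
/-- squares of squares -/
theorem crcr {P Q R : I27 → k} (hP : sh P = 0) (hQ : sh Q = 0) (hR : sh R = 0)
    (h : ∀ s : k, sh (sh (s • P + Q + R)) = 0) (hPQ : sh (sh (P + Q)) = 0) (hPR : sh (sh (P + R)) = 0)
    (hQR : sh (sh (Q + R)) = 0) : cr (cr P Q) (cr P R) = 0 := by
  have e : ∀ s : k, sh (s • P + Q + R) = s • cr P Q + s • cr P R + cr Q R := by
    intro s
    rw [sh_add, sh_add, sh_smul, hP, hQ, hR, cr_add_left, cr_smul_left, cr_smul_left]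
    module
  have e1 : ∀ {P Q : I27 → k}, sh P = 0 → sh Q = 0 → sh (P + Q) = cr P Q := by
    intro P Q h1 h2
    rw [sh_add, h1, h2, zero_add, zero_add]
  rw [e1 hP hQ] at hPQ
  rw [e1 hP hR] at hPR
  rw [e1 hQ hR] at hQR
  have e2 : ∀ s : k, sh (sh (s • P + Q + R)) = (s ^ 2) • cr (cr P Q) (cr P R) + s • cr (cr P Q) (cr Q R) +
      s • cr (cr P R) (cr Q R) := by
    intro s
    rw [e, sh_add, sh_add, sh_smul, sh_smul, hPQ, hPR, hQR, cr_add_left, cr_smul_left, cr_smul_left, cr_smul_left,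
      cr_smul_right]
    module
  have k1 := h 1
  have k2 := h (-1)
  rw [e2] at k1 k2
  have k3 : (2 : k) • cr (cr P Q) (cr P R) = 0 := by
    linear_combination (norm := module) k1 + k2
  exact (smul_eq_zero.1 k3).resolve_left h2

end Abs

section Main

variable {k : Type u} [Field k] [DecidableEq k] [IsAlgClosed k] {F : Type w} [Field F] [Fintype F] [DecidableEq F]
  {ι : F →+* k} [CharP k 3] [CharP F 3] {a : ℕ}
variable {ψ : _root_.Matrix.SpecialLinearGroup (Fin 2) F →* ↥(Zgrp k)} {ρ ρ' : Representation k ↥(Zgrp k) (I27 → k)}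

/-- a pair of digits -/
structure Pr (a i j : ℕ) : Prop where
  ha : 3 ≤ a
  ne : i ≠ j
  hi : i < a
  hj : j < a

theorem Pr.q {i j : ℕ} (P : Pr a i j) (hF : Fintype.card F = 3 ^ a) : 2 * 3 ^ i + 2 * 3 ^ j ≤ Fintype.card F - 1 := by
  have := pair_lt_Q P.ha P.ne P.hi P.hj
  rw [hF]
  omega

theorem Pr.mm {i j : ℕ} (P : Pr a i j) (hF : Fintype.card F = 3 ^ a) {x y : ℕ} (hx : x ≤ 2) (hy : y ≤ 2) :
    bf ι 3 i j 2 2 x y ∈ Vb ι (2 * 3 ^ i + 2 * 3 ^ j) :=
  bf_mem ι 3 P.ne (by norm_num) (by norm_num) (P.q hF) hx hy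

theorem wtop {i j : ℕ} : fRep k F w (bf ι 3 i j 2 2 2 2) = bf ι 3 i j 2 2 0 0 := by
  rw [w_bf ι i j le_rfl le_rfl, show (-1 : k) ^ (2 + 2) = 1 from Even.neg_one_pow (by decide), one_smul]

/-- **trilinear forms on three modules of type `22`** -/
theorem gen22 (f0 : Fra 3 a ψ ρ ρ') {i j i' j' i'' j'' : ℕ} (P : Pr a i j) (P' : Pr a i' j') (P'' : Pr a i'' j'')
    {Φ Φ' Φ'' : (F × F → k) →ₗ[k] (I27 → k)} (hΦ : Hm ι (Rr ρ ψ) (2 * 3 ^ i + 2 * 3 ^ j) Φ)
    (hΦ' : Hm ι (Rr ρ ψ) (2 * 3 ^ i' + 2 * 3 ^ j') Φ') (hΦ'' : Hm ι (Rr ρ ψ) (2 * 3 ^ i'' + 2 * 3 ^ j'') Φ'')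
    (h : ∀ x ≤ 2, ∀ y ≤ 2, (2 * 3 ^ i + 2 * 3 ^ j + (x * 3 ^ i'' + y * 3 ^ j'')) % (3 ^ a - 1) =
      (2 * 3 ^ i' + 2 * 3 ^ j' + ((2 - x) * 3 ^ i'' + (2 - y) * 3 ^ j'')) % (3 ^ a - 1) →
      tf (cr (Φ (bf ι 3 i j 2 2 2 2)) (Φ' (bf ι 3 i' j' 2 2 0 0))) (Φ'' (bf ι 3 i'' j'' 2 2 x y)) = 0) :
    ∀ f ∈ Vb ι (2 * 3 ^ i + 2 * 3 ^ j), ∀ f' ∈ Vb ι (2 * 3 ^ i' + 2 * 3 ^ j'), ∀ f'' ∈ Vb ι (2 * 3 ^ i'' + 2 * 3 ^ j''),
      tf (cr (Φ f) (Φ' f')) (Φ'' f'') = 0 := by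
  have hF := f0.card
  refine gen_tri (Trr_inv f0.pair hΦ hΦ' hΦ'') (inv_Vb' ι 3 (P'.q hF)) (inv_Vb' ι 3 (P''.q hF)) (top_mem ι 3 (P.q hF))
    (top_mem ι 3 (P'.q hF)) ?_
  intro f hf
  have e1 : mon ι (2 * 3 ^ i + 2 * 3 ^ j) (2 * 3 ^ i + 2 * 3 ^ j) = bf ι 3 i j 2 2 2 2 :=
    (bf_eq_mon ι 3 i j le_rfl le_rfl).symm
  have e2 : mon ι (2 * 3 ^ i' + 2 * 3 ^ j') (2 * 3 ^ i' + 2 * 3 ^ j') = bf ι 3 i' j' 2 2 2 2 :=
    (bf_eq_mon ι 3 i' j' le_rfl le_rfl).symm
  rw [e1, e2, wtop]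
  refine Vb_le_bf ι 3 P''.ne (by norm_num : 2 < 3) (by norm_num : 2 < 3)
    (P := fun f => Trr Φ Φ' Φ'' (bf ι 3 i j 2 2 2 2) (bf ι 3 i' j' 2 2 0 0) f = 0) ?_ ?_ ?_ ?_ hf
  · rw [map_zero]
  · intro f f' h1 h2
    rw [map_add, h1, h2, add_zero]
  · intro c f h1
    rw [map_smul, h1, smul_zero]
  · intro x hx y hy
    by_contra h0
    apply h0
    refine h x hx y hy ?_
    have h1 := tri_wt f0.pair (hΦ.wt (P.mm hF le_rfl le_rfl) (bf_wt ι 3 i j 2 2 2 2))
      (hΦ'.wt (P'.mm hF (Nat.zero_le 2) (Nat.zero_le 2)) (bf_wt ι 3 i' j' 2 2 0 0))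
      (hΦ''.wt (P''.mm hF hx hy) (bf_wt ι 3 i'' j'' 2 2 x y)) h0
    rw [hF] at h1
    simpa only [_root_.MulZeroClass.zero_mul, _root_.add_zero, _root_.tsub_self, _root_.tsub_zero, _root_.zero_add] using h1

/-- the trilinear form on one module -/
theorem gen22_one (f0 : Fra 3 a ψ ρ ρ') {i j : ℕ} (P : Pr a i j) {Φ Φ' Φ'' : (F × F → k) →ₗ[k] (I27 → k)}
    (hΦ : Hm ι (Rr ρ ψ) (2 * 3 ^ i + 2 * 3 ^ j) Φ) (hΦ' : Hm ι (Rr ρ ψ) (2 * 3 ^ i + 2 * 3 ^ j) Φ')
    (hΦ'' : Hm ι (Rr ρ ψ) (2 * 3 ^ i + 2 * 3 ^ j) Φ'')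
    (h : tf (cr (Φ (bf ι 3 i j 2 2 2 2)) (Φ' (bf ι 3 i j 2 2 0 0))) (Φ'' (bf ι 3 i j 2 2 1 1)) = 0) :
    ∀ f ∈ Vb ι (2 * 3 ^ i + 2 * 3 ^ j), ∀ f' ∈ Vb ι (2 * 3 ^ i + 2 * 3 ^ j), ∀ f'' ∈ Vb ι (2 * 3 ^ i + 2 * 3 ^ j),
      tf (cr (Φ f) (Φ' f')) (Φ'' f'') = 0 := by
  refine gen22 f0 P P P hΦ hΦ' hΦ'' fun x hx y hy h3 => ?_
  have hQ := pair_lt_Q P.ha P.ne P.hi P.hj
  have h5 : x * 3 ^ i + y * 3 ^ j ≡ (2 - x) * 3 ^ i + (2 - y) * 3 ^ j [MOD 3 ^ a - 1] := Nat.ModEq.add_left_cancel' _ h3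
  have h6 : ∀ {r s : ℕ}, r ≤ 2 → s ≤ 2 → r * 3 ^ i + s * 3 ^ j < 3 ^ a - 1 := by
    intro r s hr hs
    have h2 : r * 3 ^ i ≤ 2 * 3 ^ i := Nat.mul_le_mul_right _ (by omega)
    have h3 : s * 3 ^ j ≤ 2 * 3 ^ j := Nat.mul_le_mul_right _ (by omega)
    omega
  have h7 := Nat.ModEq.eq_of_lt_of_lt h5 (h6 hx hy) (h6 (by omega) (by omega))
  have h8 := rs_inj P.ne (by omega) (by omega) (by omega) (by omega) h7
  obtain rfl : x = 1 := by omega
  obtain rfl : y = 1 := by omega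
  exact h

/-- the cubic form vanishes if the trilinear form does -/
theorem nz22 (f0 : Fra 3 a ψ ρ ρ') {i j : ℕ} (P : Pr a i j) {Φ : (F × F → k) →ₗ[k] (I27 → k)}
    (hΦ : Hm ι (Rr ρ ψ) (2 * 3 ^ i + 2 * 3 ^ j) Φ)
    (h : tf (cr (Φ (bf ι 3 i j 2 2 2 2)) (Φ (bf ι 3 i j 2 2 0 0))) (Φ (bf ι 3 i j 2 2 1 1)) = 0) :
    ∀ f ∈ Vb ι (2 * 3 ^ i + 2 * 3 ^ j), cubicT (Φ f) = 0 := by
  have hF := f0.card
  refine N_zero f0.pair hΦ (inv_Vb' ι 3 (P.q hF)) (top_mem ι 3 (P.q hF)) (gen22_one f0 P hΦ hΦ hΦ h) ?_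
  have e1 : mon ι (2 * 3 ^ i + 2 * 3 ^ j) (2 * 3 ^ i + 2 * 3 ^ j) = bf ι 3 i j 2 2 2 2 :=
    (bf_eq_mon ι 3 i j le_rfl le_rfl).symm
  rw [e1]
  have w1 := hΦ.wt (P.mm hF le_rfl le_rfl) (bf_wt ι 3 i j 2 2 2 2)
  refine N_wt (ι := ι) (ψ := ψ) (m := 2 * 3 ^ i + 2 * 3 ^ j) f0.pair (fun c => ?_) ?_
  · rw [w1 c]
    simp
  · have hQ := pair_lt_Q P.ha P.ne P.hi P.hj
    rw [Nat.mod_eq_of_lt (by rw [hF]; omega)]
    have := Nat.pow_pos (n := i) (show 0 < 3 by norm_num)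
    omega

/-- the images of the monomials -/
def pm (ι : F →+* k) (i j : ℕ) (Φ : (F × F → k) →ₗ[k] (I27 → k)) (x y : Fin 3) : I27 → k :=
  Φ (bf ι 3 i j 2 2 (x : ℕ) (y : ℕ))

theorem pm_star (f0 : Fra 3 a ψ ρ ρ') {i j : ℕ} (P : Pr a i j) (hn : No1 ι (Rr ρ' ψ))
    {Φ : (F × F → k) →ₗ[k] (I27 → k)} (hΦ : Hm ι (Rr ρ ψ) (2 * 3 ^ i + 2 * 3 ^ j) Φ) (a b c d : Fin 3) :
    cr (pm ι i j Φ a c) (pm ι i j Φ b d) + cr (pm ι i j Φ a d) (pm ι i j Φ b c) = 0 := by
  have hF := f0.card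
  have hQ := P.q hF (F := F)
  have hqi : 2 * 3 ^ i ≤ Fintype.card F - 1 := by omega
  have hqj : 2 * 3 ^ j ≤ Fintype.card F - 1 := by omega
  exact star f0 P.ha P.ne P.hi P.hj hn hΦ (two_mem hqi (Nat.le_of_lt_succ a.2)) (two_mem hqi (Nat.le_of_lt_succ b.2))
    (two_mem hqj (Nat.le_of_lt_succ c.2)) (two_mem hqj (Nat.le_of_lt_succ d.2))

theorem bf_fin {i j x y : ℕ} (hx : x ≤ 2) (hy : y ≤ 2) {Φ : (F × F → k) →ₗ[k] (I27 → k)} :
    Φ (bf ι 3 i j 2 2 x y) = pm ι i j Φ ⟨x, Nat.lt_succ_of_le hx⟩ ⟨y, Nat.lt_succ_of_le hy⟩ := rfl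

/-- the products are in the span of `mm` -/
theorem cr_mem (f0 : Fra 3 a ψ ρ ρ') {i j : ℕ} (P : Pr a i j) (hn : No1 ι (Rr ρ' ψ))
    {Φ : (F × F → k) →ₗ[k] (I27 → k)} (hΦ : Hm ι (Rr ρ ψ) (2 * 3 ^ i + 2 * 3 ^ j) Φ) {f f' : F × F → k}
    (hf : f ∈ Vb ι (2 * 3 ^ i + 2 * 3 ^ j)) (hf' : f' ∈ Vb ι (2 * 3 ^ i + 2 * 3 ^ j)) :
    cr (Φ f) (Φ f') ∈ Submodule.span k (Set.range (mm (pm ι i j Φ))) := by
  have hl : ∀ v : I27 → k, cr 0 v = 0 := fun v => by
    have := cr_smul_left (0 : k) 0 v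
    rwa [zero_smul, zero_smul] at this
  have hr : ∀ v : I27 → k, cr v 0 = 0 := fun v => by rw [cr_comm, hl]
  refine Vb_le_bf ι 3 P.ne (by norm_num : 2 < 3) (by norm_num : 2 < 3)
    (P := fun f => cr (Φ f) (Φ f') ∈ Submodule.span k (Set.range (mm (pm ι i j Φ)))) ?_ ?_ ?_ ?_ hf
  · rw [map_zero, hl]
    exact zero_mem _
  · intro f g h1 h2
    rw [map_add, cr_add_left]
    exact add_mem h1 h2
  · intro c f h
    rw [map_smul, cr_smul_left]
    exact Submodule.smul_mem _ _ h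
  · intro x hx y hy
    refine Vb_le_bf ι 3 P.ne (by norm_num : 2 < 3) (by norm_num : 2 < 3)
      (P := fun f' => cr (Φ (bf ι 3 i j 2 2 x y)) (Φ f') ∈ Submodule.span k (Set.range (mm (pm ι i j Φ)))) ?_ ?_ ?_ ?_ hf'
    · rw [map_zero, hr]
      exact zero_mem _
    · intro f g h1 h2
      rw [map_add, cr_add_right]
      exact add_mem h1 h2
    · intro c f h
      rw [map_smul, cr_smul_right]
      exact Submodule.smul_mem _ _ h
    · intro x' hx' y' hy'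
      rw [bf_fin hx hy, bf_fin hx' hy']
      exact mm_mem (pm_star f0 P hn hΦ) (two_ne (k := k)) _ _ _ _

theorem mm_stab (f0 : Fra 3 a ψ ρ ρ') {i j : ℕ} (P : Pr a i j) (hn : No1 ι (Rr ρ' ψ))
    {Φ : (F × F → k) →ₗ[k] (I27 → k)} (hΦ : Hm ι (Rr ρ ψ) (2 * 3 ^ i + 2 * 3 ^ j) Φ)
    (g : _root_.Matrix.SpecialLinearGroup (Fin 2) F) {x : I27 → k} (hx : x ∈ Submodule.span k (Set.range (mm (pm ι i j Φ)))) :
    Rr ρ' ψ g x ∈ Submodule.span k (Set.range (mm (pm ι i j Φ))) := by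
  have hF := f0.card
  induction hx using Submodule.span_induction with
  | mem x hx =>
    obtain ⟨⟨b, c⟩, rfl⟩ := hx
    have m1 : ∀ x y : Fin 3, bf ι 3 i j 2 2 (x : ℕ) (y : ℕ) ∈ Vb ι (2 * 3 ^ i + 2 * 3 ^ j) := fun x y =>
      P.mm hF (Nat.le_of_lt_succ x.2) (Nat.le_of_lt_succ y.2)
    have h1 : Rr ρ' ψ g (mm (pm ι i j Φ) (b, c)) = _ := cr_eqv f0.pair hΦ hΦ g (m1 (b + 1) (c + 1)) (m1 (b + 2) (c + 2))
    rw [h1]
    exact cr_mem f0 P hn hΦ (inv_Vb' ι 3 (P.q hF) g _ (m1 _ _)) (inv_Vb' ι 3 (P.q hF) g _ (m1 _ _))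
  | zero => rw [map_zero]; exact zero_mem _
  | add x y _ _ h1 h2 => rw [map_add]; exact add_mem h1 h2
  | smul c x _ h1 => rw [map_smul]; exact Submodule.smul_mem _ _ h1

/-- **the trilinear form is not zero** -/
theorem tri_ne (f0 : Fra 3 a ψ ρ ρ') (n1 : Nts (Rr ρ ψ)) (n2 : Nts (Rr ρ' ψ)) {i j : ℕ} (P : Pr a i j)
    (hn : No1 ι (Rr ρ' ψ)) {Φ : (F × F → k) →ₗ[k] (I27 → k)} (hΦ : Hm ι (Rr ρ ψ) (2 * 3 ^ i + 2 * 3 ^ j) Φ)
    (h0 : ∃ f ∈ Vb ι (2 * 3 ^ i + 2 * 3 ^ j), Φ f ≠ 0) :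
    tf (cr (Φ (bf ι 3 i j 2 2 2 2)) (Φ (bf ι 3 i j 2 2 0 0))) (Φ (bf ι 3 i j 2 2 1 1)) ≠ 0 := by
  intro h
  have hF := f0.card
  have h2 := two_ne (k := k)
  have hN := nz22 f0 P hΦ h
  have hps := pm_star f0 P hn hΦ
  have hss : ∀ f ∈ Vb ι (2 * 3 ^ i + 2 * 3 ^ j), sh (sh (Φ f)) = 0 := fun f hf => by rw [sh_sh, hN f hf, zero_smul]
  have m1 : ∀ x y : Fin 3, bf ι 3 i j 2 2 (x : ℕ) (y : ℕ) ∈ Vb ι (2 * 3 ^ i + 2 * 3 ^ j) := fun x y =>
    P.mm hF (Nat.le_of_lt_succ x.2) (Nat.le_of_lt_succ y.2)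
  have hsh : ∀ x y : Fin 3, sh (pm ι i j Φ x y) = 0 := by
    intro x y
    have h1 := eq_left hps h2 x y y
    rw [cr_self, smul_eq_zero] at h1
    exact h1.resolve_left h2
  have hM : Submodule.span k (Set.range (mm (pm ι i j Φ))) = ⊥ := by
    refine n2 _ (fun g x hx => mm_stab f0 P hn hΦ g hx) fun x hx => ?_
    have h1 := mm_ts hps (fun x y z => crcr h2 (hsh _ _) (hsh _ _) (hsh _ _) (fun s => by
      unfold pm
      rw [← map_smul, ← map_add, ← map_add]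
      exact hss _ (add_mem (add_mem (Submodule.smul_mem _ _ (m1 _ _)) (m1 _ _)) (m1 _ _)))
      (by unfold pm; rw [← map_add]; exact hss _ (add_mem (m1 _ _) (m1 _ _)))
      (by unfold pm; rw [← map_add]; exact hss _ (add_mem (m1 _ _) (m1 _ _)))
      (by unfold pm; rw [← map_add]; exact hss _ (add_mem (m1 _ _) (m1 _ _)))) hx hx
    rw [cr_self, smul_eq_zero] at h1
    exact h1.resolve_left h2
  obtain ⟨f, hf, hf0⟩ := h0
  apply hf0
  refine n1.hm hΦ (inv_Vb' ι 3 (P.q hF)) (fun f hf => ?_) f hf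
  have h3 := cr_mem f0 P hn hΦ hf hf
  rw [hM] at h3
  exact (Submodule.mem_bot k).1 h3

/-- stable subspaces have dimension at least 9 -/
def Nine (r : Representation k (_root_.Matrix.SpecialLinearGroup (Fin 2) F) (I27 → k)) : Prop :=
  ∀ W : Submodule k (I27 → k), (∀ g, ∀ x ∈ W, r g x ∈ W) → W ≠ ⊥ → 9 ≤ Module.finrank k W

/-- **complements** -/
theorem exists_compl22 (f0 : Fra 3 a ψ ρ ρ') (n1 : Nts (Rr ρ ψ)) (n2 : Nts (Rr ρ' ψ)) {i j : ℕ} (P : Pr a i j)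
    (hn : No1 ι (Rr ρ' ψ)) (d1 : Nine (Rr ρ ψ)) (d2 : Nine (Rr ρ' ψ)) {X : Submodule k (I27 → k)}
    (hX : ∀ g, ∀ x ∈ X, Rr ρ ψ g x ∈ X) (hX9 : Module.finrank k X = 9) {Φ : (F × F → k) →ₗ[k] (I27 → k)}
    (hΦ : Hm ι (Rr ρ ψ) (2 * 3 ^ i + 2 * 3 ^ j) Φ) (hΦX : ∀ x, x ∈ X ↔ ∃ f ∈ Vb ι (2 * 3 ^ i + 2 * 3 ^ j), Φ f = x)
    (h0 : ∃ f ∈ Vb ι (2 * 3 ^ i + 2 * 3 ^ j), Φ f ≠ 0) :
    ∃ K : Submodule k (I27 → k), (∀ g, ∀ x ∈ K, Rr ρ ψ g x ∈ K) ∧ IsCompl X K ∧ Module.finrank k K = 18 := by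
  have hF := f0.card
  have hne := tri_ne f0 n1 n2 P hn hΦ h0
  have m22 : bf ι 3 i j 2 2 2 2 ∈ Vb ι (2 * 3 ^ i + 2 * 3 ^ j) := P.mm hF le_rfl le_rfl
  have m00 : bf ι 3 i j 2 2 0 0 ∈ Vb ι (2 * 3 ^ i + 2 * 3 ^ j) := P.mm hF (by norm_num) (by norm_num)
  have m11 : bf ι 3 i j 2 2 1 1 ∈ Vb ι (2 * 3 ^ i + 2 * 3 ^ j) := P.mm hF (by norm_num) (by norm_num)
  obtain ⟨M, hM⟩ : ∃ M, M = Submodule.span k (Set.range (mm (pm ι i j Φ))) := ⟨_, rfl⟩
  have hMst : ∀ g, ∀ x ∈ M, Rr ρ' ψ g x ∈ M := fun g x hx => by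
    rw [hM] at hx ⊢
    exact mm_stab f0 P hn hΦ g hx
  have hMc : ∀ f ∈ Vb ι (2 * 3 ^ i + 2 * 3 ^ j), ∀ f' ∈ Vb ι (2 * 3 ^ i + 2 * 3 ^ j), cr (Φ f) (Φ f') ∈ M := by
    intro f hf f' hf'
    rw [hM]
    exact cr_mem f0 P hn hΦ hf hf'
  have hM9 : Module.finrank k M ≤ 9 := by
    rw [hM]
    refine (finrank_range_le_card (mm (pm ι i j Φ))).trans ?_
    rw [Fintype.card_prod, Fintype.card_fin]
  have hM0 : M ≠ ⊥ := by
    intro h
    apply hne
    have h1 := hMc _ m22 _ m00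
    rw [h, Submodule.mem_bot] at h1
    rw [h1]
    exact Cfsg.Agent.R2.GEO.tf_zero_left _
  have hM9' := d2 M hMst hM0
  have hKst : ∀ g, ∀ x ∈ perp M, Rr ρ ψ g x ∈ perp M := fun g x hx =>
    perp_stab ψ f0.pair.swap (W := M) (fun g x hx => hMst g x hx) g hx
  have hK18 : Module.finrank k (perp M) = 18 := by
    have := finrank_perp M
    omega
  have hinf : X ⊓ perp M = ⊥ := by
    by_contra hb
    have h1 := d1 (X ⊓ perp M) (fun g x hx => ⟨hX g x hx.1, hKst g x hx.2⟩) hb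
    have h2 : X ⊓ perp M = X := Submodule.eq_of_le_of_finrank_le inf_le_left (by omega)
    apply hne
    have h3 : Φ (bf ι 3 i j 2 2 1 1) ∈ X ⊓ perp M := by
      rw [h2, hΦX]
      exact ⟨_, m11, rfl⟩
    exact h3.2 _ (hMc _ m22 _ m00)
  refine ⟨perp M, hKst, ?_, hK18⟩
  rw [isCompl_iff, disjoint_iff, codisjoint_iff]
  refine ⟨hinf, ?_⟩
  apply Submodule.eq_top_of_finrank_eq
  have h7 := Submodule.finrank_sup_add_finrank_inf_eq X (perp M)
  rw [hinf, finrank_bot, add_zero] at h7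
  rw [h7, hX9, hK18, Module.finrank_fintype_fun_eq_card]
  rfl

end Main

end Cfsg.Agent.R2.P3
end

-- part: R2/P3/Dec
section
/-!
# The decomposition into three submodules of type `22` (R2/P3, helper17), `p = 3`

* `S22` : the situation; `X22` : submodules of type `22` with a parametrization;
* `exists_three` : `V = X₀ ⊕ X₁ ⊕ X₂`; `mult_one` : the types are distinct.
-/

set_option autoImplicit false
set_option linter.unusedSectionVars false

namespace Cfsg.Agent.R2.P3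

open Matrix Cfsg.Agent.H943.SL2Rel Cfsg.Agent.H943.SL2Mod Cfsg.Agent.H943.RepAdd Cfsg.Agent.R2.H28.SL2
open Cfsg.Lie
open Cfsg.Agent.ChevalleyStructure.E6Min.Basic (Zgrp)
open Cfsg.Agent.ChevalleyStructure.E6Min.Inv
open Cfsg.Agent.H952.F4 (sh cr tf)
open Cfsg.Agent.H952.F4.Jord
open Cfsg.Agent.R2.GEO (Pair crB crB_apply tfB tfB_apply perp mem_perp finrank_perp perp_stab perp_perp)

universe u v w

section Main

variable {k : Type u} [Field k] [DecidableEq k] [IsAlgClosed k] {F : Type w} [Field F] [Fintype F] [DecidableEq F]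
  {ι : F →+* k} [CharP k 3] [CharP F 3] {a : ℕ}
variable {ψ : _root_.Matrix.SpecialLinearGroup (Fin 2) F →* ↥(Zgrp k)} {ρ ρ' : Representation k ↥(Zgrp k) (I27 → k)}

/-- the situation: all irreducible submodules have type `22` -/
structure S22 (ι : F →+* k) (a : ℕ) (ψ : _root_.Matrix.SpecialLinearGroup (Fin 2) F →* ↥(Zgrp k))
    (ρ ρ' : Representation k ↥(Zgrp k) (I27 → k)) : Prop where
  fra : Fra 3 a ψ ρ ρ'
  n1 : Nts (Rr ρ ψ)
  n2 : Nts (Rr ρ' ψ)
  t1 : ∀ c, InSoc ι 3 (Rr ρ ψ) c → ∃ i j, Pr a i j ∧ c = 2 * 3 ^ i + 2 * 3 ^ j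
  t2 : ∀ c, InSoc ι 3 (Rr ρ' ψ) c → ∃ i j, Pr a i j ∧ c = 2 * 3 ^ i + 2 * 3 ^ j

theorem S22.swap (S : S22 ι a ψ ρ ρ') : S22 ι a ψ ρ' ρ := ⟨S.fra.swap, S.n2, S.n1, S.t2, S.t1⟩

theorem S22.no (S : S22 ι a ψ ρ ρ') : No1 ι (Rr ρ ψ) := by
  intro c hc l
  obtain ⟨i, j, P, rfl⟩ := S.t1 c hc
  rw [dgt3 P.ne (by norm_num) (by norm_num)]
  split_ifs <;> norm_num

theorem card22 {i j : ℕ} (hij : i ≠ j) : (Bf k (2 * 3 ^ i + 2 * 3 ^ j)).card = 9 := by
  rw [Cfsg.Agent.R2.SL2.Bf_eq (k := k) (p := 3), Cfsg.Agent.R2.SL2.card_Bp,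
    typ_pair (p := 3) (by norm_num) (by norm_num) (by norm_num) (by norm_num) hij]
  rfl

theorem S22.nine (S : S22 ι a ψ ρ ρ') : Nine (Rr ρ ψ) := by
  intro W hW hW0
  obtain ⟨c, ⟨K, hK, hKc⟩, hc⟩ := exists_inSoc_sub ι 3 hW hW0
  obtain ⟨i, j, P, rfl⟩ := S.t1 c hc
  have h1 := IsV.finrank (k := k) ι (p := 3) hKc
  rw [card22 P.ne] at h1
  have h2 := Submodule.finrank_le K
  omega

/-- a submodule of type `22` with a parametrization -/
structure X22 (ι : F →+* k) (a : ℕ) (r : Representation k (_root_.Matrix.SpecialLinearGroup (Fin 2) F) (I27 → k))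
    (X : Submodule k (I27 → k)) (i j : ℕ) (Φ : (F × F → k) →ₗ[k] (I27 → k)) : Prop where
  P : Pr a i j
  st : ∀ g, ∀ x ∈ X, r g x ∈ X
  isv : IsV ι 3 (subRep r X st) (2 * 3 ^ i + 2 * 3 ^ j)
  hm : Hm ι r (2 * 3 ^ i + 2 * 3 ^ j) Φ
  mem : ∀ x, x ∈ X ↔ ∃ f ∈ Vb ι (2 * 3 ^ i + 2 * 3 ^ j), Φ f = x
  inj : ∀ f ∈ Vb ι (2 * 3 ^ i + 2 * 3 ^ j), Φ f = 0 → f = 0
  nine : Module.finrank k X = 9

theorem X22.top {r : Representation k (_root_.Matrix.SpecialLinearGroup (Fin 2) F) (I27 → k)}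
    {X : Submodule k (I27 → k)} {i j : ℕ} {Φ : (F × F → k) →ₗ[k] (I27 → k)} (T : X22 ι a r X i j Φ)
    (hF : Fintype.card F = 3 ^ a) : Φ (bf ι 3 i j 2 2 2 2) ≠ 0 := by
  intro h
  have h1 := T.inj _ (T.P.mm hF le_rfl le_rfl) h
  rw [bf_eq_mon ι 3 i j le_rfl le_rfl] at h1
  exact mon_ne_zero ι _ h1

theorem X22.ne {r : Representation k (_root_.Matrix.SpecialLinearGroup (Fin 2) F) (I27 → k)}
    {X : Submodule k (I27 → k)} {i j : ℕ} {Φ : (F × F → k) →ₗ[k] (I27 → k)} (T : X22 ι a r X i j Φ)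
    (hF : Fintype.card F = 3 ^ a) : ∃ f ∈ Vb ι (2 * 3 ^ i + 2 * 3 ^ j), Φ f ≠ 0 :=
  ⟨_, T.P.mm hF le_rfl le_rfl, T.top hF⟩

/-- irreducible submodules -/
theorem S22.exists_irr (S : S22 ι a ψ ρ ρ') {W : Submodule k (I27 → k)} (hW : ∀ g, ∀ x ∈ W, Rr ρ ψ g x ∈ W) (hW0 : W ≠ ⊥) :
    ∃ (X : Submodule k (I27 → k)) (i j : ℕ) (Φ : (F × F → k) →ₗ[k] (I27 → k)), X ≤ W ∧ X22 ι a (Rr ρ ψ) X i j Φ := by
  obtain ⟨c, ⟨K, hK, hKc⟩, hc⟩ := exists_inSoc_sub ι 3 hW hW0
  obtain ⟨i, j, P, rfl⟩ := S.t1 c hc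
  obtain ⟨hX, ⟨e, he⟩⟩ := eqv_map (subRep (Rr ρ ψ) W hW) (Rr ρ ψ) W.subtype (fun _ _ => rfl) W.injective_subtype K hK
  have h1 : IsV ι 3 (subRep (Rr ρ ψ) (K.map W.subtype) hX) (2 * 3 ^ i + 2 * 3 ^ j) := IsV.iso ι 3 e he hKc
  obtain ⟨Φ, h2, h3, h4, h5⟩ := exists_Hm_of_IsV ι 3 h1
  refine ⟨K.map W.subtype, i, j, Φ, Submodule.map_subtype_le W K, P, hX, h1, h2, fun x => ⟨fun hx => h4 x hx, ?_⟩, h5, ?_⟩
  · rintro ⟨f, hf, rfl⟩
    exact h3 f hf
  · have h6 := IsV.finrank (k := k) ι (p := 3) h1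
    rw [h6, card22 P.ne]

/-- complements -/
theorem S22.compl (S : S22 ι a ψ ρ ρ') {X : Submodule k (I27 → k)} {i j : ℕ} {Φ : (F × F → k) →ₗ[k] (I27 → k)}
    (T : X22 ι a (Rr ρ ψ) X i j Φ) :
    ∃ K : Submodule k (I27 → k), (∀ g, ∀ x ∈ K, Rr ρ ψ g x ∈ K) ∧ IsCompl X K ∧ Module.finrank k K = 18 :=
  exists_compl22 S.fra S.n1 S.n2 T.P S.swap.no S.nine S.swap.nine T.st T.nine T.hm T.mem (T.ne S.fra.card)

/-- **three submodules** -/
theorem S22.exists_three (S : S22 ι a ψ ρ ρ') : ∃ (X₀ X₁ X₂ : Submodule k (I27 → k)) (i₀ j₀ i₁ j₁ i₂ j₂ : ℕ)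
    (Φ₀ Φ₁ Φ₂ : (F × F → k) →ₗ[k] (I27 → k)), X22 ι a (Rr ρ ψ) X₀ i₀ j₀ Φ₀ ∧ X22 ι a (Rr ρ ψ) X₁ i₁ j₁ Φ₁ ∧
      X22 ι a (Rr ρ ψ) X₂ i₂ j₂ Φ₂ ∧ X₀ ⊓ X₁ = ⊥ ∧ X₀ ⊓ X₂ = ⊥ ∧ X₁ ⊓ X₂ = ⊥ ∧ X₀ ⊔ (X₁ ⊔ X₂) = ⊤ := by
  have h27 : Module.finrank k (I27 → k) = 27 := by
    rw [Module.finrank_fintype_fun_eq_card]
    rfl
  have hnt : (⊤ : Submodule k (I27 → k)) ≠ ⊥ := by
    intro h
    have h1 : Module.finrank k (⊤ : Submodule k (I27 → k)) = 0 := by rw [h, finrank_bot]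
    rw [finrank_top, h27] at h1
    omega
  obtain ⟨X₀, i₀, j₀, Φ₀, -, T₀⟩ := S.exists_irr (W := ⊤) (fun _ _ _ => trivial) hnt
  obtain ⟨V₁, hV₁, hc₀, hd₁⟩ := S.compl T₀
  have hb₁ : V₁ ≠ ⊥ := by
    rintro rfl
    rw [finrank_bot] at hd₁
    omega
  obtain ⟨X₁, i₁, j₁, Φ₁, hX₁, T₁⟩ := S.exists_irr hV₁ hb₁
  obtain ⟨K₁, hK₁, hc₁, hdK⟩ := S.compl T₁
  have hV₂ : ∀ g, ∀ x ∈ V₁ ⊓ K₁, Rr ρ ψ g x ∈ V₁ ⊓ K₁ := fun g x hx => ⟨hV₁ g x hx.1, hK₁ g x hx.2⟩
  have hd₂ : 9 ≤ Module.finrank k ↑(V₁ ⊓ K₁) := by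
    have h1 := Submodule.finrank_sup_add_finrank_inf_eq V₁ K₁
    have h2 := Submodule.finrank_le (V₁ ⊔ K₁)
    omega
  have hb₂ : V₁ ⊓ K₁ ≠ ⊥ := by
    intro h
    rw [h, finrank_bot] at hd₂
    omega
  obtain ⟨X₂, i₂, j₂, Φ₂, hX₂, T₂⟩ := S.exists_irr hV₂ hb₂
  have e1 : X₁ ⊓ X₂ = ⊥ := by
    rw [eq_bot_iff, ← disjoint_iff.1 hc₁.1]
    exact inf_le_inf_left _ (hX₂.trans inf_le_right)
  have e12 : X₁ ⊔ X₂ ≤ V₁ := sup_le hX₁ (hX₂.trans inf_le_left)
  have e0 : X₀ ⊓ (X₁ ⊔ X₂) = ⊥ := by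
    rw [eq_bot_iff, ← disjoint_iff.1 hc₀.1]
    exact inf_le_inf_left _ e12
  refine ⟨X₀, X₁, X₂, i₀, j₀, i₁, j₁, i₂, j₂, Φ₀, Φ₁, Φ₂, T₀, T₁, T₂, ?_, ?_, e1, ?_⟩
  · rw [eq_bot_iff, ← e0]
    exact inf_le_inf_left _ le_sup_left
  · rw [eq_bot_iff, ← e0]
    exact inf_le_inf_left _ le_sup_right
  · apply Submodule.eq_top_of_finrank_eq
    have h1 := Submodule.finrank_sup_add_finrank_inf_eq X₁ X₂
    have h2 := Submodule.finrank_sup_add_finrank_inf_eq X₀ (X₁ ⊔ X₂)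
    rw [e1, finrank_bot] at h1
    rw [e0, finrank_bot] at h2
    have := T₀.nine
    have := T₁.nine
    have := T₂.nine
    omega

/-- **multiplicities** -/
theorem S22.mult_one (S : S22 ι a ψ ρ ρ') {X X' : Submodule k (I27 → k)} {i j : ℕ} {Φ Φ' : (F × F → k) →ₗ[k] (I27 → k)}
    (T : X22 ι a (Rr ρ ψ) X i j Φ) (T' : X22 ι a (Rr ρ ψ) X' i j Φ') : X ⊓ X' ≠ ⊥ := by
  intro hinf
  have hF := S.fra.card
  obtain ⟨m22, h22⟩ : ∃ m, m = bf ι 3 i j 2 2 2 2 := ⟨_, rfl⟩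
  obtain ⟨m00, h00⟩ : ∃ m, m = bf ι 3 i j 2 2 0 0 := ⟨_, rfl⟩
  obtain ⟨m11, h11⟩ : ∃ m, m = bf ι 3 i j 2 2 1 1 := ⟨_, rfl⟩
  have hne' := tri_ne S.fra S.n1 S.n2 T.P S.swap.no T'.hm (T'.ne hF)
  rw [← h22, ← h00, ← h11] at hne'
  have hpoly : ∃ s : k, tf (cr (Φ' m22) (Φ' m00)) (Φ' m11) * s ^ 3 +
      (tf (cr (Φ m22) (Φ' m00)) (Φ' m11) + tf (cr (Φ' m22) (Φ m00)) (Φ' m11) + tf (cr (Φ' m22) (Φ' m00)) (Φ m11)) * s ^ 2 +
      (tf (cr (Φ m22) (Φ m00)) (Φ' m11) + tf (cr (Φ m22) (Φ' m00)) (Φ m11) + tf (cr (Φ' m22) (Φ m00)) (Φ m11)) * s +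
      tf (cr (Φ m22) (Φ m00)) (Φ m11) = 0 := by
    obtain ⟨s, hs⟩ := IsAlgClosed.exists_root (Polynomial.C (tf (cr (Φ' m22) (Φ' m00)) (Φ' m11)) * Polynomial.X ^ 3 +
      Polynomial.C (tf (cr (Φ m22) (Φ' m00)) (Φ' m11) + tf (cr (Φ' m22) (Φ m00)) (Φ' m11) +
        tf (cr (Φ' m22) (Φ' m00)) (Φ m11)) * Polynomial.X ^ 2 +
      Polynomial.C (tf (cr (Φ m22) (Φ m00)) (Φ' m11) + tf (cr (Φ m22) (Φ' m00)) (Φ m11) +
        tf (cr (Φ' m22) (Φ m00)) (Φ m11)) * Polynomial.X +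
      Polynomial.C (tf (cr (Φ m22) (Φ m00)) (Φ m11))) (by
        rw [Polynomial.degree_cubic hne']
        norm_num)
    refine ⟨s, ?_⟩
    rw [Polynomial.IsRoot.def] at hs
    simpa only [Polynomial.eval_add, Polynomial.eval_mul, Polynomial.eval_C, Polynomial.eval_pow, Polynomial.eval_X] using hs
  obtain ⟨s, hs⟩ := hpoly
  have hHm : Hm ι (Rr ρ ψ) (2 * 3 ^ i + 2 * 3 ^ j) (Φ + s • Φ') := by
    intro g f hf
    rw [LinearMap.add_apply, LinearMap.smul_apply, T.hm g f hf, T'.hm g f hf, LinearMap.add_apply, LinearMap.smul_apply,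
      map_add, map_smul]
  refine tri_ne S.fra S.n1 S.n2 T.P S.swap.no hHm ?_ ?_
  · refine ⟨_, T.P.mm hF le_rfl le_rfl, fun h => T.top hF ?_⟩
    have h1 : Φ (bf ι 3 i j 2 2 2 2) ∈ X ⊓ X' := by
      refine ⟨(T.mem _).2 ⟨_, T.P.mm hF le_rfl le_rfl, rfl⟩, ?_⟩
      have h2 : Φ (bf ι 3 i j 2 2 2 2) = Φ' ((-s) • bf ι 3 i j 2 2 2 2) := by
        rw [LinearMap.add_apply, LinearMap.smul_apply] at h
        rw [map_smul, neg_smul]
        exact eq_neg_of_add_eq_zero_left h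
      rw [h2]
      exact (T'.mem _).2 ⟨_, Submodule.smul_mem _ _ (T.P.mm hF le_rfl le_rfl), rfl⟩
    rw [hinf] at h1
    exact (Submodule.mem_bot k).1 h1
  · rw [← h22, ← h00, ← h11, LinearMap.add_apply, LinearMap.add_apply, LinearMap.add_apply, LinearMap.smul_apply,
      LinearMap.smul_apply, LinearMap.smul_apply]
    simp only [cr_add_left, cr_add_right, cr_smul_left, cr_smul_right, tf_add_left, tf_add_right, tf_smul_left,
      tf_smul_right]
    linear_combination hs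

end Main

end Cfsg.Agent.R2.P3
end

-- part: R2/P3/Num
section
/-!
# Sums of digits (R2/P3, helper17), `p = 3`

* `ds_eq` : `-1 ≤ v l ≤ 2` and `3 ^ a - 1 ∣ 2 ∑ v l 3 ^ l` imply that `v` is constant;
* `ds_or` : `|v l| ≤ 2` and `3 ^ a - 1 ∣ 2 ∑ v l 3 ^ l` imply that `v` is zero or has no zero;
* `wt_dvd` : the weights of trilinear forms.
-/

set_option autoImplicit false

namespace Cfsg.Agent.R2.P3

theorem ds_step (n : ℕ) (u : ℕ → ℤ) : ∑ l ∈ Finset.range (n + 1), u l * 3 ^ l =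
    3 * ∑ l ∈ Finset.range n, u (l + 1) * 3 ^ l + u 0 := by
  rw [Finset.sum_range_succ', pow_zero, mul_one, Finset.mul_sum]
  congr 1
  refine Finset.sum_congr rfl fun l _ => by ring

theorem ds_zero : ∀ (n : ℕ) (u : ℕ → ℤ), (∀ l < n, -2 ≤ u l ∧ u l ≤ 2) → ∑ l ∈ Finset.range n, u l * 3 ^ l = 0 →
    ∀ l < n, u l = 0 := by
  intro n
  induction n with
  | zero => intro u _ _ l hl; omega
  | succ n ih =>
    intro u hu h
    rw [ds_step] at h
    have h0 := hu 0 (by omega)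
    have h1 : u 0 = 0 := by omega
    have h2 : ∑ l ∈ Finset.range n, u (l + 1) * 3 ^ l = 0 := by omega
    intro l hl
    match l with
    | 0 => exact h1
    | l + 1 => exact ih (fun l => u (l + 1)) (fun l hl => hu (l + 1) (by omega)) h2 l (by omega)

theorem ds_carry : ∀ (n : ℕ) (u : ℕ → ℤ) (c : ℤ), (∀ l < n, -3 ≤ u l ∧ u l ≤ 1) → 0 ≤ c → c ≤ 1 →
    ∑ l ∈ Finset.range n, u l * 3 ^ l = c → ∀ l < n, u l ≠ -1 := by
  intro n
  induction n with
  | zero => intro u c _ _ _ _ l hl; omega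
  | succ n ih =>
    intro u c hu hc0 hc1 h
    rw [ds_step] at h
    have h0 := hu 0 (by omega)
    obtain ⟨S, hS⟩ : ∃ S, S = ∑ l ∈ Finset.range n, u (l + 1) * 3 ^ l := ⟨_, rfl⟩
    rw [← hS] at h
    intro l hl
    match l with
    | 0 => omega
    | l + 1 =>
      exact ih (fun l => u (l + 1)) S (fun l hl => hu (l + 1) (by omega)) (by omega) (by omega) hS.symm l (by omega)

theorem geo (a : ℕ) : 2 * ∑ l ∈ Finset.range a, (3 : ℤ) ^ l = 3 ^ a - 1 := by
  induction a with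
  | zero => norm_num
  | succ a ih =>
    rw [Finset.sum_range_succ, mul_add, ih, pow_succ]
    ring

theorem ds_nonneg {a : ℕ} {u : ℕ → ℤ} (hu : ∀ l < a, 0 ≤ u l) (h : ∑ l ∈ Finset.range a, u l * 3 ^ l = 0) :
    ∀ l < a, u l = 0 := by
  intro l hl
  have h1 := (Finset.sum_eq_zero_iff_of_nonneg (fun l hl => mul_nonneg (hu l (Finset.mem_range.1 hl))
    (pow_nonneg (by norm_num : (0 : ℤ) ≤ 3) l))).1 h l (Finset.mem_range.2 hl)
  exact (mul_eq_zero.1 h1).resolve_right (pow_ne_zero _ (by norm_num))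

theorem ds_shift {a : ℕ} {v : ℕ → ℤ} {m : ℤ} (h : 2 * ∑ l ∈ Finset.range a, v l * 3 ^ l = (3 ^ a - 1) * m) :
    ∑ l ∈ Finset.range a, (v l - m) * 3 ^ l = 0 := by
  have h1 : ∑ l ∈ Finset.range a, (v l - m) * 3 ^ l =
      ∑ l ∈ Finset.range a, v l * 3 ^ l - m * ∑ l ∈ Finset.range a, (3 : ℤ) ^ l := by
    rw [Finset.mul_sum, ← Finset.sum_sub_distrib]
    refine Finset.sum_congr rfl fun l _ => by ring
  have h2 := geo a
  rw [h1]
  have h3 : (2 : ℤ) * (∑ l ∈ Finset.range a, v l * 3 ^ l - m * ∑ l ∈ Finset.range a, (3 : ℤ) ^ l) = 0 := by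
    rw [mul_sub, h, ← h2]
    ring
  exact (mul_eq_zero.1 h3).resolve_left (by norm_num)

theorem ds_le {a : ℕ} {v : ℕ → ℤ} {c : ℤ} (hv : ∀ l < a, v l ≤ c) :
    2 * ∑ l ∈ Finset.range a, v l * 3 ^ l ≤ (3 ^ a - 1) * c := by
  rw [← geo, mul_assoc, Finset.sum_mul]
  refine mul_le_mul_of_nonneg_left (Finset.sum_le_sum fun l hl => ?_) (by norm_num)
  rw [mul_comm]
  exact mul_le_mul_of_nonneg_left (hv l (Finset.mem_range.1 hl)) (by positivity)

theorem le_ds {a : ℕ} {v : ℕ → ℤ} {c : ℤ} (hv : ∀ l < a, c ≤ v l) :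
    (3 ^ a - 1) * c ≤ 2 * ∑ l ∈ Finset.range a, v l * 3 ^ l := by
  rw [← geo, mul_assoc, Finset.sum_mul]
  refine mul_le_mul_of_nonneg_left (Finset.sum_le_sum fun l hl => ?_) (by norm_num)
  rw [mul_comm (v l)]
  exact mul_le_mul_of_nonneg_left (hv l (Finset.mem_range.1 hl)) (by positivity)

theorem Q_pos {a : ℕ} (ha : 1 ≤ a) : (0 : ℤ) < 3 ^ a - 1 := by
  have h1 : (3 : ℤ) ^ 1 ≤ 3 ^ a := pow_le_pow_right₀ (by norm_num) ha
  linarith

/-- **digits in `[-1, 2]`** -/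
theorem ds_eq {a : ℕ} (ha : 1 ≤ a) {v : ℕ → ℤ} (hv : ∀ l < a, -1 ≤ v l ∧ v l ≤ 2)
    (h : (3 ^ a - 1 : ℤ) ∣ 2 * ∑ l ∈ Finset.range a, v l * 3 ^ l) : ∃ r, ∀ l < a, v l = r := by
  obtain ⟨m, hm⟩ := h
  have hQ := Q_pos ha
  have h1 := le_ds fun l hl => (hv l hl).1
  have h2 := ds_le fun l hl => (hv l hl).2
  rw [hm] at h1 h2
  have m1 : -1 ≤ m := le_of_mul_le_mul_left h1 hQ
  have m2 : m ≤ 2 := le_of_mul_le_mul_left h2 hQ
  have h3 := ds_shift hm
  refine ⟨m, fun l hl => ?_⟩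
  have h4 : v l - m = 0 := by
    rcases eq_or_lt_of_le m1 with h5 | h5
    · exact ds_nonneg (fun l hl => by have := (hv l hl).1; omega) h3 l hl
    rcases eq_or_lt_of_le m2 with h6 | h6
    · have h7 : ∑ l ∈ Finset.range a, (m - v l) * 3 ^ l = 0 := by
        rw [← neg_eq_zero, ← h3, ← Finset.sum_neg_distrib]
        refine Finset.sum_congr rfl fun l _ => by ring
      have := ds_nonneg (fun l hl => by have := (hv l hl).2; omega) h7 l hl
      omega
    · exact ds_zero a _ (fun l hl => by have := hv l hl; constructor <;> omega) h3 l hl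
  omega

/-- **digits in `[-2, 2]`** -/
theorem ds_or {a : ℕ} (ha : 1 ≤ a) {v : ℕ → ℤ} (hv : ∀ l < a, -2 ≤ v l ∧ v l ≤ 2)
    (h : (3 ^ a - 1 : ℤ) ∣ 2 * ∑ l ∈ Finset.range a, v l * 3 ^ l) : (∀ l < a, v l = 0) ∨ ∀ l < a, v l ≠ 0 := by
  have key : ∀ v : ℕ → ℤ, (∀ l < a, -2 ≤ v l ∧ v l ≤ 2) → ∀ m : ℤ, 0 ≤ m → m ≤ 2 →
      2 * ∑ l ∈ Finset.range a, v l * 3 ^ l = (3 ^ a - 1) * m → (∀ l < a, v l = 0) ∨ ∀ l < a, v l ≠ 0 := by
    intro v hv m h0 h2 hm
    have h3 := ds_shift hm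
    have h4 : m = 0 ∨ m = 1 ∨ m = 2 := by omega
    rcases h4 with rfl | rfl | rfl
    · left
      intro l hl
      have := ds_zero a _ (fun l hl => by have := hv l hl; constructor <;> omega) h3 l hl
      omega
    · right
      intro l hl
      have := ds_carry a _ 0 (fun l hl => by have := hv l hl; constructor <;> omega) le_rfl (by norm_num) h3 l hl
      omega
    · right
      intro l hl
      have h7 : ∑ l ∈ Finset.range a, (2 - v l) * 3 ^ l = 0 := by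
        rw [← neg_eq_zero, ← h3, ← Finset.sum_neg_distrib]
        refine Finset.sum_congr rfl fun l _ => by ring
      have := ds_nonneg (fun l hl => by have := (hv l hl).2; omega) h7 l hl
      omega
  obtain ⟨m, hm⟩ := h
  have hQ := Q_pos ha
  have h1 := le_ds fun l hl => (hv l hl).1
  have h2 := ds_le fun l hl => (hv l hl).2
  rw [hm] at h1 h2
  have m1 : -2 ≤ m := le_of_mul_le_mul_left h1 hQ
  have m2 : m ≤ 2 := le_of_mul_le_mul_left h2 hQ
  rcases le_total 0 m with h3 | h3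
  · exact key v hv m h3 m2 hm
  · have h4 := key (fun l => -v l) (fun l hl => by have := hv l hl; constructor <;> omega) (-m) (by omega) (by omega) (by
      have h5 : ∑ l ∈ Finset.range a, -v l * 3 ^ l = -∑ l ∈ Finset.range a, v l * 3 ^ l := by
        rw [← Finset.sum_neg_distrib]
        refine Finset.sum_congr rfl fun l _ => by ring
      rw [h5]
      linear_combination -hm)
    rcases h4 with h4 | h4
    · exact Or.inl fun l hl => by have := h4 l hl; omega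
    · exact Or.inr fun l hl => by have := h4 l hl; omega

/-- the indicator function -/
def dl (i l : ℕ) : ℤ := if l = i then 1 else 0

theorem dl_self (i : ℕ) : dl i i = 1 := if_pos rfl

theorem dl_ne {i l : ℕ} (h : l ≠ i) : dl i l = 0 := if_neg h

theorem dl_cases (i l : ℕ) : dl i l = 0 ∨ (dl i l = 1 ∧ l = i) := by
  unfold dl
  split_ifs with h
  · exact Or.inr ⟨rfl, h⟩
  · exact Or.inl rfl

theorem sum_dl {a i : ℕ} (hi : i < a) : ∑ l ∈ Finset.range a, dl i l * 3 ^ l = 3 ^ i := by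
  rw [Finset.sum_eq_single i]
  · rw [dl_self, one_mul]
  · intro l _ hl
    rw [dl_ne hl, zero_mul]
  · intro h
    exact absurd (Finset.mem_range.2 hi) h

/-- the digits of the weights -/
def vd (i j i' j' i'' j'' x y l : ℕ) : ℤ :=
  dl i l + dl j l - dl i' l - dl j' l + ((x : ℤ) - 1) * dl i'' l + ((y : ℤ) - 1) * dl j'' l

theorem wt_dvd {a i j i' j' i'' j'' x y : ℕ} (hi : i < a) (hj : j < a) (hi' : i' < a) (hj' : j' < a) (hi'' : i'' < a)
    (hj'' : j'' < a) (hx : x ≤ 2) (hy : y ≤ 2)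
    (h : (2 * 3 ^ i + 2 * 3 ^ j + (x * 3 ^ i'' + y * 3 ^ j'')) % (3 ^ a - 1) =
      (2 * 3 ^ i' + 2 * 3 ^ j' + ((2 - x) * 3 ^ i'' + (2 - y) * 3 ^ j'')) % (3 ^ a - 1)) :
    (3 ^ a - 1 : ℤ) ∣ 2 * ∑ l ∈ Finset.range a, vd i j i' j' i'' j'' x y l * 3 ^ l := by
  have h1 : ∑ l ∈ Finset.range a, vd i j i' j' i'' j'' x y l * 3 ^ l =
      3 ^ i + 3 ^ j - 3 ^ i' - 3 ^ j' + ((x : ℤ) - 1) * 3 ^ i'' + ((y : ℤ) - 1) * 3 ^ j'' := by
    rw [← sum_dl hi, ← sum_dl hj, ← sum_dl hi', ← sum_dl hj', ← sum_dl hi'', ← sum_dl hj'', Finset.mul_sum,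
      Finset.mul_sum, ← Finset.sum_add_distrib, ← Finset.sum_sub_distrib, ← Finset.sum_sub_distrib,
      ← Finset.sum_add_distrib, ← Finset.sum_add_distrib]
    refine Finset.sum_congr rfl fun l _ => ?_
    unfold vd
    ring
  have h3 : ((2 * 3 ^ i + 2 * 3 ^ j + (x * 3 ^ i'' + y * 3 ^ j'') : ℕ) : ℤ) ≡
      ((2 * 3 ^ i' + 2 * 3 ^ j' + ((2 - x) * 3 ^ i'' + (2 - y) * 3 ^ j'') : ℕ) : ℤ) [ZMOD ((3 ^ a - 1 : ℕ) : ℤ)] :=
    Int.natCast_modEq_iff.2 h
  have h4 := h3.symm.dvd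
  have h5 : ((3 ^ a - 1 : ℕ) : ℤ) = 3 ^ a - 1 := by
    rw [Nat.cast_sub (Nat.one_le_pow _ _ (by norm_num))]
    push_cast
    ring
  rw [h5] at h4
  rw [h1]
  push_cast [hx, hy] at h4
  refine h4.trans (dvd_of_eq ?_)
  ring

end Cfsg.Agent.R2.P3
end

-- part: R2/P3/Mix
section
/-!
# The types of the three submodules of type `22` (R2/P3, helper17), `p = 3`

* `mix` : `T (X, X', X) = 0` for submodules of distinct types;
* `S22.exists_triangle` : the types are `{p, q}`, `{p, r}`, `{q, r}`.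
-/

set_option autoImplicit false
set_option linter.unusedSectionVars false

namespace Cfsg.Agent.R2.P3

open Matrix Cfsg.Agent.H943.SL2Rel Cfsg.Agent.H943.SL2Mod Cfsg.Agent.H943.RepAdd Cfsg.Agent.R2.H28.SL2
open Cfsg.Lie
open Cfsg.Agent.ChevalleyStructure.E6Min.Basic (Zgrp)
open Cfsg.Agent.ChevalleyStructure.E6Min.Inv
open Cfsg.Agent.H952.F4 (sh cr tf)
open Cfsg.Agent.H952.F4.Jord
open Cfsg.Agent.R2.GEO (Pair crB crB_apply tfB tfB_apply perp mem_perp finrank_perp perp_stab perp_perp kr mem_kr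
  finrank_kr_le)

universe u v w

/-- equal types -/
def Smt (i j i' j' : ℕ) : Prop := (i = i' ∧ j = j') ∨ (i = j' ∧ j = i')

/-- a triangle -/
def Tri3 (i₀ j₀ i₁ j₁ i₂ j₂ : ℕ) : Prop := ∃ p q r, p ≠ q ∧ p ≠ r ∧ q ≠ r ∧ Smt i₀ j₀ p q ∧ Smt i₁ j₁ p r ∧ Smt i₂ j₂ q r

theorem dl_comm (i l : ℕ) : dl i l = dl l i := by
  unfold dl
  by_cases h : l = i
  · rw [if_pos h, if_pos h.symm]
  · rw [if_neg h, if_neg (Ne.symm h)]

theorem num_mix {a i j i' j' x y : ℕ} (P : Pr a i j) (P' : Pr a i' j') (hd : ¬ Smt i j i' j') (hx : x ≤ 2) (hy : y ≤ 2) :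
    ¬ (3 ^ a - 1 : ℤ) ∣ 2 * ∑ l ∈ Finset.range a, vd i j i' j' i j x y l * 3 ^ l := by
  intro h
  have ha := P.ha
  have n1 := P.ne
  have n2 := P'.ne
  have hx' : (x : ℤ) ≤ 2 := by exact_mod_cast hx
  have hy' : (y : ℤ) ≤ 2 := by exact_mod_cast hy
  have hx0 : (0 : ℤ) ≤ x := Int.natCast_nonneg x
  have hy0 : (0 : ℤ) ≤ y := Int.natCast_nonneg y
  obtain ⟨r, hr⟩ := ds_eq (by omega) (fun l _ => by
    unfold vd
    rcases dl_cases i l with h1 | ⟨h1, h1'⟩ <;> rcases dl_cases j l with h2 | ⟨h2, h2'⟩ <;>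
      rcases dl_cases i' l with h3 | ⟨h3, h3'⟩ <;> rcases dl_cases j' l with h4 | ⟨h4, h4'⟩ <;>
      rw [h1, h2, h3, h4] <;> constructor <;> omega) h
  have e1 := hr i P.hi
  have e2 := hr j P.hj
  have e3 := hr i' P'.hi
  have e4 := hr j' P'.hj
  unfold vd at e1 e2 e3 e4
  rw [dl_self, dl_ne n1] at e1
  rw [dl_self, dl_ne n1.symm] at e2
  rw [dl_self, dl_ne n2, dl_comm i, dl_comm j] at e3
  rw [dl_self, dl_ne n2.symm, dl_comm i, dl_comm j] at e4
  have hd' : ¬ ((i = i' ∧ j = j') ∨ (i = j' ∧ j = i')) := hd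
  rcases dl_cases i' i with h1 | ⟨h1, h1'⟩ <;> rcases dl_cases j' i with h2 | ⟨h2, h2'⟩ <;>
      rcases dl_cases i' j with h3 | ⟨h3, h3'⟩ <;> rcases dl_cases j' j with h4 | ⟨h4, h4'⟩ <;>
      rw [h1, h2] at e1 <;> rw [h3, h4] at e2 <;> rw [h1, h3] at e3 <;> rw [h2, h4] at e4 <;> omega

section Main

variable {k : Type u} [Field k] [DecidableEq k] [IsAlgClosed k] {F : Type w} [Field F] [Fintype F] [DecidableEq F]
  {ι : F →+* k} [CharP k 3] [CharP F 3] {a : ℕ}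
variable {ψ : _root_.Matrix.SpecialLinearGroup (Fin 2) F →* ↥(Zgrp k)} {ρ ρ' : Representation k ↥(Zgrp k) (I27 → k)}

theorem X22.symm {r : Representation k (_root_.Matrix.SpecialLinearGroup (Fin 2) F) (I27 → k)}
    {X : Submodule k (I27 → k)} {i j : ℕ} {Φ : (F × F → k) →ₗ[k] (I27 → k)} (T : X22 ι a r X i j Φ) :
    X22 ι a r X j i Φ := by
  have e : 2 * 3 ^ j + 2 * 3 ^ i = 2 * 3 ^ i + 2 * 3 ^ j := add_comm _ _
  refine ⟨⟨T.P.ha, T.P.ne.symm, T.P.hj, T.P.hi⟩, T.st, ?_, ?_, ?_, ?_, T.nine⟩ <;> rw [e]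
  · exact T.isv
  · exact T.hm
  · exact T.mem
  · exact T.inj

/-- distinct submodules have distinct types -/
theorem S22.dist (S : S22 ι a ψ ρ ρ') {X X' : Submodule k (I27 → k)} {i j i' j' : ℕ}
    {Φ Φ' : (F × F → k) →ₗ[k] (I27 → k)} (T : X22 ι a (Rr ρ ψ) X i j Φ) (T' : X22 ι a (Rr ρ ψ) X' i' j' Φ')
    (h : X ⊓ X' = ⊥) : ¬ Smt i j i' j' := by
  rintro (⟨rfl, rfl⟩ | ⟨rfl, rfl⟩)
  · exact S.mult_one T T' h
  · exact S.mult_one T T'.symm h

/-- **mixed terms** -/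
theorem mix (f0 : Fra 3 a ψ ρ ρ') {X X' : Submodule k (I27 → k)} {i j i' j' : ℕ}
    {Φ Φ' : (F × F → k) →ₗ[k] (I27 → k)} (T : X22 ι a (Rr ρ ψ) X i j Φ) (T' : X22 ι a (Rr ρ ψ) X' i' j' Φ')
    (hd : ¬ Smt i j i' j') {x y z : I27 → k} (hx : x ∈ X) (hy : y ∈ X') (hz : z ∈ X) : tf (cr x y) z = 0 := by
  obtain ⟨f, hf, rfl⟩ := (T.mem x).1 hx
  obtain ⟨f', hf', rfl⟩ := (T'.mem y).1 hy
  obtain ⟨f'', hf'', rfl⟩ := (T.mem z).1 hz
  refine gen22 f0 T.P T'.P T.P T.hm T'.hm T.hm (fun x hx y hy h => ?_) f hf f' hf' f'' hf''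
  exact absurd (wt_dvd T.P.hi T.P.hj T'.P.hi T'.P.hj T.P.hi T.P.hj hx hy h) (num_mix T.P T'.P hd hx hy)

section Three

variable {X₀ X₁ X₂ : Submodule k (I27 → k)} {i₀ j₀ i₁ j₁ i₂ j₂ : ℕ} {Φ₀ Φ₁ Φ₂ : (F × F → k) →ₗ[k] (I27 → k)}

/-- the trilinear form vanishes -/
def Van (X₀ X₁ X₂ : Submodule k (I27 → k)) : Prop := ∀ x ∈ X₀, ∀ y ∈ X₁, ∀ z ∈ X₂, tf (cr x y) z = 0

omit [CharP k 3] in
theorem Van.rot (h : Van X₁ X₂ X₀) : Van X₀ X₁ X₂ := by
  intro x hx y hy z hz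
  rw [tri_s12, tri_s23]
  exact h y hy z hz x hx

omit [CharP k 3] in
theorem Van.sw (h : Van X₀ X₂ X₁) : Van X₀ X₁ X₂ := by
  intro x hx y hy z hz
  rw [tri_s23]
  exact h x hx z hz y hy

theorem van_of (f0 : Fra 3 a ψ ρ ρ') (T₀ : X22 ι a (Rr ρ ψ) X₀ i₀ j₀ Φ₀) (T₁ : X22 ι a (Rr ρ ψ) X₁ i₁ j₁ Φ₁)
    (T₂ : X22 ι a (Rr ρ ψ) X₂ i₂ j₂ Φ₂) (h : ∀ x ≤ 2, ∀ y ≤ 2,
      ¬ (3 ^ a - 1 : ℤ) ∣ 2 * ∑ l ∈ Finset.range a, vd i₀ j₀ i₁ j₁ i₂ j₂ x y l * 3 ^ l) : Van X₀ X₁ X₂ := by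
  intro x hx y hy z hz
  obtain ⟨f, hf, rfl⟩ := (T₀.mem x).1 hx
  obtain ⟨f', hf', rfl⟩ := (T₁.mem y).1 hy
  obtain ⟨f'', hf'', rfl⟩ := (T₂.mem z).1 hz
  refine gen22 f0 T₀.P T₁.P T₂.P T₀.hm T₁.hm T₂.hm (fun x hx y hy h' => ?_) f hf f' hf' f'' hf''
  exact absurd (wt_dvd T₀.P.hi T₀.P.hj T₁.P.hi T₁.P.hj T₂.P.hi T₂.P.hj hx hy h') (h x hx y hy)

/-- the star -/
theorem van_star (f0 : Fra 3 a ψ ρ ρ') {p : ℕ} (T₀ : X22 ι a (Rr ρ ψ) X₀ p j₀ Φ₀) (T₁ : X22 ι a (Rr ρ ψ) X₁ p j₁ Φ₁)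
    (T₂ : X22 ι a (Rr ρ ψ) X₂ p j₂ Φ₂) (h01 : j₀ ≠ j₁) (h02 : j₀ ≠ j₂) (h12 : j₁ ≠ j₂) : Van X₀ X₁ X₂ := by
  refine van_of f0 T₀ T₁ T₂ fun x hx y hy h => ?_
  have ha := T₀.P.ha
  have n0 := T₀.P.ne
  have n1 := T₁.P.ne
  have n2 := T₂.P.ne
  have hx' : (x : ℤ) ≤ 2 := by exact_mod_cast hx
  have hy' : (y : ℤ) ≤ 2 := by exact_mod_cast hy
  have hx0 : (0 : ℤ) ≤ x := Int.natCast_nonneg x
  have hy0 : (0 : ℤ) ≤ y := Int.natCast_nonneg y
  obtain ⟨r, hr⟩ := ds_eq (by omega) (fun l _ => by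
    unfold vd
    rcases dl_cases p l with h1 | ⟨h1, h1'⟩ <;> rcases dl_cases j₀ l with h2 | ⟨h2, h2'⟩ <;>
      rcases dl_cases j₁ l with h3 | ⟨h3, h3'⟩ <;> rcases dl_cases j₂ l with h4 | ⟨h4, h4'⟩ <;>
      rw [h1, h2, h3, h4] <;> constructor <;> omega) h
  have e0 := hr j₀ T₀.P.hj
  have e1 := hr j₁ T₁.P.hj
  unfold vd at e0 e1
  rw [dl_self, dl_ne n0.symm, dl_ne h01, dl_ne h02] at e0
  rw [dl_self, dl_ne n1.symm, dl_ne h01.symm, dl_ne h12] at e1
  omega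

/-- two types which intersect -/
theorem van_int (f0 : Fra 3 a ψ ρ ρ') {p : ℕ} (T₀ : X22 ι a (Rr ρ ψ) X₀ p j₀ Φ₀) (T₁ : X22 ι a (Rr ρ ψ) X₁ p j₁ Φ₁)
    (T₂ : X22 ι a (Rr ρ ψ) X₂ i₂ j₂ Φ₂) (h01 : j₀ ≠ j₁) (hp1 : p ≠ i₂) (hp2 : p ≠ j₂) (h : ¬ Smt i₂ j₂ j₀ j₁) :
    Van X₀ X₁ X₂ := by
  refine van_of f0 T₀ T₁ T₂ fun x hx y hy h' => ?_
  have ha := T₀.P.ha
  have n0 := T₀.P.ne
  have n1 := T₁.P.ne
  have n2 := T₂.P.ne
  have hx' : (x : ℤ) ≤ 2 := by exact_mod_cast hx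
  have hy' : (y : ℤ) ≤ 2 := by exact_mod_cast hy
  have hx0 : (0 : ℤ) ≤ x := Int.natCast_nonneg x
  have hy0 : (0 : ℤ) ≤ y := Int.natCast_nonneg y
  have h3 := ds_or (by omega) (fun l _ => by
    unfold vd
    rcases dl_cases p l with h1 | ⟨h1, h1'⟩ <;> rcases dl_cases j₀ l with h2 | ⟨h2, h2'⟩ <;>
      rcases dl_cases j₁ l with h3 | ⟨h3, h3'⟩ <;> rcases dl_cases j₂ l with h4 | ⟨h4, h4'⟩ <;>
      rcases dl_cases i₂ l with h5 | ⟨h5, h5'⟩ <;>
      rw [h1, h2, h3, h4, h5] <;> constructor <;> omega) h'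
  have h'' : ¬ ((i₂ = j₀ ∧ j₂ = j₁) ∨ (i₂ = j₁ ∧ j₂ = j₀)) := h
  have ep : vd p j₀ p j₁ i₂ j₂ x y p = 0 := by
    unfold vd
    rw [dl_self, dl_ne n0, dl_ne n1, dl_ne hp1, dl_ne hp2]
    ring
  rcases h3 with h3 | h3
  · have e0 := h3 j₀ T₀.P.hj
    have e1 := h3 j₁ T₁.P.hj
    unfold vd at e0 e1
    rw [dl_self, dl_ne n0.symm, dl_ne h01] at e0
    rw [dl_self, dl_ne n1.symm, dl_ne h01.symm] at e1
    rcases dl_cases i₂ j₀ with h1 | ⟨h1, h1'⟩ <;> rcases dl_cases j₂ j₀ with h2 | ⟨h2, h2'⟩ <;>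
      rcases dl_cases i₂ j₁ with h3 | ⟨h3, h3'⟩ <;> rcases dl_cases j₂ j₁ with h4 | ⟨h4, h4'⟩ <;>
      rw [h1, h2] at e0 <;> rw [h3, h4] at e1 <;> omega
  · exact h3 p T₀.P.hi ep

/-- a common digit -/
theorem van_com (f0 : Fra 3 a ψ ρ ρ') {p : ℕ} (T₀ : X22 ι a (Rr ρ ψ) X₀ p j₀ Φ₀) (T₁ : X22 ι a (Rr ρ ψ) X₁ p j₁ Φ₁)
    (T₂ : X22 ι a (Rr ρ ψ) X₂ i₂ j₂ Φ₂) (h01 : ¬ Smt p j₀ p j₁) (h02 : ¬ Smt p j₀ i₂ j₂) (h12 : ¬ Smt p j₁ i₂ j₂) :
    Van X₀ X₁ X₂ ∨ Tri3 p j₀ p j₁ i₂ j₂ := by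
  have n0 := T₀.P.ne
  have n1 := T₁.P.ne
  have g01 : j₀ ≠ j₁ := fun h => h01 (Or.inl ⟨rfl, h⟩)
  by_cases hp1 : p = i₂
  · left
    subst hp1
    exact van_star f0 T₀ T₁ T₂ g01 (fun h => h02 (Or.inl ⟨rfl, h⟩)) (fun h => h12 (Or.inl ⟨rfl, h⟩))
  by_cases hp2 : p = j₂
  · left
    subst hp2
    exact van_star f0 T₀ T₁ T₂.symm g01 (fun h => h02 (Or.inr ⟨rfl, h⟩)) (fun h => h12 (Or.inr ⟨rfl, h⟩))
  by_cases h : Smt i₂ j₂ j₀ j₁
  · right
    exact ⟨p, j₀, j₁, n0, n1, g01, Or.inl ⟨rfl, rfl⟩, Or.inl ⟨rfl, rfl⟩, h⟩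
  · left
    exact van_int f0 T₀ T₁ T₂ g01 hp1 hp2 h

theorem Smt.sw {i j i' j' : ℕ} (h : Smt i j i' j') : Smt j i i' j' := by
  rcases h with ⟨h1, h2⟩ | ⟨h1, h2⟩
  · exact Or.inr ⟨h2, h1⟩
  · exact Or.inl ⟨h2, h1⟩

theorem Smt.sw' {i j i' j' : ℕ} (h : Smt i j i' j') : Smt i j j' i' := by
  rcases h with ⟨h1, h2⟩ | ⟨h1, h2⟩
  · exact Or.inr ⟨h1, h2⟩
  · exact Or.inl ⟨h1, h2⟩

theorem Smt.symm {i j i' j' : ℕ} (h : Smt i j i' j') : Smt i' j' i j := by
  rcases h with ⟨h1, h2⟩ | ⟨h1, h2⟩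
  · exact Or.inl ⟨h1.symm, h2.symm⟩
  · exact Or.inr ⟨h2.symm, h1.symm⟩

theorem Tri3.sw0 (h : Tri3 i₀ j₀ i₁ j₁ i₂ j₂) : Tri3 j₀ i₀ i₁ j₁ i₂ j₂ := by
  obtain ⟨p, q, r, h1, h2, h3, h4, h5, h6⟩ := h
  exact ⟨p, q, r, h1, h2, h3, h4.sw, h5, h6⟩

theorem Tri3.sw1 (h : Tri3 i₀ j₀ i₁ j₁ i₂ j₂) : Tri3 i₀ j₀ j₁ i₁ i₂ j₂ := by
  obtain ⟨p, q, r, h1, h2, h3, h4, h5, h6⟩ := h
  exact ⟨p, q, r, h1, h2, h3, h4, h5.sw, h6⟩

theorem Tri3.rot (h : Tri3 i₁ j₁ i₂ j₂ i₀ j₀) : Tri3 i₀ j₀ i₁ j₁ i₂ j₂ := by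
  obtain ⟨p, q, r, h1, h2, h3, h4, h5, h6⟩ := h
  exact ⟨q, r, p, h3, h1.symm, h2.symm, h6, h4.sw', h5.sw'⟩

theorem Tri3.sw (h : Tri3 i₀ j₀ i₂ j₂ i₁ j₁) : Tri3 i₀ j₀ i₁ j₁ i₂ j₂ := by
  obtain ⟨p, q, r, h1, h2, h3, h4, h5, h6⟩ := h
  exact ⟨q, p, r, h1.symm, h3, h2, h4.sw', h6, h5⟩

/-- two types which intersect -/
theorem van_com' (f0 : Fra 3 a ψ ρ ρ') (T₀ : X22 ι a (Rr ρ ψ) X₀ i₀ j₀ Φ₀) (T₁ : X22 ι a (Rr ρ ψ) X₁ i₁ j₁ Φ₁)
    (T₂ : X22 ι a (Rr ρ ψ) X₂ i₂ j₂ Φ₂) (h01 : ¬ Smt i₀ j₀ i₁ j₁) (h02 : ¬ Smt i₀ j₀ i₂ j₂) (h12 : ¬ Smt i₁ j₁ i₂ j₂)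
    (h : i₀ = i₁ ∨ i₀ = j₁ ∨ j₀ = i₁ ∨ j₀ = j₁) : Van X₀ X₁ X₂ ∨ Tri3 i₀ j₀ i₁ j₁ i₂ j₂ := by
  rcases h with rfl | rfl | rfl | rfl
  · exact van_com f0 T₀ T₁ T₂ h01 h02 h12
  · exact (van_com f0 T₀ T₁.symm T₂ (fun h => h01 h.sw') h02 (fun h => h12 h.sw)).imp id Tri3.sw1
  · exact (van_com f0 T₀.symm T₁ T₂ (fun h => h01 h.sw) (fun h => h02 h.sw) h12).imp id Tri3.sw0
  · exact (van_com f0 T₀.symm T₁.symm T₂ (fun h => h01 h.sw.sw') (fun h => h02 h.sw) (fun h => h12 h.sw)).imp id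
      fun h => h.sw0.sw1

/-- **the trilinear form on three submodules** -/
theorem van_or (f0 : Fra 3 a ψ ρ ρ') (T₀ : X22 ι a (Rr ρ ψ) X₀ i₀ j₀ Φ₀) (T₁ : X22 ι a (Rr ρ ψ) X₁ i₁ j₁ Φ₁)
    (T₂ : X22 ι a (Rr ρ ψ) X₂ i₂ j₂ Φ₂) (h01 : ¬ Smt i₀ j₀ i₁ j₁) (h02 : ¬ Smt i₀ j₀ i₂ j₂) (h12 : ¬ Smt i₁ j₁ i₂ j₂) :
    Van X₀ X₁ X₂ ∨ Tri3 i₀ j₀ i₁ j₁ i₂ j₂ := by
  by_cases c01 : i₀ = i₁ ∨ i₀ = j₁ ∨ j₀ = i₁ ∨ j₀ = j₁
  · exact van_com' f0 T₀ T₁ T₂ h01 h02 h12 c01
  by_cases c12 : i₁ = i₂ ∨ i₁ = j₂ ∨ j₁ = i₂ ∨ j₁ = j₂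
  · exact (van_com' f0 T₁ T₂ T₀ h12 (fun h => h01 h.symm) (fun h => h02 h.symm) c12).imp Van.rot Tri3.rot
  by_cases c02 : i₀ = i₂ ∨ i₀ = j₂ ∨ j₀ = i₂ ∨ j₀ = j₂
  · exact (van_com' f0 T₀ T₂ T₁ h02 h01 (fun h => h12 h.symm) c02).imp Van.sw Tri3.sw
  left
  refine van_of f0 T₀ T₁ T₂ fun x hx y hy h => ?_
  have ha := T₀.P.ha
  have n0 := T₀.P.ne
  have n1 := T₁.P.ne
  have n2 := T₂.P.ne
  have hx' : (x : ℤ) ≤ 2 := by exact_mod_cast hx
  have hy' : (y : ℤ) ≤ 2 := by exact_mod_cast hy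
  have hx0 : (0 : ℤ) ≤ x := Int.natCast_nonneg x
  have hy0 : (0 : ℤ) ≤ y := Int.natCast_nonneg y
  push Not at c01 c12 c02
  obtain ⟨r, hr⟩ := ds_eq (by clear * - ha; omega) (fun l _ => by
    unfold vd
    by_cases a1 : l = i₀
    · rw [a1, dl_self, dl_ne n0, dl_ne c01.1, dl_ne c01.2.1, dl_ne c02.1, dl_ne c02.2.1]
      clear * -; omega
    by_cases a2 : l = j₀
    · rw [a2, dl_self, dl_ne n0.symm, dl_ne c01.2.2.1, dl_ne c01.2.2.2, dl_ne c02.2.2.1, dl_ne c02.2.2.2]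
      clear * -; omega
    rw [dl_ne a1, dl_ne a2]
    by_cases a3 : l = i₁
    · rw [a3, dl_self, dl_ne n1, dl_ne c12.1, dl_ne c12.2.1]
      clear * -; omega
    by_cases a4 : l = j₁
    · rw [a4, dl_self, dl_ne n1.symm, dl_ne c12.2.2.1, dl_ne c12.2.2.2]
      clear * -; omega
    rw [dl_ne a3, dl_ne a4]
    by_cases a5 : l = i₂
    · rw [a5, dl_self, dl_ne n2]
      clear * - hx' hx0; omega
    by_cases a6 : l = j₂
    · rw [a6, dl_self, dl_ne n2.symm]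
      clear * - hy' hy0; omega
    rw [dl_ne a5, dl_ne a6]
    clear * -; omega) h
  have e0 := hr i₀ T₀.P.hi
  have e1 := hr i₁ T₁.P.hi
  unfold vd at e0 e1
  rw [dl_self, dl_ne n0, dl_ne c01.1, dl_ne c01.2.1, dl_ne c02.1, dl_ne c02.2.1] at e0
  rw [dl_self, dl_ne n1, dl_ne (Ne.symm c01.1), dl_ne (Ne.symm c01.2.2.1), dl_ne c12.1, dl_ne c12.2.1] at e1
  clear * - e0 e1
  omega

end Three

/-- **the types form a triangle** -/
theorem S22.exists_triangle (S : S22 ι a ψ ρ ρ') : ∃ (X₀ X₁ X₂ : Submodule k (I27 → k)) (p q r : ℕ)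
    (Φ₀ Φ₁ Φ₂ : (F × F → k) →ₗ[k] (I27 → k)), p ≠ q ∧ p ≠ r ∧ q ≠ r ∧ X22 ι a (Rr ρ ψ) X₀ p q Φ₀ ∧
      X22 ι a (Rr ρ ψ) X₁ p r Φ₁ ∧ X22 ι a (Rr ρ ψ) X₂ q r Φ₂ := by
  obtain ⟨X₀, X₁, X₂, i₀, j₀, i₁, j₁, i₂, j₂, Φ₀, Φ₁, Φ₂, T₀, T₁, T₂, b01, b02, b12, htop⟩ := S.exists_three
  have h01 := S.dist T₀ T₁ b01
  have h02 := S.dist T₀ T₂ b02
  have h12 := S.dist T₁ T₂ b12
  have f0 := S.fra
  rcases van_or f0 T₀ T₁ T₂ h01 h02 h12 with hv | ⟨p, q, r, n1, n2, n3, s0, s1, s2⟩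
  · exfalso
    obtain ⟨m, hm⟩ : ∃ m, m = Φ₀ (bf ι 3 i₀ j₀ 2 2 2 2) := ⟨_, rfl⟩
    have hm0 : m ≠ 0 := by rw [hm]; exact T₀.top f0.card
    have hmX : m ∈ X₀ := by rw [hm]; exact (T₀.mem _).2 ⟨_, T₀.P.mm f0.card le_rfl le_rfl, rfl⟩
    have hz : ∀ x : I27 → k, (∀ z ∈ X₀, tf (cr m x) z = 0) → (∀ z ∈ X₁, tf (cr m x) z = 0) →
        (∀ z ∈ X₂, tf (cr m x) z = 0) → x ∈ kr m := by
      intro x h0 h1 h2
      rw [mem_kr]
      refine tf_nondeg fun z => ?_
      have hz : z ∈ X₀ ⊔ (X₁ ⊔ X₂) := by rw [htop]; trivial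
      obtain ⟨z0, hz0, z', hz', rfl⟩ := Submodule.mem_sup.1 hz
      obtain ⟨z1, hz1, z2, hz2, rfl⟩ := Submodule.mem_sup.1 hz'
      rw [tf_add_right, tf_add_right, h0 z0 hz0, h1 z1 hz1, h2 z2 hz2, add_zero, add_zero]
    have hle : X₁ ⊔ X₂ ≤ kr m := by
      refine sup_le (fun x hx => hz x ?_ ?_ ?_) (fun x hx => hz x ?_ ?_ ?_)
      · exact fun z hz => mix f0 T₀ T₁ h01 hmX hx hz
      · intro z hz
        rw [tri_s12]
        exact mix f0 T₁ T₀ (fun h => h01 h.symm) hx hmX hz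
      · exact fun z hz => hv m hmX x hx z hz
      · exact fun z hz => mix f0 T₀ T₂ h02 hmX hx hz
      · intro z hz
        rw [tri_s23]
        exact hv m hmX z hz x hx
      · intro z hz
        rw [tri_s12]
        exact mix f0 T₂ T₀ (fun h => h02 h.symm) hx hmX hz
    have h1 := Submodule.finrank_mono hle
    have h2 := finrank_kr_le hm0
    have h3 := Submodule.finrank_sup_add_finrank_inf_eq X₁ X₂
    rw [b12, finrank_bot] at h3
    have := T₁.nine
    have := T₂.nine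
    omega
  · refine ⟨X₀, X₁, X₂, p, q, r, Φ₀, Φ₁, Φ₂, n1, n2, n3, ?_, ?_, ?_⟩
    · rcases s0 with ⟨rfl, rfl⟩ | ⟨rfl, rfl⟩
      · exact T₀
      · exact T₀.symm
    · rcases s1 with ⟨rfl, rfl⟩ | ⟨rfl, rfl⟩
      · exact T₁
      · exact T₁.symm
    · rcases s2 with ⟨rfl, rfl⟩ | ⟨rfl, rfl⟩
      · exact T₂
      · exact T₂.symm

end Main

end Cfsg.Agent.R2.P3
end
end

-- part: R2/H14/T/RatC
section
prune_inst 0x240000113062000000040004f20002c10100040010408000020008040a00204040400800020021120020000000010068111000200240000004000000000200001010000000400008000000000000410000000000000000000000000000010000004010000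
set_option linter.all false
open scoped Cfsg.Agent.FastGrp

-- part: R2/H14/T/Tor
section
/-!
# T-type: diagonal elements of the simply connected group of type `E₆` (helper14)

`T3` : the symmetric trilinear form on the 27-dimensional module, `torus_mem` : a linear map, diagonal with respect to a
basis, compatible with `T3`.
-/

set_option autoImplicit false

namespace Cfsg.Agent.R2.H14.T

open Cfsg Cfsg.Lie Module
open Cfsg.Agent.ChevalleyStructure.E6Min.Tables Cfsg.Agent.ChevalleyStructure.E6Min.Basic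
  Cfsg.Agent.ChevalleyStructure.E6Min.Adjoint Cfsg.Agent.ChevalleyStructure.E6Min.Inv
open Cfsg.Agent.H163.E6
open Cfsg.Agent.H952.F4 (ev es matRep sh cr tf)
open scoped Matrix

universe u

variable (k : Type u) [Field k]

/-- the pairing -/
noncomputable def tfL : (I27 → k) →ₗ[k] (I27 → k) →ₗ[k] k :=
  LinearMap.mk₂ k tf Cfsg.Agent.H952.F4.Jord.tf_add_left (fun c x y => Cfsg.Agent.H952.F4.Jord.tf_smul_left c x y)
    Cfsg.Agent.H952.F4.Jord.tf_add_right (fun c x y => Cfsg.Agent.H952.F4.Jord.tf_smul_right c x y)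

/-- the trilinear form -/
noncomputable def T3 : (I27 → k) →ₗ[k] (I27 → k) →ₗ[k] (I27 → k) →ₗ[k] k :=
  LinearMap.mk₂ k (fun x y => tfL k (cr x y))
    (fun x x' y => by rw [Cfsg.Agent.H952.F4.Jord.cr_add_left, map_add])
    (fun c x y => by rw [Cfsg.Agent.H952.F4.Jord.cr_smul_left, map_smul])
    (fun x y y' => by rw [Cfsg.Agent.H952.F4.Jord.cr_add_right, map_add])
    (fun c x y => by rw [Cfsg.Agent.H952.F4.Jord.cr_smul_right, map_smul])

variable {k}

theorem tfL_apply (x y : I27 → k) : tfL k x y = tf x y := rfl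

theorem T3_apply (x y z : I27 → k) : T3 k x y z = tf (cr x y) z := rfl

theorem T3_s12 (x y z : I27 → k) : T3 k x y z = T3 k y x z := by
  rw [T3_apply, T3_apply, Cfsg.Agent.H952.F4.Jord.cr_comm]

theorem T3_s23 (x y z : I27 → k) : T3 k x y z = T3 k x z y := by
  rw [T3_apply, T3_apply, Cfsg.Agent.H952.F4.Jord.tf_cr, Cfsg.Agent.H952.F4.Jord.tf_cr,
    Cfsg.Agent.H952.F4.Jord.cr_comm y z]

theorem T3_self (x : I27 → k) : T3 k x x x = 6 * cubicT x := by
  rw [T3_apply, Cfsg.Agent.H952.F4.Jord.cr_self, Cfsg.Agent.H952.F4.Jord.tf_smul_left,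
    Cfsg.Agent.H952.F4.Jord.tf_sh_self]
  ring

theorem T3_act (g : ↥(Zgrp k)) (x y z : I27 → k) : T3 k (V k g x) (V k g y) (V k g z) = T3 k x y z := by
  rw [T3_apply, T3_apply, Act.cr_act, Cfsg.Agent.H952.F4.Jord.tf_comm, Act.tf_act,
    Cfsg.Agent.H952.F4.Jord.tf_comm]

variable {ι' : Type*} (B : Basis ι' k (I27 → k)) (μ : ι' → k)

/-- the diagonal map -/
noncomputable def dg : (I27 → k) →ₗ[k] (I27 → k) := B.constr k fun x => μ x • B x

theorem dg_apply (x : ι') : dg B μ (B x) = μ x • B x := B.constr_basis k _ x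

variable {B μ}

/-- **diagonal elements** -/
theorem torus_mem (h2 : (2 : k) ≠ 0) (h3 : (3 : k) ≠ 0) (hμ : ∀ x, μ x ≠ 0)
    (h : ∀ x y z, T3 k (B x) (B y) (B z) ≠ 0 → μ x * μ y * μ z = 1) :
    ∃ g : ↥(Zgrp k), ∀ x, V k g x = dg B μ x := by
  -- the group element
  have e1 : dg B μ ∘ₗ dg B (fun x => (μ x)⁻¹) = LinearMap.id := by
    refine B.ext fun x => ?_
    rw [LinearMap.comp_apply, dg_apply, map_smul, dg_apply, smul_smul, inv_mul_cancel₀ (hμ x), one_smul]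
    rfl
  have e2 : dg B (fun x => (μ x)⁻¹) ∘ₗ dg B μ = LinearMap.id := by
    refine B.ext fun x => ?_
    rw [LinearMap.comp_apply, dg_apply, map_smul, dg_apply, smul_smul, mul_inv_cancel₀ (hμ x), one_smul]
    rfl
  let g : GL I27 k := ⟨LinearMap.toMatrix' (dg B μ), LinearMap.toMatrix' (dg B fun x => (μ x)⁻¹), by
    rw [← LinearMap.toMatrix'_comp, e1, LinearMap.toMatrix'_id], by
    rw [← LinearMap.toMatrix'_comp, e2, LinearMap.toMatrix'_id]⟩
  have hg : ∀ x, (g : Matrix I27 I27 k) *ᵥ x = dg B μ x := fun x => LinearMap.toMatrix'_mulVec _ _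
  -- invariance of the trilinear form
  have h4 : ∀ x y z, T3 k (dg B μ x) (dg B μ y) (dg B μ z) = T3 k x y z := by
    intro x y z
    have k1 : ∀ x y, (T3 k (dg B μ (B x)) (dg B μ (B y))) ∘ₗ dg B μ = T3 k (B x) (B y) := by
      intro x y
      refine B.ext fun z => ?_
      rw [LinearMap.comp_apply, dg_apply, dg_apply, dg_apply]
      simp only [map_smul, LinearMap.smul_apply, smul_eq_mul]
      by_cases h0 : T3 k (B x) (B y) (B z) = 0
      · rw [h0]
        ring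
      · have := h x y z h0
        linear_combination (T3 k (B x) (B y) (B z)) * this
    have k2 : ∀ x z, (T3 k (dg B μ (B x))).flip (dg B μ z) ∘ₗ dg B μ = (T3 k (B x)).flip z := by
      intro x z
      refine B.ext fun y => ?_
      exact LinearMap.congr_fun (k1 x y) z
    have k3 : ∀ y z, ((T3 k).flip (dg B μ y)).flip (dg B μ z) ∘ₗ dg B μ = ((T3 k).flip y).flip z := by
      intro y z
      refine B.ext fun x => ?_
      exact LinearMap.congr_fun (k2 x z) y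
    exact LinearMap.congr_fun (k3 y z) x
  have h6 : (6 : k) ≠ 0 := by
    have : (6 : k) = 2 * 3 := by norm_num
    rw [this]
    exact mul_ne_zero h2 h3
  have hmem : g ∈ Zgrp k := by
    rw [Cfsg.Agent.H65.E6Full.Zgrp_eq_of_three ⟨2, h2, fun h => one_ne_zero (α := k) (by linear_combination h)⟩]
    intro v
    have h5 := h4 v v v
    rw [T3_self, T3_self, ← hg] at h5
    exact mul_left_cancel₀ h6 h5
  exact ⟨⟨g, hmem⟩, fun x => hg x⟩

end Cfsg.Agent.R2.H14.T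
end

-- part: R2/H14/T/TorA
section
/-!
# T-type: the torus, `p ≥ 5` (helper14)

`TorH` : the diagonal elements with the same `diag (τ 0, τ 1, τ 2)` for the three digits belong to `Zgrp k`; `torH_of_five`.
-/

set_option autoImplicit false
set_option linter.unusedSectionVars false

namespace Cfsg.Agent.R2.H14.T

open Cfsg Cfsg.Lie Module Matrix
open Cfsg.Agent.H943.SL2Rel Cfsg.Agent.H943.SL2Mod Cfsg.Agent.H943.RepAdd Cfsg.Agent.R2.H28.SL2
open Cfsg.Agent.ChevalleyStructure.E6Min.Basic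
open Cfsg.Agent.H163.E6

universe u

variable {k : Type u} [Field k]

/-- the torus elements (the same `τ` for the three digits) -/
def TorH (e : Fin 3 → Fin 3 → Fin 3 → (I27 → k)) : Prop :=
  ∀ τ : Fin 3 → k, (∀ a, τ a ≠ 0) → τ 0 * τ 1 * τ 2 = 1 →
    ∃ g : ↥(Zgrp k), ∀ c x y, V k g (e c x y) = (τ x * (τ (2 - y))⁻¹) • e c x y

variable [DecidableEq k] {K : Type*} [Field K] [Fintype K] [DecidableEq K] (ι : K →+* k)
variable {p : ℕ} [Fact p.Prime] [CharP k p] [CharP K p] {i : Fin 3 → ℕ}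
variable {ρ : Representation k (_root_.Matrix.SpecialLinearGroup (Fin 2) K) (I27 → k)}
variable {a : ℕ} (hK : Fintype.card K = p ^ a) (D : Dg3 p a i)

include hK D

theorem torH_of_five (hp5 : 5 ≤ p) {φ : ∀ c : Fin 3, Vb ι (bw p i c) →ₗ[k] (I27 → k)} (T : TT ι p i ρ φ)
    (hT : ∀ g x y z, T3 k (ρ g x) (ρ g y) (ρ g z) = T3 k x y z) : TorH (evc ι p i φ) := by
  intro τ hτ0 hτ
  obtain ⟨B, hB⟩ := T.bas
  have hne : ∀ n : ℕ, 0 < n → n < p → (n : k) ≠ 0 := by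
    intro n h0 h1 h
    rw [CharP.cast_eq_zero_iff k p] at h
    exact absurd (Nat.le_of_dvd h0 h) (by omega)
  have h2 : (2 : k) ≠ 0 := by
    have := hne 2 (by norm_num) (by omega)
    exact_mod_cast this
  have h3 : (3 : k) ≠ 0 := by
    have := hne 3 (by norm_num) (by omega)
    exact_mod_cast this
  have hbig : ∀ m, 1 ≤ m → m ≤ Fintype.card K - 1 → ¬ Sm p m → Dm ι ρ m = 0 :=
    fun m h1 h2 h3 => Dm_big ι hK D T h1 h2 h3
  have I : Inv (T3 k) (fun d => Dm ι ρ (p ^ i d)) (fun d => ρ w⁻¹ ∘ₗ Dm ι ρ (p ^ i d) ∘ₗ ρ w) :=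
    { s12 := T3_s12
      s23 := T3_s23
      iE := fun d x y z => der ι ρ p hp5 hK hbig (T3 k) hT (D.lt d) x y z
      iF := fun d x y z => der' ι ρ p hp5 hK hbig (T3 k) hT (D.lt d) x y z }
  have O := ops ι hK D T
  obtain ⟨g, hg⟩ := torus_mem (B := B) (μ := fun x => τ x.2.1 * (τ (2 - x.2.2))⁻¹) h2 h3
    (fun x => mul_ne_zero (hτ0 _) (inv_ne_zero (hτ0 _))) (by
      rintro ⟨c₁, x₁, y₁⟩ ⟨c₂, x₂, y₂⟩ ⟨c₃, x₃, y₃⟩ h
      rw [hB, hB, hB] at h
      exact tri_main O I h2 h3 hτ0 hτ h)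
  refine ⟨g, fun c x y => ?_⟩
  rw [hg, ← hB, dg_apply]

end Cfsg.Agent.R2.H14.T
end

-- part: R2/H14/T/TBX
section
/-!
# T-type: the decomposition (helper14)

`exists_TT` : three submodules isomorphic to `V_{b c}` in a module of dimension 27 give the structure `TT`.
-/

set_option autoImplicit false
set_option linter.unusedSectionVars false

namespace Cfsg.Agent.R2.H14.T

open Matrix Cfsg.Agent.H943.SL2Rel Cfsg.Agent.H943.SL2Mod Cfsg.Agent.H943.RepAdd Cfsg.Agent.R2.H28.SL2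

universe u v w

variable {k : Type u} [Field k] [DecidableEq k] [IsAlgClosed k] {K : Type w} [Field K] [Fintype K] [DecidableEq K]
  (ι : K →+* k)
variable {p : ℕ} [Fact p.Prime] [CharP k p] [CharP K p] {i : Fin 3 → ℕ}
variable {V : Type v} [AddCommGroup V] [Module k V] (ρ : Representation k (_root_.Matrix.SpecialLinearGroup (Fin 2) K) V)
variable {a : ℕ} (hK : Fintype.card K = p ^ a) (D : Dg3 p a i)

/-- factors of submodules -/
theorem mem_cf_of_le [FiniteDimensional k V] {X W : Submodule k V} (hX : ∀ g, ∀ x ∈ X, ρ g x ∈ X)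
    (hW : ∀ g, ∀ x ∈ W, ρ g x ∈ W) (hXW : X ≤ W) {b : ℕ} (h : IsV ι p (subRep ρ X hX) b) :
    b ∈ cf (Sy.{u, v, w} ι p) (subRep ρ W hW) := by
  have hX' : ∀ g, ∀ x ∈ X.comap W.subtype, subRep ρ W hW g x ∈ X.comap W.subtype := fun g x hx => hX g x hx
  have h1 : IsV ι p (subRep (subRep ρ W hW) (X.comap W.subtype) hX') b :=
    IsV.iso ι p (Submodule.comapSubtypeEquivOfLe hXW).symm (fun g x => rfl) h
  have h2 : cf (Sy.{u, v, w} ι p) (subRep (subRep ρ W hW) (X.comap W.subtype) hX') = {b} := cf_irr _ h1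
  have h3 := cf_sub_le (Sy.{u, v, w} ι p) (subRep ρ W hW) (X.comap W.subtype) hX'
  rw [h2] at h3
  exact Multiset.singleton_le.1 h3

include hK D in
theorem exists_TT [FiniteDimensional k V] (hdim : Module.finrank k V = 27) (X : Fin 3 → Submodule k V)
    (hX : ∀ c g, ∀ x ∈ X c, ρ g x ∈ X c) (hV : ∀ c, IsV ι p (subRep ρ (X c) (hX c)) (bw p i c)) :
    ∃ φ : ∀ c : Fin 3, Vb ι (bw p i c) →ₗ[k] V, TT ι p i ρ φ ∧ (∀ c, LinearMap.range (φ c) = X c) ∧
      (⨆ c, X c) = ⊤ := by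
  obtain ⟨W, hWdef⟩ : ∃ W : Submodule k V, W = ⨆ c, X c := ⟨_, rfl⟩
  have hXW : ∀ c, X c ≤ W := fun c => by rw [hWdef]; exact le_iSup X c
  have hW : ∀ g, ∀ x ∈ W, ρ g x ∈ W := by
    intro g
    have h1 : W ≤ W.comap (ρ g) := by
      nth_rewrite 1 [hWdef]
      exact iSup_le fun c x hx => hXW c (hX c g x hx)
    exact fun x hx => h1 hx
  have hm := fun c => mem_cf_of_le ι ρ (hX c) hW (hXW c) (hV c)
  have hpa : 1 ≤ p ^ a := Nat.one_le_pow _ _ (by have := D.three; omega)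
  have h27 : 27 ≤ Module.finrank k W := by
    rw [(isMult_cf ι p hK (subRep ρ W hW)).dim]
    have h1 : (Finset.univ : Finset (Fin 3)).image (bw p i) ⊆ Finset.range (p ^ a) := by
      intro b hb
      obtain ⟨c, -, rfl⟩ := Finset.mem_image.1 hb
      rw [Finset.mem_range]
      have := D.bw_lt c
      omega
    refine le_trans ?_ (Finset.sum_le_sum_of_subset h1)
    rw [Finset.sum_image (fun c _ d _ h => D.bw_inj h)]
    have h2 : ∀ c ∈ (Finset.univ : Finset (Fin 3)), 9 ≤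
        (cf (Sy.{u, v, w} ι p) (subRep ρ W hW)).count (bw p i c) * (Bf k (bw p i c)).card := by
      intro c _
      rw [D.card_Bf]
      have h3 : 1 ≤ (cf (Sy.{u, v, w} ι p) (subRep ρ W hW)).count (bw p i c) := Multiset.one_le_count_iff_mem.2 (hm c)
      omega
    have h3 := Finset.sum_le_sum h2
    rw [Finset.sum_const, Finset.card_univ, Fintype.card_fin] at h3
    exact h3
  have hWtop : W = ⊤ := by
    apply Submodule.eq_top_of_finrank_eq
    have := Submodule.finrank_le W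
    omega
  choose hb ψ hψ using hV
  refine ⟨fun c => (X c).subtype ∘ₗ (ψ c : Vb ι (bw p i c) →ₗ[k] X c), ⟨?_, ?_⟩, ?_, by rw [← hWdef, hWtop]⟩
  · intro c g x y hy
    have h1 : y = RB ι p (hb c) g x := Subtype.ext hy
    show (ψ c y : V) = ρ g (ψ c x : V)
    rw [h1, hψ]
    rfl
  · obtain ⟨e, he⟩ : ∃ e : Fin 3 × Fin 3 × Fin 3 → V, e = fun x => evc ι p i
      (fun c => (X c).subtype ∘ₗ (ψ c : Vb ι (bw p i c) →ₗ[k] X c)) x.1 x.2.1 x.2.2 := ⟨_, rfl⟩
    have hspan : ⊤ ≤ Submodule.span k (Set.range e) := by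
      rw [← hWtop, hWdef]
      refine iSup_le fun c x hx => ?_
      obtain ⟨κ, hκ⟩ := exists_sum ι hK D c ((ψ c).symm ⟨x, hx⟩)
      have h1 : x = (ψ c ((ψ c).symm ⟨x, hx⟩) : V) := by rw [LinearEquiv.apply_symm_apply]
      rw [h1, hκ, map_sum, Submodule.coe_sum]
      refine sum_mem fun y _ => ?_
      rw [map_smul, Submodule.coe_smul]
      exact Submodule.smul_mem _ _ (Submodule.subset_span ⟨(c, y.1, y.2), by rw [he]; rfl⟩)
    have hcard : Fintype.card (Fin 3 × Fin 3 × Fin 3) = Module.finrank k V := by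
      rw [hdim]
      rfl
    refine ⟨basisOfTopLeSpanOfCardEqFinrank e hspan hcard, fun c x y => ?_⟩
    rw [coe_basisOfTopLeSpanOfCardEqFinrank, he]
  · intro c
    rw [LinearMap.range_comp, LinearEquiv.range, Submodule.map_top, Submodule.range_subtype]

end Cfsg.Agent.R2.H14.T
end

-- part: R2/H14/T/Rat
section
/-!
# T-type: semilinear maps (helper14)

`exists_perm` : an equivariant injective semilinear map (`c ↦ c ^ (p ^ n)`) between two modules of type `TT` maps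
`e₁ c x y` to a multiple of `e₂ (π c) x y`.
-/

set_option autoImplicit false
set_option linter.unusedSectionVars false

namespace Cfsg.Agent.R2.H14.T

open Matrix Cfsg.Agent.H943.SL2Rel Cfsg.Agent.H943.SL2Mod Cfsg.Agent.H943.RepAdd Cfsg.Agent.R2.H28.SL2

variable {k : Type*} [Field k] [DecidableEq k] {K : Type*} [Field K] [Fintype K] [DecidableEq K] (ι : K →+* k)

/-- integral powers -/
theorem dvd_of_zpow {m n : ℤ} (h : ∀ t : Kˣ, ι (t : K) ^ m = ι (t : K) ^ n) :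
    ((Fintype.card K - 1 : ℕ) : ℤ) ∣ m - n := by
  obtain ⟨lam, hlam⟩ := IsCyclic.exists_generator (α := Kˣ)
  have hprim := primitive ι ι.injective hlam
  have h0 : ι (lam : K) ≠ 0 := (map_ne_zero ι).2 lam.ne_zero
  rw [← hprim.zpow_eq_one_iff_dvd, zpow_sub₀ h0, h lam, div_self (zpow_ne_zero _ h0)]

variable {p : ℕ} [Fact p.Prime] [CharP k p] [CharP K p] {i : Fin 3 → ℕ}
variable {V : Type*} [AddCommGroup V] [Module k V] {ρ : Representation k (_root_.Matrix.SpecialLinearGroup (Fin 2) K) V}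
variable {a : ℕ} (hK : Fintype.card K = p ^ a) (D : Dg3 p a i)

include hK D

theorem evc_mem (φ : ∀ c : Fin 3, Vb ι (bw p i c) →ₗ[k] V) (c x y : Fin 3) :
    evc ι p i φ c x y ∈ LinearMap.range (φ c) := ⟨_, rfl⟩

theorem range_eq (φ : ∀ c : Fin 3, Vb ι (bw p i c) →ₗ[k] V) {c : Fin 3} {v : V} (hv : v ∈ LinearMap.range (φ c)) :
    ∃ κ : Fin 3 × Fin 3 → k, v = ∑ x, κ x • evc ι p i φ c x.1 x.2 := by
  obtain ⟨f, rfl⟩ := hv
  obtain ⟨κ, hκ⟩ := exists_sum ι hK D c f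
  refine ⟨κ, ?_⟩
  rw [hκ, map_sum]
  exact Finset.sum_congr rfl fun x _ => by rw [map_smul]; rfl

theorem range_inv {φ : ∀ c : Fin 3, Vb ι (bw p i c) →ₗ[k] V} (T : TT ι p i ρ φ) (c : Fin 3) (g) {v : V}
    (hv : v ∈ LinearMap.range (φ c)) : ρ g v ∈ LinearMap.range (φ c) := by
  obtain ⟨f, rfl⟩ := hv
  have hb : bw p i c ≤ Fintype.card K - 1 := by rw [hK]; exact (D.bw_lt c).le
  exact ⟨RB ι p hb g f, T.eqv c g f _ rfl⟩

/-- fixed vectors of `U` -/
theorem ufix {φ : ∀ c : Fin 3, Vb ι (bw p i c) →ₗ[k] V} (T : TT ι p i ρ φ) {v : V} (hv : ∀ t, ρ (u t) v = v) :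
    ∃ κ : Fin 3 → k, v = ∑ c, κ c • evc ι p i φ c 2 2 := by
  have h5 := D.three
  have hq := one_lt (F := K)
  obtain ⟨B, hB⟩ := T.bas
  have h2 : (2 : k) ≠ 0 := by
    intro h
    have : ((2 : ℕ) : k) = 0 := by exact_mod_cast h
    rw [CharP.cast_eq_zero_iff k p] at this
    have := Nat.le_of_dvd (by norm_num) this
    omega
  have hz : ∀ d, Dm ι ρ (p ^ i d) v = 0 := by
    intro d
    have hN : p ^ i d < Fintype.card K - 1 := by
      rw [hK]
      have h1 : p * p ^ i d ≤ p ^ a := by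
        rw [← pow_succ']
        exact Nat.pow_le_pow_right (by omega) (D.lt d)
      have h3 : 1 ≤ p ^ i d := Nat.one_le_pow _ _ (by omega)
      have h4 : 3 * p ^ i d ≤ p ^ a := le_trans (Nat.mul_le_mul_right _ h5) h1
      omega
    have hN1 : 1 ≤ p ^ i d := Nat.one_le_pow _ _ (by omega)
    rw [Dm_apply, Finset.sum_congr rfl fun t _ => by rw [hv t], ← Finset.sum_smul, psum ι (by omega),
      if_neg (by omega), zero_smul, neg_zero]
  obtain ⟨κ, hκ⟩ : ∃ κ : Fin 3 × Fin 3 × Fin 3 → k, κ = B.repr v := ⟨_, rfl⟩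
  have hv' : v = ∑ x, κ x • B x := by
    rw [hκ]
    exact (B.sum_repr v).symm
  have hBe : ∀ x, B x = evc ι p i φ x.1 x.2.1 x.2.2 := fun x => hB x.1 x.2.1 x.2.2
  -- first digit
  have k1 : ∀ c x y, x ≠ 2 → κ (c, x, y) = 0 := by
    intro c x y hx
    have h1 := hz (c + 1)
    rw [hv', map_sum] at h1
    have h3 := congrArg (fun w => B.repr w (c, x + 1, y)) h1
    simp only [map_sum, map_smul, map_zero, Finsupp.coe_zero, Pi.zero_apply] at h3
    rw [Finsupp.finsetSum_apply, Finset.sum_eq_single (c, x, y)] at h3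
    · rw [hB, evE1 ι hK D T, map_smul, ← hB, Module.Basis.repr_self] at h3
      simp only [Finsupp.smul_apply, Finsupp.single_eq_same, smul_eq_mul, mul_one] at h3
      refine (mul_eq_zero.1 h3).resolve_right ?_
      have key : ∀ x : Fin 3, x ≠ 2 → x = 0 ∨ x = 1 := by decide
      rcases key x hx with rfl | rfl
      · exact h2
      · exact one_ne_zero
    · rintro ⟨c', x', y'⟩ - hne
      rw [hB]
      have h6 : ∀ d c : Fin 3, d = c ∨ d = c + 1 ∨ d = c + 2 := by decide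
      rcases h6 (c + 1) c' with h7 | h7 | h7
      · rw [h7, evE0 ι hK D T, map_zero, smul_zero]
        rfl
      · rw [h7, evE1 ι hK D T, map_smul, ← hB, Module.Basis.repr_self]
        simp only [Finsupp.smul_apply, smul_eq_mul]
        rw [Finsupp.single_eq_of_ne]
        · ring
        · intro h8
          apply hne
          rw [Prod.mk.injEq, Prod.mk.injEq] at h8
          obtain ⟨h8, h9, h10⟩ := h8
          rw [← h8, add_right_cancel h9, ← h10]
      · rw [h7, evE2 ι hK D T, map_smul, ← hB, Module.Basis.repr_self]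
        simp only [Finsupp.smul_apply, smul_eq_mul]
        rw [Finsupp.single_eq_of_ne]
        · ring
        · intro h8
          rw [Prod.mk.injEq] at h8
          rw [← h8.1] at h7
          exact ne21 c h7.symm
    · intro h
      exact absurd (Finset.mem_univ _) h
  -- second digit
  have k2 : ∀ c x y, y ≠ 2 → κ (c, x, y) = 0 := by
    intro c x y hy
    have h1 := hz (c + 2)
    rw [hv', map_sum] at h1
    have h3 := congrArg (fun w => B.repr w (c, x, y + 1)) h1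
    simp only [map_sum, map_smul, map_zero, Finsupp.coe_zero, Pi.zero_apply] at h3
    rw [Finsupp.finsetSum_apply, Finset.sum_eq_single (c, x, y)] at h3
    · rw [hB, evE2 ι hK D T, map_smul, ← hB, Module.Basis.repr_self] at h3
      simp only [Finsupp.smul_apply, Finsupp.single_eq_same, smul_eq_mul, mul_one] at h3
      refine (mul_eq_zero.1 h3).resolve_right ?_
      have key : ∀ x : Fin 3, x ≠ 2 → x = 0 ∨ x = 1 := by decide
      rcases key y hy with rfl | rfl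
      · exact h2
      · exact one_ne_zero
    · rintro ⟨c', x', y'⟩ - hne
      rw [hB]
      have h6 : ∀ d c : Fin 3, d = c ∨ d = c + 1 ∨ d = c + 2 := by decide
      rcases h6 (c + 2) c' with h7 | h7 | h7
      · rw [h7, evE0 ι hK D T, map_zero, smul_zero]
        rfl
      · rw [h7, evE1 ι hK D T, map_smul, ← hB, Module.Basis.repr_self]
        simp only [Finsupp.smul_apply, smul_eq_mul]
        rw [Finsupp.single_eq_of_ne]
        · ring
        · intro h8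
          rw [Prod.mk.injEq] at h8
          rw [← h8.1] at h7
          exact ne21 c h7
      · rw [h7, evE2 ι hK D T, map_smul, ← hB, Module.Basis.repr_self]
        simp only [Finsupp.smul_apply, smul_eq_mul]
        rw [Finsupp.single_eq_of_ne]
        · ring
        · intro h8
          apply hne
          rw [Prod.mk.injEq, Prod.mk.injEq] at h8
          obtain ⟨h8, h9, h10⟩ := h8
          rw [← h8, ← h9, add_right_cancel h10]
    · intro h
      exact absurd (Finset.mem_univ _) h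
  refine ⟨fun c => κ (c, 2, 2), ?_⟩
  nth_rewrite 1 [hv']
  rw [Fintype.sum_prod_type]
  refine Finset.sum_congr rfl fun c _ => ?_
  rw [Finset.sum_eq_single (2, 2)]
  · rw [hB]
  · rintro ⟨x, y⟩ - hne
    by_cases hx : x = 2
    · by_cases hy : y = 2
      · exact absurd (by rw [hx, hy]) hne
      · rw [k2 c x y hy, zero_smul]
    · rw [k1 c x y hx, zero_smul]
  · intro h
    exact absurd (Finset.mem_univ _) h

/-- generation by the highest weight vectors -/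
theorem gen {φ : ∀ c : Fin 3, Vb ι (bw p i c) →ₗ[k] V} (T : TT ι p i ρ φ) {N : Submodule k V} (hN : ∀ g, ∀ v ∈ N, ρ g v ∈ N)
    {c : Fin 3} (h : evc ι p i φ c 2 2 ∈ N) (x y : Fin 3) : evc ι p i φ c x y ∈ N := by
  have h5 := D.three
  have h2 : (-2 : k) ≠ 0 := by
    intro h
    have h1 : (2 : k) = 0 := neg_eq_zero.1 h
    have : ((2 : ℕ) : k) = 0 := by exact_mod_cast h1
    rw [CharP.cast_eq_zero_iff k p] at this
    have := Nat.le_of_dvd (by norm_num) this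
    omega
  have O := ops ι hK D T
  have hF : ∀ n v, v ∈ N → ρ w⁻¹ (Dm ι ρ n (ρ w v)) ∈ N := fun n v hv => hN _ _ (Dm_mem_inv ι ρ hN n (hN _ _ hv))
  have f1 : ∀ x y, evc ι p i φ c x y ∈ N → cF k x ≠ 0 → evc ι p i φ c (x - 1) y ∈ N := by
    intro x y h h0
    have h1 := O.F1 c x y
    have h3 := hF (p ^ i (c + 1)) _ h
    have h4 : cF k x • evc ι p i φ c (x - 1) y ∈ N := by
      rw [← h1]
      exact h3
    have h6 := N.smul_mem (cF k x)⁻¹ h4
    rwa [smul_smul, inv_mul_cancel₀ h0, one_smul] at h6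
  have f2 : ∀ x y, evc ι p i φ c x y ∈ N → cF k y ≠ 0 → evc ι p i φ c x (y - 1) ∈ N := by
    intro x y h h0
    have h1 := O.F2 c x y
    have h3 := hF (p ^ i (c + 2)) _ h
    have h4 : cF k y • evc ι p i φ c x (y - 1) ∈ N := by
      rw [← h1]
      exact h3
    have h6 := N.smul_mem (cF k y)⁻¹ h4
    rwa [smul_smul, inv_mul_cancel₀ h0, one_smul] at h6
  have n2 : cF k 2 ≠ 0 := h2
  have n1 : cF k 1 ≠ 0 := neg_ne_zero.2 one_ne_zero
  have a1 : evc ι p i φ c 1 2 ∈ N := f1 2 2 h n2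
  have a0 : evc ι p i φ c 0 2 ∈ N := f1 1 2 a1 n1
  have ax : ∀ x, evc ι p i φ c x 2 ∈ N := by
    intro x
    fin_cases x
    · exact a0
    · exact a1
    · exact h
  have b1 : evc ι p i φ c x 1 ∈ N := f2 x 2 (ax x) n2
  have b0 : evc ι p i φ c x 0 ∈ N := f2 x 1 b1 n1
  have key : ∀ y : Fin 3, y = 0 ∨ y = 1 ∨ y = 2 := by decide
  rcases key y with rfl | rfl | rfl
  · exact b0
  · exact b1
  · exact ax x

end Cfsg.Agent.R2.H14.T
end

-- part: R2/H14/T/RatB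
section
/-!
# T-type: semilinear maps, part 2 (helper14)

`exists_perm` : an equivariant injective semilinear map (`c ↦ c ^ (p ^ n)`) between two modules of type `TT` maps
`e₁ c x y` to a multiple of `e₂ (π c) x y`.
-/

set_option autoImplicit false
set_option linter.unusedSectionVars false

namespace Cfsg.Agent.R2.H14.T

open Matrix Cfsg.Agent.H943.SL2Rel Cfsg.Agent.H943.SL2Mod Cfsg.Agent.H943.RepAdd Cfsg.Agent.R2.H28.SL2

variable {k : Type*} [Field k] [DecidableEq k] {K : Type*} [Field K] [Fintype K] [DecidableEq K] (ι : K →+* k)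
variable {p : ℕ} [Fact p.Prime] [CharP k p] [CharP K p] {i : Fin 3 → ℕ}
variable {V₁ : Type*} [AddCommGroup V₁] [Module k V₁] {ρ₁ : Representation k (_root_.Matrix.SpecialLinearGroup (Fin 2) K) V₁}
variable {V₂ : Type*} [AddCommGroup V₂] [Module k V₂] {ρ₂ : Representation k (_root_.Matrix.SpecialLinearGroup (Fin 2) K) V₂}
variable {a : ℕ} (hK : Fintype.card K = p ^ a) (D : Dg3 p a i)

include hK D

/-- comparison of the weights of the components -/
theorem comp_wt {φ₂ : ∀ c : Fin 3, Vb ι (bw p i c) →ₗ[k] V₂} (T₂ : TT ι p i ρ₂ φ₂) {v : V₂} {m : ℤ}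
    (hv : ∀ t : Kˣ, ρ₂ (h t) v = (ι (t : K) ^ m) • v) {B : Module.Basis (Fin 3 × Fin 3 × Fin 3) k V₂}
    (hB : ∀ c x y, B (c, x, y) = evc ι p i φ₂ c x y) (z : Fin 3 × Fin 3 × Fin 3) (hz : B.repr v z ≠ 0) :
    ((Fintype.card K - 1 : ℕ) : ℤ) ∣ m - W p i z.1 z.2.1 z.2.2 := by
  refine dvd_of_zpow ι fun t => ?_
  have h1 := congrArg (fun w => B.repr w z) (hv t)
  simp only [map_smul, Finsupp.smul_apply, smul_eq_mul] at h1
  have h2 : B.repr (ρ₂ (h t) v) z = ι (t : K) ^ W p i z.1 z.2.1 z.2.2 * B.repr v z := by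
    nth_rewrite 1 [← B.sum_repr v]
    rw [map_sum, map_sum, Finsupp.finsetSum_apply, Finset.sum_eq_single z]
    · rw [map_smul, map_smul, show B z = evc ι p i φ₂ z.1 z.2.1 z.2.2 from hB _ _ _, ev_h ι hK D T₂, map_smul,
        ← hB, Module.Basis.repr_self]
      simp only [Finsupp.smul_apply, Finsupp.single_eq_same, smul_eq_mul, mul_one]
      ring
    · intro z' _ hne
      rw [map_smul, map_smul, show B z' = evc ι p i φ₂ z'.1 z'.2.1 z'.2.2 from hB _ _ _, ev_h ι hK D T₂, map_smul,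
        ← hB, Module.Basis.repr_self]
      simp only [Finsupp.smul_apply, smul_eq_mul]
      rw [Finsupp.single_eq_of_ne (Ne.symm hne)]
      ring
    · intro hh
      exact absurd (Finset.mem_univ _) hh
  rw [h2] at h1
  exact (mul_right_cancel₀ hz h1).symm

/-- **semilinear maps** -/
theorem exists_perm {φ₁ : ∀ c : Fin 3, Vb ι (bw p i c) →ₗ[k] V₁} (T₁ : TT ι p i ρ₁ φ₁)
    {φ₂ : ∀ c : Fin 3, Vb ι (bw p i c) →ₗ[k] V₂} (T₂ : TT ι p i ρ₂ φ₂) {n : ℕ} {θ : k →+* k}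
    (hθ : ∀ t, θ t = t ^ (p ^ n)) (J : V₁ →ₛₗ[θ] V₂) (hJ : ∀ x, J x = 0 → x = 0) (hJρ : ∀ g x, J (ρ₁ g x) = ρ₂ g (J x)) :
    ∃ π : Fin 3 → Fin 3, ∀ c x y, ∃ κ : k, J (evc ι p i φ₁ c x y) = κ • evc ι p i φ₂ (π c) x y := by
  obtain ⟨B, hB⟩ := T₂.bas
  obtain ⟨B₁, hB₁⟩ := T₁.bas
  -- the weights
  have hw : ∀ c x y (t : Kˣ), ρ₂ (h t) (J (evc ι p i φ₁ c x y)) =
      (ι (t : K) ^ ((p : ℤ) ^ n * W p i c x y)) • J (evc ι p i φ₁ c x y) := by
    intro c x y t
    rw [← hJρ, ev_h ι hK D T₁, LinearMap.map_smulₛₗ, hθ, ← zpow_natCast, ← _root_.zpow_mul]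
    congr 2
    push_cast
    ring
  -- the highest weight vectors
  have h1 : ∀ c, ∃ d, ∃ κ : k, J (evc ι p i φ₁ c 2 2) = κ • evc ι p i φ₂ d 2 2 ∧
      ((Fintype.card K - 1 : ℕ) : ℤ) ∣ (p : ℤ) ^ n * W p i c 2 2 - W p i d 2 2 := by
    intro c
    have hu : ∀ t, ρ₂ (u t) (J (evc ι p i φ₁ c 2 2)) = J (evc ι p i φ₁ c 2 2) := by
      intro t
      rw [← hJρ]
      congr 1
      rw [u_eq ι ρ₁ p t, Finset.sum_eq_zero, add_zero]
      intro m hm
      rw [Finset.mem_Icc] at hm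
      rw [Dm_mv ι hK D T₁ hm.1 hm.2 0, map_zero, smul_zero]
      rw [sub_mw]
      have e : mw p i c (2 - 2) (2 - 2) = 0 := by
        unfold mw
        rw [show (2 - 2 : Fin 3) = 0 from rfl]
        simp
      rw [e, Nat.choose_eq_zero_of_lt (by omega), Nat.cast_zero, zero_smul]
      rfl
    obtain ⟨κ, hκ⟩ := ufix ι hK D T₂ hu
    have h2 : ∀ d, B.repr (J (evc ι p i φ₁ c 2 2)) (d, 2, 2) = κ d := by
      intro d
      rw [hκ, map_sum, Finsupp.finsetSum_apply, Finset.sum_eq_single d]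
      · rw [map_smul, ← hB, Module.Basis.repr_self]
        simp
      · intro d' _ hne
        rw [map_smul, ← hB, Module.Basis.repr_self]
        simp only [Finsupp.smul_apply, smul_eq_mul]
        rw [Finsupp.single_eq_of_ne, mul_zero]
        intro h3
        rw [Prod.mk.injEq] at h3
        exact hne h3.1.symm
      · intro hh
        exact absurd (Finset.mem_univ _) hh
    have h3 : ∀ d, κ d ≠ 0 → ((Fintype.card K - 1 : ℕ) : ℤ) ∣ (p : ℤ) ^ n * W p i c 2 2 - W p i d 2 2 := by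
      intro d hd
      exact comp_wt ι hK D T₂ (hw c 2 2) hB (d, 2, 2) (by rw [h2]; exact hd)
    obtain ⟨d, hd⟩ : ∃ d, κ d ≠ 0 := by
      by_contra hc
      push Not at hc
      have h4 : J (evc ι p i φ₁ c 2 2) = 0 := by
        rw [hκ]
        exact Finset.sum_eq_zero fun d _ => by rw [hc d, zero_smul]
      have h5 := hJ _ h4
      rw [← hB₁] at h5
      exact B₁.ne_zero _ h5
    refine ⟨d, κ d, ?_, h3 d hd⟩
    rw [hκ, Finset.sum_eq_single d]
    · intro d' _ hne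
      by_cases h0 : κ d' = 0
      · rw [h0, zero_smul]
      · exfalso
        apply hne
        apply D.W_top
        rw [← hK]
        have h6 := dvd_sub (h3 d hd) (h3 d' h0)
        rwa [sub_sub_sub_cancel_left] at h6
    · intro hh
      exact absurd (Finset.mem_univ _) hh
  choose π κ hπ hπW using h1
  refine ⟨π, fun c x y => ?_⟩
  have hW := D.perm (n := n) (π := π) (by rw [← hK]; exact hπW) c x y
  rw [← hK] at hW
  -- the submodule
  obtain ⟨N, hN⟩ : ∃ N : Submodule k V₁, ∀ v, v ∈ N ↔ J v ∈ LinearMap.range (φ₂ (π c)) :=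
    ⟨(LinearMap.range (φ₂ (π c))).comap J, fun v => Iff.rfl⟩
  have h2 : evc ι p i φ₁ c x y ∈ N := by
    refine gen ι hK D T₁ (fun g v hv => ?_) ?_ x y
    · rw [hN] at hv ⊢
      rw [hJρ]
      exact range_inv ι hK D T₂ _ _ hv
    · rw [hN, hπ]
      exact Submodule.smul_mem _ _ (evc_mem ι hK D φ₂ _ _ _)
  rw [hN] at h2
  obtain ⟨κ', hκ'⟩ := range_eq ι hK D φ₂ h2
  have h3 : ∀ z : Fin 3 × Fin 3, B.repr (J (evc ι p i φ₁ c x y)) (π c, z.1, z.2) = κ' z := by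
    intro z
    rw [hκ', map_sum, Finsupp.finsetSum_apply, Finset.sum_eq_single z]
    · rw [map_smul, ← hB, Module.Basis.repr_self]
      simp
    · intro z' _ hne
      rw [map_smul, ← hB, Module.Basis.repr_self]
      simp only [Finsupp.smul_apply, smul_eq_mul]
      rw [Finsupp.single_eq_of_ne, mul_zero]
      intro h3
      rw [Prod.mk.injEq, Prod.mk.injEq] at h3
      exact hne (Prod.ext h3.2.1.symm h3.2.2.symm)
    · intro hh
      exact absurd (Finset.mem_univ _) hh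
  refine ⟨κ' (x, y), ?_⟩
  nth_rewrite 1 [hκ']
  rw [Finset.sum_eq_single (x, y)]
  · intro z _ hne
    by_cases h0 : κ' z = 0
    · rw [h0, zero_smul]
    · exfalso
      apply hne
      have h4 := comp_wt ι hK D T₂ (hw c x y) hB (π c, z.1, z.2) (by rw [h3]; exact h0)
      have h5 := dvd_sub h4 hW
      rw [sub_sub_sub_cancel_left, hK] at h5
      obtain ⟨h6, h7⟩ := D.W_inj h5
      exact Prod.ext h6.symm h7.symm
  · intro hh
    exact absurd (Finset.mem_univ _) hh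

end Cfsg.Agent.R2.H14.T
end

-- part: R2/H14/T/Fin
section
/-!
# T-type: the final contradiction (helper14)

`fin_model` : if an element `s` of `SL(2, q)` acts on `e 0 0 2, e 0 1 2, e 0 2 2` like a conjugate of `u 1` by a diagonal
element, then `τ 1 / τ 0 = τ 2 / τ 1`.
-/

set_option autoImplicit false
set_option linter.unusedSectionVars false

namespace Cfsg.Agent.R2.H14.T

open Matrix Cfsg.Agent.H943.SL2Rel Cfsg.Agent.H943.SL2Mod Cfsg.Agent.H943.RepAdd Cfsg.Agent.R2.H28.SL2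

variable {k : Type*} [Field k] [DecidableEq k] {K : Type*} [Field K] [Fintype K] [DecidableEq K] (ι : K →+* k)
variable {p : ℕ} [Fact p.Prime] [CharP k p] [CharP K p] {i : Fin 3 → ℕ}
variable {V : Type*} [AddCommGroup V] [Module k V] {ρ : Representation k (_root_.Matrix.SpecialLinearGroup (Fin 2) K) V}
variable {a : ℕ} (hK : Fintype.card K = p ^ a) (D : Dg3 p a i)

include hK D

/-- `φ` is injective -/
theorem TT.inj {φ : ∀ c : Fin 3, Vb ι (bw p i c) →ₗ[k] V} (T : TT ι p i ρ φ) (c : Fin 3) : Function.Injective (φ c) := by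
  obtain ⟨B, hB⟩ := T.bas
  rw [← LinearMap.ker_eq_bot, LinearMap.ker_eq_bot']
  intro f hf
  obtain ⟨κ, hκ⟩ := exists_sum ι hK D c f
  rw [hκ, map_sum] at hf
  have h1 : ∀ z : Fin 3 × Fin 3, κ z = 0 := by
    intro z
    have h2 := congrArg (fun w => B.repr w (c, z.1, z.2)) hf
    simp only [map_sum, map_zero, Finsupp.coe_zero, Pi.zero_apply] at h2
    rw [Finsupp.finsetSum_apply, Finset.sum_eq_single z] at h2
    · rw [map_smul, map_smul, show φ c (mv ι p i c z.1 z.2) = B (c, z.1, z.2) from (hB _ _ _).symm,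
        Module.Basis.repr_self] at h2
      simpa using h2
    · intro z' _ hne
      rw [map_smul, map_smul, show φ c (mv ι p i c z'.1 z'.2) = B (c, z'.1, z'.2) from (hB _ _ _).symm,
        Module.Basis.repr_self]
      simp only [Finsupp.smul_apply, smul_eq_mul]
      rw [Finsupp.single_eq_of_ne, mul_zero]
      intro h3
      rw [Prod.mk.injEq, Prod.mk.injEq] at h3
      exact hne (Prod.ext h3.2.1.symm h3.2.2.symm)
    · intro hh
      exact absurd (Finset.mem_univ _) hh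
  rw [hκ]
  exact Finset.sum_eq_zero fun z _ => by rw [h1, zero_smul]

/-- the three monomials -/
theorem mon3 (x : Fin 3) (s t : K) : (mv ι p i 0 x 2 : K × K → k) (s, t) =
    ι s ^ (bw p i 0 - (2 - (x : ℕ)) * p ^ i 1) * ι t ^ ((2 - (x : ℕ)) * p ^ i 1) := by
  rw [coe_mv ι hK D]
  show ι s ^ mw p i 0 x 2 * ι t ^ (bw p i 0 - mw p i 0 x 2) = _
  have h1 : bw p i 0 - mw p i 0 x 2 = (2 - (x : ℕ)) * p ^ i 1 := by
    rw [sub_mw]
    have key : ∀ x : Fin 3, ((2 - x : Fin 3) : ℕ) = 2 - (x : ℕ) := by decide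
    unfold mw
    rw [key, show (2 - 2 : Fin 3) = 0 from rfl]
    simp
  have h2 := D.mw_le 0 x 2
  have h3 : mw p i 0 x 2 = bw p i 0 - (2 - (x : ℕ)) * p ^ i 1 := by omega
  rw [h1, h3]

/-- the action of `u 1` -/
theorem u_one {φ : ∀ c : Fin 3, Vb ι (bw p i c) →ₗ[k] V} (T : TT ι p i ρ φ) :
    ρ (u 1) (evc ι p i φ 0 2 2) = evc ι p i φ 0 2 2 ∧
    ρ (u 1) (evc ι p i φ 0 1 2) = evc ι p i φ 0 1 2 + evc ι p i φ 0 2 2 ∧
    ρ (u 1) (evc ι p i φ 0 0 2) = evc ι p i φ 0 0 2 + (2 : k) • evc ι p i φ 0 1 2 + evc ι p i φ 0 2 2 := by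
  have hP : 2 * p ^ i 1 ≤ bw p i 0 := Nat.le_add_right _ _
  have v0 : ((0 : Fin 3) : ℕ) = 0 := rfl
  have v1 : ((1 : Fin 3) : ℕ) = 1 := rfl
  have v2 : ((2 : Fin 3) : ℕ) = 2 := rfl
  have hadd : ∀ s t : k, (s + t) ^ (p ^ i 1) = s ^ (p ^ i 1) + t ^ (p ^ i 1) := fun s t => add_pow_char_pow s t p _
  refine ⟨?_, ?_, ?_⟩
  · refine (T.eqv 0 (u 1) (mv ι p i 0 2 2) (mv ι p i 0 2 2) ?_).symm
    funext z
    obtain ⟨s, t⟩ := z
    rw [fRep_u, mon3 ι hK D, mon3 ι hK D, v2]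
    simp
  · have h1 := T.eqv 0 (u 1) (mv ι p i 0 1 2) (mv ι p i 0 1 2 + mv ι p i 0 2 2) (by
      funext z
      obtain ⟨s, t⟩ := z
      rw [fRep_u, mon3 ι hK D, Submodule.coe_add, Pi.add_apply, mon3 ι hK D, mon3 ι hK D, v1, v2,
        show 2 - 1 = 1 from rfl, show 2 - 2 = 0 from rfl, one_mul, zero_mul, pow_zero, Nat.sub_zero, mul_one, map_add,
        mul_one, hadd]
      have e : ι s ^ bw p i 0 = ι s ^ (bw p i 0 - p ^ i 1) * ι s ^ p ^ i 1 := by
        rw [← pow_add]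
        congr 1
        omega
      rw [e]
      ring)
    rw [map_add] at h1
    exact h1.symm
  · have h1 := T.eqv 0 (u 1) (mv ι p i 0 0 2) (mv ι p i 0 0 2 + (2 : k) • mv ι p i 0 1 2 + mv ι p i 0 2 2) (by
      funext z
      obtain ⟨s, t⟩ := z
      rw [fRep_u, mon3 ι hK D, Submodule.coe_add, Pi.add_apply, Submodule.coe_add, Pi.add_apply, Submodule.coe_smul,
        Pi.smul_apply, mon3 ι hK D, mon3 ι hK D, mon3 ι hK D, v0, v1, v2,
        show 2 - 1 = 1 from rfl, show 2 - 2 = 0 from rfl, one_mul, zero_mul, pow_zero, Nat.sub_zero, mul_one, map_add,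
        mul_one, Nat.sub_zero, mul_comm 2 (p ^ i 1), pow_mul, pow_mul, hadd, smul_eq_mul]
      have e1 : ι s ^ bw p i 0 = ι s ^ (bw p i 0 - p ^ i 1 * 2) * (ι s ^ p ^ i 1) ^ 2 := by
        rw [← pow_mul, ← pow_add]
        congr 1
        omega
      have e2 : ι s ^ (bw p i 0 - p ^ i 1) = ι s ^ (bw p i 0 - p ^ i 1 * 2) * ι s ^ p ^ i 1 := by
        rw [← pow_add]
        congr 1
        omega
      rw [e1, e2]
      ring)
    rw [map_add, map_add, map_smul] at h1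
    exact h1.symm

/-- **the elements of `SL(2, q)`** -/
theorem fin_model {φ : ∀ c : Fin 3, Vb ι (bw p i c) →ₗ[k] V} (T : TT ι p i ρ φ) {s : _root_.Matrix.SpecialLinearGroup (Fin 2) K}
    {r r' r'' : k} (h2 : ρ s (evc ι p i φ 0 2 2) = evc ι p i φ 0 2 2)
    (h1 : ρ s (evc ι p i φ 0 1 2) = evc ι p i φ 0 1 2 + r • evc ι p i φ 0 2 2)
    (h0 : ρ s (evc ι p i φ 0 0 2) = evc ι p i φ 0 0 2 + (2 * r') • evc ι p i φ 0 1 2 + r'' • evc ι p i φ 0 2 2) :
    r = r' := by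
  have h3 := D.three
  have hP : 2 * p ^ i 1 ≤ bw p i 0 := Nat.le_add_right _ _
  have hP1 : 1 ≤ p ^ i 1 := Nat.one_le_pow _ _ (by omega)
  have v0 : ((0 : Fin 3) : ℕ) = 0 := rfl
  have v1 : ((1 : Fin 3) : ℕ) = 1 := rfl
  have v2 : ((2 : Fin 3) : ℕ) = 2 := rfl
  have hp2 : (2 : k) ≠ 0 := by
    intro h
    have : ((2 : ℕ) : k) = 0 := by exact_mod_cast h
    rw [CharP.cast_eq_zero_iff k p] at this
    have := Nat.le_of_dvd (by norm_num) this
    omega
  have hadd : ∀ s t : k, (s + t) ^ (p ^ i 1) = s ^ (p ^ i 1) + t ^ (p ^ i 1) := fun s t => add_pow_char_pow s t p _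
  have hb : bw p i 0 ≤ Fintype.card K - 1 := by rw [hK]; exact (D.bw_lt 0).le
  -- functions
  have hfun : ∀ f f' : Vb ι (bw p i 0), ρ s (φ 0 f) = φ 0 f' → (f' : K × K → k) = fRep k K s f := by
    intro f f' h
    have h4 := T.eqv 0 s f (RB ι p hb s f) rfl
    rw [h] at h4
    have h5 := TT.inj ι hK D T 0 h4
    rw [← h5]
    rfl
  have f2 := hfun (mv ι p i 0 2 2) (mv ι p i 0 2 2) h2
  have f1 := hfun (mv ι p i 0 1 2) (mv ι p i 0 1 2 + r • mv ι p i 0 2 2) (by rw [map_add, map_smul]; exact h1)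
  have f0 := hfun (mv ι p i 0 0 2) (mv ι p i 0 0 2 + (2 * r') • mv ι p i 0 1 2 + r'' • mv ι p i 0 2 2) (by
    rw [map_add, map_add, map_smul, map_smul]; exact h0)
  obtain ⟨α, hα⟩ : ∃ α, α = s.1 0 0 := ⟨_, rfl⟩
  obtain ⟨β, hβ⟩ : ∃ β, β = s.1 0 1 := ⟨_, rfl⟩
  obtain ⟨γ, hγ⟩ : ∃ γ, γ = s.1 1 0 := ⟨_, rfl⟩
  obtain ⟨δ, hδ⟩ : ∃ δ, δ = s.1 1 1 := ⟨_, rfl⟩
  have hdet : α * δ - β * γ = 1 := by
    rw [hα, hβ, hγ, hδ, ← Matrix.det_fin_two]
    exact s.2
  have hf : ∀ (f : K × K → k) (x y : K), fRep k K s f (x, y) = f (x * α + y * γ, x * β + y * δ) := by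
    intro f x y
    rw [hα, hβ, hγ, hδ]
    rfl
  -- `γ = 0`, `α ^ b = 1`
  have g1 := congrFun f2 (0, 1)
  rw [hf, mon3 ι hK D, mon3 ι hK D, v2, show 2 - 2 = 0 from rfl, zero_mul, Nat.sub_zero, pow_zero, mul_one, pow_zero,
    mul_one, map_zero, zero_pow (by omega), zero_mul, zero_add, one_mul] at g1
  have hγ0 : ι γ = 0 := (pow_eq_zero_iff (n := bw p i 0) (by omega)).1 g1.symm
  have hγ1 : γ = 0 := by
    apply ι.injective
    rw [hγ0, map_zero]
  rw [hγ1, mul_zero, sub_zero] at hdet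
  have g2 := congrFun f2 (1, 0)
  rw [hf, mon3 ι hK D, mon3 ι hK D, v2, show 2 - 2 = 0 from rfl, zero_mul, Nat.sub_zero, pow_zero, mul_one, pow_zero,
    mul_one, map_one, one_pow, one_mul, zero_mul, add_zero] at g2
  -- `e1`
  have k1 : ∀ y : K, ι y ^ p ^ i 1 + r = ι α ^ (bw p i 0 - p ^ i 1) * (ι β ^ p ^ i 1 + ι y ^ p ^ i 1 * ι δ ^ p ^ i 1) := by
    intro y
    have g := congrFun f1 (1, y)
    rw [hf, Submodule.coe_add, Pi.add_apply, Submodule.coe_smul, Pi.smul_apply, mon3 ι hK D, mon3 ι hK D, mon3 ι hK D,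
      v1, v2, show 2 - 1 = 1 from rfl, show 2 - 2 = 0 from rfl, zero_mul, Nat.sub_zero, pow_zero, mul_one, map_one,
      one_pow, one_pow, one_mul, one_mul, one_mul, one_mul, hγ1, mul_zero, add_zero, map_add, map_mul, hadd, mul_pow,
      smul_eq_mul, mul_one] at g
    exact g
  have k0 : ∀ y : K, (ι y ^ p ^ i 1) ^ 2 + 2 * r' * ι y ^ p ^ i 1 + r'' =
      ι α ^ (bw p i 0 - 2 * p ^ i 1) * (ι β ^ p ^ i 1 + ι y ^ p ^ i 1 * ι δ ^ p ^ i 1) ^ 2 := by
    intro y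
    have g := congrFun f0 (1, y)
    rw [hf, Submodule.coe_add, Pi.add_apply, Submodule.coe_add, Pi.add_apply, Submodule.coe_smul, Pi.smul_apply,
      Submodule.coe_smul, Pi.smul_apply, mon3 ι hK D, mon3 ι hK D, mon3 ι hK D, mon3 ι hK D, v0, v1, v2,
      show 2 - 1 = 1 from rfl, show 2 - 2 = 0 from rfl, Nat.sub_zero, zero_mul, Nat.sub_zero, pow_zero, mul_one,
      map_one, one_pow, one_pow, one_pow, one_mul, one_mul, one_mul, one_mul, hγ1, mul_zero, add_zero, map_add,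
      map_mul, smul_eq_mul, smul_eq_mul, mul_one] at g
    have e1 : ι y ^ (2 * p ^ i 1) = (ι y ^ p ^ i 1) ^ 2 := by rw [mul_comm 2 (p ^ i 1), pow_mul]
    have e2 : (ι β + ι y * ι δ) ^ (2 * p ^ i 1) = (ι β ^ p ^ i 1 + ι y ^ p ^ i 1 * ι δ ^ p ^ i 1) ^ 2 := by
      rw [mul_comm 2 (p ^ i 1), pow_mul, hadd, mul_pow]
    rw [map_mul, map_one, one_mul, e1, e2] at g
    exact g
  -- the values
  obtain ⟨A, hA⟩ : ∃ A, A = ι α ^ p ^ i 1 := ⟨_, rfl⟩
  obtain ⟨B', hB'⟩ : ∃ A, A = ι β ^ p ^ i 1 := ⟨_, rfl⟩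
  obtain ⟨E, hE⟩ : ∃ A, A = ι δ ^ p ^ i 1 := ⟨_, rfl⟩
  obtain ⟨X, hX⟩ : ∃ A, A = ι α ^ (bw p i 0 - 2 * p ^ i 1) := ⟨_, rfl⟩
  have hAE : A * E = 1 := by
    rw [hA, hE, ← mul_pow, ← map_mul, hdet, map_one, one_pow]
  have hX1 : ι α ^ (bw p i 0 - p ^ i 1) = X * A := by
    rw [hX, hA, ← pow_add]
    congr 1
    omega
  have hX2 : ι α ^ bw p i 0 = X * A * A := by
    rw [hX, hA, mul_assoc, ← pow_add, ← pow_add]
    congr 1
    omega
  have k10 := k1 0
  have k11 := k1 1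
  have k0p := k0 1
  have k0m := k0 (-1)
  have hodd : (-1 : k) ^ p ^ i 1 = -1 := by
    have hp : p.Prime := Fact.out
    exact ((hp.odd_of_ne_two (by omega)).pow).neg_one_pow
  rw [map_zero, zero_pow (by omega), zero_mul, zero_add, add_zero, hX1, ← hB'] at k10
  rw [map_one, one_pow, one_mul, hX1, ← hB', ← hE] at k11
  rw [map_one, one_pow, one_pow, one_mul, ← hX, ← hB', ← hE] at k0p
  rw [map_neg, map_one, hodd, ← hX, ← hB', ← hE] at k0m
  rw [hX2] at g2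
  -- `X A E = 1`, so `X = 1` and `A ^ 2 = 1`
  have m1 : X = 1 := by linear_combination k10 - k11 - X * hAE
  have m2 : A * A = 1 := by rw [m1, one_mul] at g2; exact g2.symm
  have m3 : (4 : k) * (r' - B' * E) = 0 := by
    rw [m1] at k0p k0m
    linear_combination k0p - k0m
  have h4 : (4 : k) ≠ 0 := by
    have : (4 : k) = 2 * 2 := by norm_num
    rw [this]
    exact mul_ne_zero hp2 hp2
  have m4 := (mul_eq_zero.1 m3).resolve_left h4
  rw [m1] at k10
  linear_combination k10 - m4 + (B' * E) * m2 - (A * B') * hAE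
  
end Cfsg.Agent.R2.H14.T
end

-- part: R2/H14/T/Dual
section
/-!
# T-type: the dual module (helper14)

`exists_dual` : the dual module of a module of type `TT` is of type `TT`, with the dual basis up to scalars.
-/

set_option autoImplicit false
set_option linter.unusedSectionVars false

namespace Cfsg.Agent.R2.H14.T

open Matrix Cfsg.Agent.H943.SL2Rel Cfsg.Agent.H943.SL2Mod Cfsg.Agent.H943.RepAdd Cfsg.Agent.R2.H28.SL2

universe u v w

theorem wt_sub : ∀ x : Fin 3, wt (2 - x) = - wt x := by decide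

theorem W_neg (p : ℕ) (i : Fin 3 → ℕ) (c x y : Fin 3) : W p i c (2 - x) (2 - y) = - W p i c x y := by
  unfold W
  rw [wt_sub, wt_sub]
  ring

variable {k : Type u} [Field k] [DecidableEq k] {K : Type w} [Field K] [Fintype K] [DecidableEq K] (ι : K →+* k)
variable {p : ℕ} [Fact p.Prime] [CharP k p] [CharP K p] {i : Fin 3 → ℕ}
variable {V : Type v} [AddCommGroup V] [Module k V] {ρ : Representation k (_root_.Matrix.SpecialLinearGroup (Fin 2) K) V}
variable {a : ℕ} (hK : Fintype.card K = p ^ a) (D : Dg3 p a i)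

include hK D

/-- the components of the vectors of `range (φ d)` -/
theorem rng0 {φ : ∀ c : Fin 3, Vb ι (bw p i c) →ₗ[k] V} {B : Module.Basis (Fin 3 × Fin 3 × Fin 3) k V}
    (hB : ∀ c x y, B (c, x, y) = evc ι p i φ c x y) {v : V} {d : Fin 3} (hv : v ∈ LinearMap.range (φ d)) {c : Fin 3}
    (hcd : d ≠ c) (x y : Fin 3) : B.repr v (c, x, y) = 0 := by
  obtain ⟨κ, hκ⟩ := range_eq ι hK D φ hv
  rw [hκ, map_sum, Finsupp.finsetSum_apply, Finset.sum_eq_zero]
  intro z _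
  rw [map_smul, ← hB, Module.Basis.repr_self]
  simp only [Finsupp.smul_apply, smul_eq_mul]
  rw [Finsupp.single_eq_of_ne, mul_zero]
  intro h3
  rw [Prod.mk.injEq] at h3
  exact hcd h3.1.symm

/-- the components are isomorphic to `V_b` -/
theorem TT.isV {φ : ∀ c : Fin 3, Vb ι (bw p i c) →ₗ[k] V} (T : TT ι p i ρ φ) (c : Fin 3) :
    IsV ι p (subRep ρ (LinearMap.range (φ c)) fun g _ hv => range_inv ι hK D T c g hv) (bw p i c) := by
  have hb : bw p i c ≤ Fintype.card K - 1 := by rw [hK]; exact (D.bw_lt c).le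
  refine ⟨hb, LinearEquiv.ofInjective (φ c) (T.inj ι hK D c), fun g x => ?_⟩
  apply Subtype.ext
  show φ c (RB ι p hb g x) = ρ g (φ c x)
  exact T.eqv c g x _ rfl

variable [IsAlgClosed k] {V' : Type v} [AddCommGroup V'] [Module k V']
  {ρ' : Representation k (_root_.Matrix.SpecialLinearGroup (Fin 2) K) V'} {P : V →ₗ[k] V' →ₗ[k] k}

/-- **the dual module** -/
theorem exists_dual [FiniteDimensional k V'] (Du : Dul ρ ρ' P)
    {φ : ∀ c : Fin 3, Vb ι (bw p i c) →ₗ[k] V} (T : TT ι p i ρ φ) :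
    ∃ φ' : ∀ c : Fin 3, Vb ι (bw p i c) →ₗ[k] V', TT ι p i ρ' φ' ∧
      ∀ c x y c' x' y', P (evc ι p i φ c x y) (evc ι p i φ' c' x' y') ≠ 0 → c' = c ∧ x' = 2 - x ∧ y' = 2 - y := by
  obtain ⟨B, hB⟩ := T.bas
  have hfin : FiniteDimensional k V := Module.Basis.finiteDimensional_of_finite B
  have hdim : Module.finrank k V' = 27 := by
    rw [← Du.finrank_eq, Module.finrank_eq_card_basis B]
    rfl
  obtain ⟨X, hXdef⟩ : ∃ X : Fin 3 → Submodule k V, X = fun c => LinearMap.range (φ c) := ⟨_, rfl⟩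
  have hX : ∀ c g, ∀ x ∈ X c, ρ g x ∈ X c := by
    intro c g x hx
    rw [hXdef] at hx ⊢
    exact range_inv ι hK D T c g hx
  have hXV : ∀ c, IsV ι p (subRep ρ (X c) (hX c)) (bw p i c) := by
    subst hXdef
    intro c
    exact T.isV ι hK D c
  have hW : ∀ c g, ∀ x ∈ X (c + 1) ⊔ X (c + 2), ρ g x ∈ X (c + 1) ⊔ X (c + 2) := by
    intro c g x hx
    obtain ⟨y, hy, z, hz, rfl⟩ := Submodule.mem_sup.1 hx
    rw [map_add]
    exact Submodule.add_mem_sup (hX _ g y hy) (hX _ g z hz)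
  have hbot : ∀ c x, x ∈ X c → x ∈ X (c + 1) ⊔ X (c + 2) → x = 0 := by
    intro c x hx hx'
    obtain ⟨y, hy, z, hz, hyz⟩ := Submodule.mem_sup.1 hx'
    rw [hXdef] at hx hy hz
    apply B.ext_elem
    rintro ⟨d, m, n⟩
    rw [map_zero, Finsupp.zero_apply]
    by_cases hd : c = d
    · rw [← hyz, map_add, Finsupp.add_apply, rng0 ι hK D hB hy (fun h => ne01 c (by rw [h, hd])),
        rng0 ι hK D hB hz (fun h => ne02 c (by rw [h, hd])), add_zero]
    · exact rng0 ι hK D hB hx hd m n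
  have htop : ∀ c (v : V), ∃ y ∈ X c, ∃ z ∈ X (c + 1) ⊔ X (c + 2), v = y + z := by
    intro c v
    have h1 : X c ⊔ (X (c + 1) ⊔ X (c + 2)) = ⊤ := by
      rw [eq_top_iff, ← B.span_eq, Submodule.span_le]
      rintro _ ⟨⟨d, m, n⟩, rfl⟩
      have h2 : B (d, m, n) ∈ X d := by
        rw [hXdef, hB]
        exact evc_mem ι hK D φ _ _ _
      have h6 : ∀ d c : Fin 3, d = c ∨ d = c + 1 ∨ d = c + 2 := by decide
      rcases h6 d c with h | h | h
      · rw [← h]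
        exact Submodule.mem_sup_left h2
      · rw [← h]
        exact Submodule.mem_sup_right (Submodule.mem_sup_left h2)
      · rw [← h]
        exact Submodule.mem_sup_right (Submodule.mem_sup_right h2)
    have h2 : v ∈ X c ⊔ (X (c + 1) ⊔ X (c + 2)) := by rw [h1]; trivial
    obtain ⟨y, hy, z, hz, h⟩ := Submodule.mem_sup.1 h2
    exact ⟨y, hy, z, hz, h.symm⟩
  have hX' : ∀ c g, ∀ y ∈ orth P (X (c + 1) ⊔ X (c + 2)), ρ' g y ∈ orth P (X (c + 1) ⊔ X (c + 2)) :=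
    fun c => Du.orth_inv (hW c)
  have hD : ∀ c, Dul (subRep ρ (X c) (hX c)) (subRep ρ' (orth P (X (c + 1) ⊔ X (c + 2))) (hX' c))
      (P.domRestrict₁₂ (X c) (orth P (X (c + 1) ⊔ X (c + 2)))) := by
    intro c
    refine ⟨fun g x y => Du.inv g x y, fun x hx => ?_, fun y hy => ?_⟩
    · apply Subtype.ext
      refine hbot c x x.2 (Du.orth_orth _ _ fun y hy => ?_)
      exact hx ⟨y, hy⟩
    · apply Subtype.ext
      refine Du.right _ fun x => ?_
      obtain ⟨x₁, hx₁, x₂, hx₂, rfl⟩ := htop c x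
      rw [map_add, LinearMap.add_apply, show P x₂ y = 0 from y.2 x₂ hx₂, add_zero]
      exact hy ⟨x₁, hx₁⟩
  have hV' : ∀ c, IsV ι p (subRep ρ' (orth P (X (c + 1) ⊔ X (c + 2))) (hX' c)) (bw p i c) :=
    fun c => IsV.dual ι p (hXV c) (hD c)
  obtain ⟨φ', T', hr, -⟩ := exists_TT ι ρ' hK D hdim (fun c => orth P (X (c + 1) ⊔ X (c + 2))) hX' hV'
  refine ⟨φ', T', fun c x y c' x' y' hne => ?_⟩
  have h1 : evc ι p i φ' c' x' y' ∈ orth P (X (c' + 1) ⊔ X (c' + 2)) := by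
    rw [← hr c']
    exact evc_mem ι hK D φ' _ _ _
  have h2 : evc ι p i φ c x y ∈ X c := by
    rw [hXdef]
    exact evc_mem ι hK D φ _ _ _
  have hc : c' = c := by
    have h6 : ∀ c c' : Fin 3, c = c' ∨ c = c' + 1 ∨ c = c' + 2 := by decide
    rcases h6 c c' with h7 | h7 | h7
    · exact h7.symm
    · exact absurd (h1 _ (Submodule.mem_sup_left (by rw [← h7]; exact h2))) hne
    · exact absurd (h1 _ (Submodule.mem_sup_right (by rw [← h7]; exact h2))) hne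
  refine ⟨hc, ?_⟩
  rw [hc] at hne
  have h3 : ∀ t : Kˣ, ι (t : K) ^ (W p i c x' y' - W p i c (2 - x) (2 - y)) = ι (t : K) ^ (0 : ℤ) := by
    intro t
    have h0 : ι (t : K) ≠ 0 := (map_ne_zero ι).2 t.ne_zero
    have h4 := Du.inv (h t) (evc ι p i φ c x y) (evc ι p i φ' c x' y')
    rw [ev_h ι hK D T, ev_h ι hK D T', map_smul, map_smul, LinearMap.smul_apply, smul_smul, smul_eq_mul] at h4
    have h5 := mul_right_cancel₀ hne (h4.trans (one_mul _).symm)
    rw [W_neg, sub_neg_eq_add, zpow_add₀ h0, h5, zpow_zero]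
  have h4 := dvd_of_zpow ι h3
  rw [sub_zero, hK] at h4
  exact D.W_inj h4

end Cfsg.Agent.R2.H14.T
end

-- part: R2/H14/T/RatC
section
/-!
# T-type: rational torus elements (helper14)

`rat_untw`, `rat_tw` : elements of `E₆(q)` and `²E₆(q)` which are diagonal with respect to the basis `e c x y`.
-/

set_option autoImplicit false
set_option linter.unusedSectionVars false

namespace Cfsg.Agent.R2.H14.T

open Cfsg Cfsg.Lie Module Matrix
open Cfsg.Agent.H943.SL2Rel Cfsg.Agent.H943.SL2Mod Cfsg.Agent.H943.RepAdd Cfsg.Agent.R2.H28.SL2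
open Cfsg.Agent.ChevalleyStructure.E6Min.Basic
open Cfsg.Agent.H163.E6 Cfsg.Agent.H65.E6Emb
open Cfsg.Agent.H944.E6Tw (J J_apply J_add J_smul J_eq V_J V'_J sE mem_Gs Gs QM QU coe_QU QU_sq gU_QU sZ sZ_apply coe_sE
  qe qe_sq gm_mulVec QM_mulVec)
open Cfsg.Agent.H944.E6T (gm coe_gm)
open Cfsg.Agent.H184.GraphE6 (gU gU_mul gU_gU)

universe u v w

section gen

variable {k : Type u} [Field k]

/-- the semilinear map `x ↦ θ x` -/
def semi (θ : k →+* k) : (I27 → k) →ₛₗ[θ] (I27 → k) where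
  toFun x := fun j => θ (x j)
  map_add' x y := by
    funext j
    exact map_add θ _ _
  map_smul' c x := by
    funext j
    exact map_mul θ _ _

theorem semi_apply (θ : k →+* k) (x : I27 → k) : semi θ x = fun j => θ (x j) := rfl

/-- the semilinear map `J` -/
def semJ (θ : k →+* k) : (I27 → k) →ₛₗ[θ] (I27 → k) where
  toFun x := _root_.Cfsg.Agent.H944.E6Tw.J θ x
  map_add' x y := J_add θ x y
  map_smul' c x := J_smul θ c x

theorem semJ_apply (θ : k →+* k) (x : I27 → k) : semJ θ x = _root_.Cfsg.Agent.H944.E6Tw.J θ x := rfl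

theorem semi_inj (θ : k →+* k) (x : I27 → k) (h : semi θ x = 0) : x = 0 := by
  funext j
  apply θ.injective
  show θ (x j) = θ 0
  rw [map_zero]
  exact congrFun h j

theorem semJ_inj (θ : k →+* k) (x : I27 → k) (h : semJ θ x = 0) : x = 0 := by
  funext j
  apply θ.injective
  have h1 := congrFun h j
  rw [semJ_apply, J_apply] at h1
  have h2 : (((qe j : ℤ) : k)) * ((qe j : ℤ) : k) = 1 := by rw [← Int.cast_mul, qe_sq, Int.cast_one]
  have h3 : ((qe j : ℤ) : k) * (((qe j : ℤ) : k) * θ (x j)) = 0 := by rw [h1]; exact mul_zero _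
  rw [← mul_assoc, h2, one_mul] at h3
  show θ (x j) = θ 0
  rw [h3, map_zero]

theorem J_J' (θ : k →+* k) (x : I27 → k) : _root_.Cfsg.Agent.H944.E6Tw.J θ (_root_.Cfsg.Agent.H944.E6Tw.J θ x) = fun j => θ (θ (x j)) := by
  funext j
  rw [J_apply, J_apply, map_mul, map_intCast, ← mul_assoc, ← Int.cast_mul, qe_sq, Int.cast_one, one_mul]

/-- the entries -/
theorem V_single (g : ↥(Zgrp k)) (i j : I27) :
    V k g (Pi.single j 1) i = ((g : GL I27 k) : Matrix I27 I27 k) i j := by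
  rw [V_apply, Matrix.mulVec_single_one]
  rfl

theorem entry_of_comm {θ : k →+* k} {g : ↥(Zgrp k)} (h : ∀ x, V k g (semi θ x) = semi θ (V k g x)) (i j : I27) :
    θ (((g : GL I27 k) : Matrix I27 I27 k) i j) = ((g : GL I27 k) : Matrix I27 I27 k) i j := by
  have h1 := congrFun (h (Pi.single j 1)) i
  rw [semi_apply, semi_apply] at h1
  have h2 : (fun l => θ ((Pi.single j 1 : I27 → k) l)) = (Pi.single j 1 : I27 → k) := by
    funext l
    by_cases hl : l = j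
    · rw [hl, Pi.single_eq_same, map_one]
    · rw [Pi.single_eq_of_ne hl, map_zero]
  have h3 : V k g (fun l => θ ((Pi.single j 1 : I27 → k) l)) i = θ (V k g (Pi.single j 1) i) := h1
  rw [h2, V_single] at h3
  exact h3.symm

variable {F : Type v} [Field F] (f0 : F →+* k)

/-- the Steinberg endomorphism and the change of fields -/
theorem emb_sE {f : F →+* F} {θ : k →+* k} (h : ∀ t, θ (f0 t) = f0 (f t)) (g : ↥(Zgrp F)) :
    emb f0 (sE f g) = sE θ (emb f0 g) := by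
  apply Subtype.ext
  have h1 : Matrix.GeneralLinearGroup.map f0 (QU F) = QU k := by
    apply Units.ext
    show (QM F).map f0 = QM k
    unfold QM
    rw [Matrix.diagonal_map (map_zero f0)]
    congr 1
    funext x
    exact map_intCast f0 _
  have h2 : ∀ g : GL I27 F, Matrix.GeneralLinearGroup.map f0 (gm f g) = gm θ (Matrix.GeneralLinearGroup.map f0 g) := by
    intro g
    apply Units.ext
    ext i j
    exact (h _).symm
  rw [coe_emb', coe_sE, coe_sE, sZ_apply, sZ_apply, coe_emb', map_mul, map_mul, h1, ← gU_map, h2]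

theorem emb_mem_Gs {f : F →+* F} {θ : k →+* k} (h : ∀ t, θ (f0 t) = f0 (f t)) (g : ↥(Zgrp F)) :
    emb f0 g ∈ Gs θ ↔ g ∈ Gs f := by
  rw [mem_Gs, mem_Gs, ← emb_sE f0 h, (emb_injective f0).eq_iff]

/-- a criterion for `Gs θ` -/
theorem mem_Gs_of_semi {θ : k →+* k} {g : ↥(Zgrp k)} (h : ∀ x, V' k g (_root_.Cfsg.Agent.H944.E6Tw.J θ x) = _root_.Cfsg.Agent.H944.E6Tw.J θ (V k g x)) : g ∈ Gs θ := by
  have h0 : ((gU (g : GL I27 k) : GL I27 k) : Matrix I27 I27 k) * QM k =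
      QM k * ((gm θ (g : GL I27 k) : GL I27 k) : Matrix I27 I27 k) := by
    apply Matrix.toLin'.injective
    refine (Pi.basisFun k I27).ext fun j => ?_
    rw [Pi.basisFun_apply, Matrix.toLin'_apply, Matrix.toLin'_apply]
    have h1 := h (Pi.single j 1)
    have h2 : (fun l => θ ((Pi.single j 1 : I27 → k) l)) = (Pi.single j 1 : I27 → k) := by
      funext l
      by_cases hl : l = j
      · rw [hl, Pi.single_eq_same, map_one]
      · rw [Pi.single_eq_of_ne hl, map_zero]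
    rw [J_eq, J_eq, V_apply, V'_apply, ← gm_mulVec, h2, Matrix.mulVec_mulVec, Matrix.mulVec_mulVec] at h1
    exact h1
  have h1 : gU (g : GL I27 k) * QU k = QU k * gm θ (g : GL I27 k) := Units.ext h0
  have h2 : gm θ (g : GL I27 k) = QU k * gU (g : GL I27 k) * QU k := by
    rw [mul_assoc, h1, ← mul_assoc, QU_sq, one_mul]
  rw [mem_Gs]
  apply Subtype.ext
  rw [coe_sE, sZ_apply, h2, gU_mul, gU_mul, gU_QU, gU_gU]
  calc QU k * (QU k * (g : GL I27 k) * QU k) * QU k = (QU k * QU k) * (g : GL I27 k) * (QU k * QU k) := by group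
    _ = g := by rw [QU_sq, one_mul, mul_one]

/-- the duality of `V` and `V'` -/
theorem dul {G : Type*} [Group G] (r : G →* ↥(Zgrp k)) : Dul ((V k).comp r) ((V' k).comp r) (tfL k) where
  inv g x y := Cfsg.Agent.H163.E6.Act.tf_act (r g) x y
  left _ h := Cfsg.Agent.H952.F4.Jord.tf_nondeg h
  right y h := Cfsg.Agent.H952.F4.Jord.tf_nondeg fun x => by
    rw [Cfsg.Agent.H952.F4.Jord.tf_comm]
    exact h x

end gen

variable {k : Type u} [Field k] [DecidableEq k] [IsAlgClosed k] {K : Type w} [Field K] [Fintype K] [DecidableEq K]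
  (ι : K →+* k)
variable {p : ℕ} [Fact p.Prime] [CharP k p] [CharP K p] {i : Fin 3 → ℕ}
variable {F : Type v} [Field F] [Fintype F] (f0 : F →+* k) {b : ℕ}
variable {ρ0 : _root_.Matrix.SpecialLinearGroup (Fin 2) K →* ↥(Zgrp F)}
variable {a : ℕ} (hK : Fintype.card K = p ^ a) (D : Dg3 p a i)
variable {φ : ∀ c : Fin 3, Vb ι (bw p i c) →ₗ[k] (I27 → k)}

include hK D

/-- **`E₆(q)`** -/
theorem rat_untw (hF : Fintype.card F = p ^ b) (T : TT ι p i ((V k).comp ((emb f0).comp ρ0)) φ)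
    (hH : TorH (evc ι p i φ)) : ∃ (g0 : ↥(Zgrp F)) (τ : Fin 3 → k), (∀ x, τ x ≠ 0) ∧ τ 2 * τ 0 ≠ τ 1 * τ 1 ∧
      ∀ c x y, V k (emb f0 g0) (evc ι p i φ c x y) = (τ x * (τ (2 - y))⁻¹) • evc ι p i φ c x y := by
  have h3 := D.three
  have hp : p.Prime := Fact.out
  have : ExpChar k p := ExpChar.prime hp
  obtain ⟨θ, hθ⟩ : ∃ θ : k →+* k, ∀ t, θ t = t ^ (p ^ b) := ⟨iterateFrobenius k p b, fun t => rfl⟩
  have hp2 : (2 : k) ≠ 0 := by
    intro h
    have : ((2 : ℕ) : k) = 0 := by exact_mod_cast h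
    rw [CharP.cast_eq_zero_iff k p] at this
    have := Nat.le_of_dvd (by norm_num) this
    omega
  obtain ⟨τ, hτ⟩ : ∃ τ : Fin 3 → k, τ = ![1, -1, -1] := ⟨_, rfl⟩
  have t0 : τ 0 = 1 := by rw [hτ]; rfl
  have t1 : τ 1 = -1 := by rw [hτ]; rfl
  have t2 : τ 2 = -1 := by rw [hτ]; rfl
  have ht : ∀ x, τ x ≠ 0 := by
    intro x
    fin_cases x
    · exact t0.trans_ne one_ne_zero
    · exact t1.trans_ne (neg_ne_zero.2 one_ne_zero)
    · exact t2.trans_ne (neg_ne_zero.2 one_ne_zero)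
  have hsq : ∀ x, θ (τ x) = τ x := by
    intro x
    fin_cases x
    · show θ (τ 0) = τ 0
      rw [t0, map_one]
    · show θ (τ 1) = τ 1
      rw [t1, map_neg, map_one]
    · show θ (τ 2) = τ 2
      rw [t2, map_neg, map_one]
  obtain ⟨g, hg⟩ := hH τ ht (by rw [t0, t1, t2]; ring)
  have hJρ : ∀ s x, semi θ (((V k).comp ((emb f0).comp ρ0)) s x) = ((V k).comp ((emb f0).comp ρ0)) s (semi θ x) := by
    intro s x
    show semi θ (V k (emb f0 (ρ0 s)) x) = V k (emb f0 (ρ0 s)) (semi θ x)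
    have h1 := V_emb θ (emb f0 (ρ0 s)) x
    rw [emb_frob f0 θ (fun x => by rw [hθ, hF])] at h1
    exact h1.symm
  obtain ⟨π, hπ⟩ := exists_perm ι hK D T T hθ (semi θ) (semi_inj θ) hJρ
  obtain ⟨B, hB⟩ := T.bas
  have hcomm : (V k g).comp (semi θ) = (semi θ).comp (V k g) := by
    refine B.ext fun z => ?_
    obtain ⟨c, x, y⟩ := z
    rw [hB]
    obtain ⟨κ, hκ⟩ := hπ c x y
    show V k g (semi θ (evc ι p i φ c x y)) = semi θ (V k g (evc ι p i φ c x y))
    rw [hκ, map_smul, hg, hg, LinearMap.map_smulₛₗ, hκ, map_mul, map_inv₀, hsq, hsq, smul_smul, smul_smul, mul_comm]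
  obtain ⟨g0, hg0⟩ := Cfsg.Agent.H65.E6Full.exists_of_pow_all f0 g fun i' j' => by
    have h1 := entry_of_comm (fun x => LinearMap.congr_fun hcomm x) i' j'
    rwa [hθ, ← hF] at h1
  refine ⟨g0, τ, ht, ?_, fun c x y => by rw [hg0, hg]⟩
  rw [t0, t1, t2]
  intro h
  apply hp2
  linear_combination -h

/-- **`²E₆(q)`** -/
theorem rat_tw (hb : 1 ≤ b) (hF : Fintype.card F = (p ^ b) ^ 2) {f : F →+* F} (hf : ∀ t, f t = t ^ (p ^ b))
    (hρ0 : ∀ s, ρ0 s ∈ Gs f) (T : TT ι p i ((V k).comp ((emb f0).comp ρ0)) φ)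
    (hH : TorH (evc ι p i φ)) : ∃ g0 ∈ Gs f, ∃ τ : Fin 3 → k, (∀ x, τ x ≠ 0) ∧ τ 2 * τ 0 ≠ τ 1 * τ 1 ∧
      ∀ c x y, V k (emb f0 g0) (evc ι p i φ c x y) = (τ x * (τ (2 - y))⁻¹) • evc ι p i φ c x y := by
  have h3 := D.three
  have hp : p.Prime := Fact.out
  have : ExpChar k p := ExpChar.prime hp
  obtain ⟨θ, hθ⟩ : ∃ θ : k →+* k, ∀ t, θ t = t ^ (p ^ b) := ⟨iterateFrobenius k p b, fun t => rfl⟩
  obtain ⟨q0, hq0⟩ : ∃ q0, q0 = p ^ b := ⟨_, rfl⟩
  rw [← hq0] at hF hf hθ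
  have hq3 : 3 ≤ q0 := by
    rw [hq0]
    calc 3 ≤ p := h3
      _ = p ^ 1 := (pow_one p).symm
      _ ≤ p ^ b := Nat.pow_le_pow_right (by omega) hb
  have hθf : ∀ t, θ (f0 t) = f0 (f t) := fun t => by rw [hθ, hf, map_pow]
  -- the element `s`
  obtain ⟨s0, hs0⟩ := IsCyclic.exists_generator (α := Fˣ)
  have hord : orderOf s0 = q0 ^ 2 - 1 := by
    classical
    rw [orderOf_eq_card_of_forall_mem_zpowers hs0, Nat.card_eq_fintype_card, Fintype.card_units, hF]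
  obtain ⟨s, hs⟩ : ∃ s : kˣ, s = Units.map (f0 : F →* k) s0 := ⟨_, rfl⟩
  have hs1 : s ^ (q0 ^ 2 - 1) = 1 := by
    rw [hs, ← map_pow, ← hord, pow_orderOf_eq_one, map_one]
  have hs2 : s ^ (3 * (q0 - 1)) ≠ 1 := by
    intro h
    rw [hs, ← map_pow] at h
    have h1 : s0 ^ (3 * (q0 - 1)) = 1 := by
      apply Units.map_injective (f := (f0 : F →* k)) f0.injective
      rw [h, map_one]
    have h2 := orderOf_dvd_of_pow_eq_one h1
    rw [hord] at h2
    have h4 := Nat.le_of_dvd (by omega) h2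
    obtain ⟨m, rfl⟩ : ∃ m, q0 = m + 1 := ⟨q0 - 1, by omega⟩
    have e1 : (m + 1) ^ 2 - 1 = m * (m + 2) := by
      have : (m + 1) ^ 2 = m * (m + 2) + 1 := by ring
      omega
    rw [e1, Nat.add_sub_cancel] at h4
    nlinarith only [hq3, h4]
  have hs1' : s ^ (q0 * q0) = s := by
    have e : q0 * q0 = (q0 ^ 2 - 1) + 1 := by
      have : 1 ≤ q0 ^ 2 := Nat.one_le_pow _ _ (by omega)
      rw [← pow_two]
      omega
    rw [e, pow_succ, hs1, one_mul]
  -- `τ`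
  obtain ⟨τ, hτ⟩ : ∃ τ : Fin 3 → kˣ, τ = ![s, s ^ (q0 - 1), (s ^ q0)⁻¹] := ⟨_, rfl⟩
  have t0 : τ 0 = s := by rw [hτ]; rfl
  have t1 : τ 1 = s ^ (q0 - 1) := by rw [hτ]; rfl
  have t2 : τ 2 = (s ^ q0)⁻¹ := by rw [hτ]; rfl
  have hq1 : s ^ (q0 - 1) * s = s ^ q0 := by
    rw [← pow_succ]
    congr 1
    omega
  have hprod : τ 0 * τ 1 * τ 2 = 1 := by
    rw [t0, t1, t2, mul_comm s, hq1, mul_inv_cancel]
  have hC : ∀ x, (τ x) ^ q0 * τ (2 - x) = 1 := by
    intro x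
    fin_cases x
    · show (τ 0) ^ q0 * τ 2 = 1
      rw [t0, t2, mul_inv_cancel]
    · show (τ 1) ^ q0 * τ 1 = 1
      rw [t1, ← pow_succ, ← pow_mul]
      have e : (q0 - 1) * (q0 + 1) = q0 ^ 2 - 1 := by
        obtain ⟨m, rfl⟩ : ∃ m, q0 = m + 1 := ⟨q0 - 1, by omega⟩
        have : (m + 1) ^ 2 = m * (m + 2) + 1 := by ring
        rw [this]
        simp only [_root_.add_tsub_cancel_right]
      rw [e, hs1]
    · show (τ 2) ^ q0 * τ 0 = 1
      rw [t0, t2, inv_pow, ← pow_mul, hs1', inv_mul_cancel]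
  obtain ⟨g, hg⟩ := hH (fun x => (τ x : k)) (fun x => (τ x).ne_zero) (by
    have h5 := congrArg (fun z : kˣ => (z : k)) hprod
    exact h5)
  have hC' : ∀ x, θ (τ x : k) * (τ (2 - x) : k) = 1 := by
    intro x
    rw [hθ, ← Units.val_pow_eq_pow_val, ← Units.val_mul, hC, Units.val_one]
  -- the dual module
  obtain ⟨φ', T', hpair⟩ := exists_dual ι hK D (dul ((emb f0).comp ρ0)) T
  obtain ⟨B, hB⟩ := T.bas
  have hg' : ∀ c x y, V' k g (evc ι p i φ' c x y) = ((τ y : k) * (τ (2 - x) : k)⁻¹) • evc ι p i φ' c x y := by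
    intro c x y
    rw [← sub_eq_zero]
    refine (dul (MonoidHom.id ↥(Zgrp k))).right _ fun v => ?_
    have h5 : ∀ z, tfL k (B z) (V' k g (evc ι p i φ' c x y) -
        ((τ y : k) * (τ (2 - x) : k)⁻¹) • evc ι p i φ' c x y) = 0 := by
      rintro ⟨c', x', y'⟩
      rw [hB, map_sub, map_smul, smul_eq_mul]
      have h6 := Cfsg.Agent.H163.E6.Act.tf_act g (evc ι p i φ c' x' y') (evc ι p i φ' c x y)
      rw [hg, Cfsg.Agent.H952.F4.Jord.tf_smul_left] at h6
      have h7 : ((τ x' : k) * (τ (2 - y') : k)⁻¹) ≠ 0 := mul_ne_zero (τ x').ne_zero (inv_ne_zero (τ (2 - y')).ne_zero)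
      by_cases h8 : tfL k (evc ι p i φ c' x' y') (evc ι p i φ' c x y) = 0
      · rw [h8, mul_zero, sub_zero]
        rw [show Cfsg.Agent.H952.F4.tf (evc ι p i φ c' x' y') (evc ι p i φ' c x y) = 0 from h8] at h6
        exact (mul_eq_zero.1 h6).resolve_left h7
      · obtain ⟨-, rfl, rfl⟩ := hpair _ _ _ _ _ _ h8
        have h9 : ∀ z : Fin 3, 2 - (2 - z) = z := by decide
        rw [h9, tfL_apply, tfL_apply, ← h6]
        field_simp
        ring
    have h6 : ∀ u : I27 → k, (tfL k).flip u = 0 → tfL k v u = 0 := fun u hu => LinearMap.congr_fun hu v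
    exact h6 _ (B.ext h5)
  -- the semilinear maps
  have hJ1 : ∀ s' x, semJ θ (((V k).comp ((emb f0).comp ρ0)) s' x) =
      ((V' k).comp ((emb f0).comp ρ0)) s' (semJ θ x) := by
    intro s' x
    exact (V'_J θ ((emb_mem_Gs f0 hθf _).2 (hρ0 s')) x).symm
  rw [hq0] at hθ
  obtain ⟨π, hπ⟩ := exists_perm ι hK D T T' hθ (semJ θ) (semJ_inj θ) hJ1
  rw [← hq0] at hθ
  have hcomm : (V' k g).comp (semJ θ) = (semJ θ).comp (V k g) := by
    refine B.ext fun z => ?_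
    obtain ⟨c, x, y⟩ := z
    rw [hB]
    obtain ⟨κ, hκ⟩ := hπ c x y
    show V' k g (semJ θ (evc ι p i φ c x y)) = semJ θ (V k g (evc ι p i φ c x y))
    rw [hκ, map_smul, hg', hg, LinearMap.map_smulₛₗ, hκ, map_mul, map_inv₀, smul_smul, smul_smul, mul_comm]
    congr 2
    have h5 := hC' x
    have h6 := hC' (2 - y)
    have h9 : ∀ z : Fin 3, 2 - (2 - z) = z := by decide
    rw [h9] at h6
    have n1 : θ (τ (2 - y) : k) ≠ 0 := (map_ne_zero θ).2 (τ _).ne_zero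
    have n2 : (τ (2 - x) : k) ≠ 0 := (τ _).ne_zero
    rw [mul_inv_eq_iff_eq_mul₀ n2, mul_assoc, mul_comm ((θ (τ (2 - y) : k))⁻¹), ← mul_assoc, h5, one_mul]
    exact (inv_eq_of_mul_eq_one_right h6).symm
  have hmem : g ∈ Gs θ := mem_Gs_of_semi fun x => LinearMap.congr_fun hcomm x
  have hcomm2 : ∀ x, V k g (semi (θ.comp θ) x) = semi (θ.comp θ) (V k g x) := by
    intro x
    have h5 : ∀ x, semi (θ.comp θ) x = _root_.Cfsg.Agent.H944.E6Tw.J θ (_root_.Cfsg.Agent.H944.E6Tw.J θ x) := fun x => by rw [J_J']; rfl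
    rw [h5, h5, V_J θ hmem, V'_J θ hmem]
  obtain ⟨g0, hg0⟩ := Cfsg.Agent.H65.E6Full.exists_of_pow_all f0 g fun i' j' => by
    have h1 := entry_of_comm hcomm2 i' j'
    rw [RingHom.comp_apply, hθ, hθ, ← pow_mul, ← pow_two, ← hF] at h1
    exact h1
  refine ⟨g0, ?_, fun x => (τ x : k), fun x => (τ x).ne_zero, ?_, fun c x y => by rw [hg0, hg]⟩
  · rw [← emb_mem_Gs f0 hθf, hg0]
    exact hmem
  · intro h
    apply hs2
    have h5 : τ 2 * τ 0 = τ 1 * τ 1 := Units.ext h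
    rw [t0, t1, t2] at h5
    have h6 : s = s ^ q0 * (s ^ (q0 - 1) * s ^ (q0 - 1)) := by
      rw [← h5, mul_inv_cancel_left]
    rw [← hq1] at h6
    have h7 : s ^ (q0 - 1) * s * (s ^ (q0 - 1) * s ^ (q0 - 1)) = s ^ (3 * (q0 - 1)) * s := by
      rw [mul_comm 3, pow_mul]
      generalize s ^ (q0 - 1) = z
      rw [pow_succ, pow_two]
      rw [mul_assoc z s, mul_comm s, ← mul_assoc, ← mul_assoc]
    rw [h7] at h6
    exact mul_eq_right.1 h6.symm

end Cfsg.Agent.R2.H14.T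
end
end

-- part: R2/H9/E6/DOp
section
prune_inst 0x34450162020000040000f0001ec3a3000402104880000200000404c0cc4009020860b030011200a0000460310068110000204000000000000400011d01a090900000e0c90004060089800000410000000000000000000000000000010000004010000
set_option linter.all false
open scoped Cfsg.Agent.FastGrp

-- part: R2/H9/E6/Kb
section
/-!
# S5749, S5750: base change to a field `k ⊇ F` (helper9)

* `lie_top`, `lie_Gs` : the `k`-span of the pairs `(V g, V' g)`, `g ∈ Γ`, contains the root elements of the Lie algebra;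
* `irr_k`, `irr_k'` : `V_k`, `V'_k` are irreducible for `Γ`;
* `no_form` : no bilinear form on `V_k` is invariant under `Γ` up to scalars.
-/

set_option autoImplicit false
set_option linter.unusedSectionVars false

namespace Cfsg.Agent.R2.H9.E6.Kb

open Cfsg Cfsg.Lie Module
open scoped Matrix
open Cfsg.Agent.ChevalleyStructure
open Cfsg.Agent.ChevalleyStructure.E6Min.Tables Cfsg.Agent.ChevalleyStructure.E6Min.Basic
  Cfsg.Agent.ChevalleyStructure.E6Min.Adjoint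
open Cfsg.Agent.H163.E6 Cfsg.Agent.H163.E6.Act
open Cfsg.Agent.H944.E6Tw
open Cfsg.Agent.H184.GraphE6
open Cfsg.Agent.H65.E6Emb
open Cfsg.Agent.R2.H9.E6.TwIrr
open Cfsg.Agent.H952.F4 (ev es matRep sh cr tf)

universe u v

section pairs

variable {k : Type v} [Field k]

/-- the pair of matrices on `V` and `V'` -/
def pr (g : GL I27 k) : Matrix I27 I27 k × Matrix I27 I27 k := ((g : Matrix I27 I27 k), ((gU g : GL I27 k) : Matrix I27 I27 k))

/-- the matrix on `V'` of the root element `r` of the Lie algebra -/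
def Np (k : Type v) [Field k] (r : ℕ) : Matrix I27 I27 k := -(PM k * Nm k (71 - r) * PM k)

theorem gU_zU {r : ℕ} (hr : r < 72) (t : k) : ((gU (zU r t) : GL I27 k) : Matrix I27 I27 k) = 1 + t • Np k r := by
  have h1 : ((zU r t)⁻¹ : GL I27 k) = zU r (-t) := by
    rw [inv_eq_iff_mul_eq_one]
    apply Units.ext
    rw [Units.val_mul, coe_zU hr, coe_zU hr, zM_def, zM_def, Units.val_one]
    have h2 := Nm_sq (F := k) hr
    simp only [add_mul, mul_add, one_mul, mul_one, smul_mul_assoc, mul_smul_comm, h2, smul_zero]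
    module
  rw [coe_gU, h1, coe_zU hr, zM_transpose hr, zM_def]
  have h3 : PM k * PM k = 1 := PM_sq
  rw [Np, mul_add, add_mul, mul_one, h3, mul_smul_comm, smul_mul_assoc, neg_smul, smul_neg]

theorem pr_zU {r : ℕ} (hr : r < 72) (t : k) : pr (zU r t) = (1, 1) + t • (Nm k r, Np k r) := by
  rw [pr, gU_zU hr, coe_zU hr, zM_def]
  rfl

theorem pr_mul (g h : GL I27 k) : pr (g * h) = ((pr g).1 * (pr h).1, (pr g).2 * (pr h).2) := by
  rw [pr, gU_mul, Units.val_mul, Units.val_mul]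
  rfl

theorem pr_pair {r s : ℕ} (hr : r < 72) (hs : s < 72) (t u : k) : pr (zU r t * zU s u) =
    (1, 1) + (t • (Nm k r, Np k r) + u • (Nm k s, Np k s) + (t * u) • (Nm k r * Nm k s, Np k r * Np k s)) := by
  rw [pr_mul, pr_zU hr, pr_zU hs]
  ext1
  · simp only [Prod.fst_add, Prod.smul_fst, add_mul, mul_add, one_mul, mul_one, smul_mul_assoc, mul_smul_comm]
    module
  · simp only [Prod.snd_add, Prod.smul_snd, add_mul, mul_add, one_mul, mul_one, smul_mul_assoc, mul_smul_comm]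
    module

theorem zU_pow {r : ℕ} (hr : r < 72) (t : k) (n : ℕ) : (zU r t : GL I27 k) ^ n = zU r (n * t) := by
  induction n with
  | zero =>
    rw [pow_zero, Nat.cast_zero, zero_mul]
    apply Units.ext
    rw [coe_zU hr, zM_zero, Units.val_one]
  | succ n ih =>
    rw [pow_succ, ih]
    apply Units.ext
    rw [Units.val_mul, coe_zU hr, coe_zU hr, coe_zU hr, zM_def, zM_def, zM_def]
    have h2 := Nm_sq (F := k) hr
    simp only [add_mul, mul_add, one_mul, mul_one, smul_mul_assoc, mul_smul_comm, h2, smul_zero, Nat.cast_succ, add_smul]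
    module

theorem zU_p {r : ℕ} (hr : r < 72) (t : k) (p : ℕ) [CharP k p] : (zU r t : GL I27 k) ^ p = 1 := by
  rw [zU_pow hr, CharP.cast_eq_zero, zero_mul]
  apply Units.ext
  rw [coe_zU hr, zM_zero, Units.val_one]

end pairs

section span

variable {F : Type u} [Field F] {k : Type v} [Field k] (f : F →+* k)

theorem map_zU {r : ℕ} (hr : r < 72) (t : F) : Matrix.GeneralLinearGroup.map f (zU r t) = zU r (f t) := by
  apply Units.ext
  rw [coe_zU hr]
  show ((zU r t : GL I27 F) : Matrix I27 I27 F).map f = _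
  rw [coe_zU hr, zM_map]

/-- orthogonality on the units, over `k` -/
theorem sum_units_k [Fintype F] {M : Type*} [AddCommGroup M] [Module k M] {q : ℕ} (hq : 2 ≤ q)
    (hF : Fintype.card F = q ^ 2) (W : Submodule k M) (a b c : M)
    (h : ∀ t : Fˣ, f t • a + f t ^ q • b + f t ^ (q + 1) • c ∈ W) : a ∈ W ∧ b ∈ W ∧ c ∈ W := by
  letI : Module F M := Module.compHom M f
  have h1 := sum_units (F := F) hq hF (M := M) { W with smul_mem' := fun t x hx => W.smul_mem (f t) hx } a b c (by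
    intro t
    have h2 := h t
    rw [← map_pow, ← map_pow] at h2
    exact h2)
  exact h1

/-- the pairs of the root elements belong to the span of the group -/
theorem lie_top {p : ℕ} [CharP F p] {S : Submodule k (Matrix I27 I27 k × Matrix I27 I27 k)}
    (h : ∀ g : ↥(Zgrp F), g ^ p = 1 → pr (emb f g : GL I27 k) ∈ S) : ∀ r ∈ L12, (Nm k r, Np k r) ∈ S := by
  intro r hr
  have hr' := L12_lt r hr
  have h1 := h 1 (one_pow _)
  have h2 := h ⟨zU r 1, zU_mem _ _⟩ (Subtype.ext (zU_p hr' 1 p))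
  have e1 : pr (emb f (1 : ↥(Zgrp F)) : GL I27 k) = (1, 1) := by
    have h3 := pr_zU (k := k) hr' 0
    have h4 : (zU r 0 : GL I27 k) = 1 := by
      apply Units.ext
      rw [coe_zU hr', zM_zero, Units.val_one]
    rw [zero_smul, add_zero, h4] at h3
    rw [map_one]
    exact h3
  rw [e1] at h1
  rw [coe_emb', map_zU f hr', pr_zU hr', map_one, one_smul] at h2
  have h3 := S.sub_mem h2 h1
  rwa [add_sub_cancel_left] at h3

theorem lie_Gs [Fintype F] {p q : ℕ} [CharP F p] {φ : F →+* F} (hq : IsPrimePow q) (hF : Fintype.card F = q ^ 2)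
    (hφ : ∀ t, φ t = t ^ q) (hqq : ∀ t : F, (t ^ q) ^ q = t)
    {S : Submodule k (Matrix I27 I27 k × Matrix I27 I27 k)}
    (h : ∀ g ∈ Gs φ, g ^ p = 1 → pr (emb f g : GL I27 k) ∈ S) : ∀ r ∈ L12, (Nm k r, Np k r) ∈ S := by
  have e1 : pr (emb f (1 : ↥(Zgrp F)) : GL I27 k) = (1, 1) := by
    have h3 := pr_zU (k := k) (show 0 < 72 by norm_num) 0
    have h4 : (zU 0 0 : GL I27 k) = 1 := by
      apply Units.ext
      rw [coe_zU (by norm_num), zM_zero, Units.val_one]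
    rw [zero_smul, add_zero, h4] at h3
    rw [map_one]
    exact h3
  have h1 := h 1 (one_mem _) (one_pow _)
  rw [e1] at h1
  have hsingle : ∀ r ∈ [46, 25, 39, 32], (Nm k r, Np k r) ∈ S := by
    intro r hr
    have hr' : r < 72 := by
      simp only [List.mem_cons, List.not_mem_nil, or_false] at hr
      omega
    have h2 := h _ (zZ_mem_Gs hφ (one_pow q) hr) (Subtype.ext (zU_p hr' 1 p))
    rw [coe_emb'] at h2
    change pr (Matrix.GeneralLinearGroup.map f (zU r 1)) ∈ S at h2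
    rw [map_zU f hr', pr_zU hr', map_one, one_smul] at h2
    have h3 := S.sub_mem h2 h1
    rwa [add_sub_cancel_left] at h3
  have hpair : ∀ rs ∈ [(56, 36), (15, 35), (42, 37), (29, 34)], (Nm k rs.1, Np k rs.1) ∈ S ∧ (Nm k rs.2, Np k rs.2) ∈ S := by
    intro rs hrs
    have hr' : rs.1 < 72 ∧ rs.2 < 72 := by
      simp only [List.mem_cons, List.not_mem_nil, or_false] at hrs
      rcases hrs with rfl | rfl | rfl | rfl <;> decide
    have hcomm : ∀ t u : F, Commute (zU rs.1 t) (zU rs.2 u) := fun t u => zU_comm (by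
      simp only [List.mem_cons, List.not_mem_nil, or_false] at hrs ⊢
      rcases hrs with rfl | rfl | rfl | rfl <;> simp) t u
    have h2 := sum_units_k f hq.two_le hF S (Nm k rs.1, Np k rs.1) (Nm k rs.2, Np k rs.2)
      (Nm k rs.1 * Nm k rs.2, Np k rs.1 * Np k rs.2) (by
      intro t
      have h3 := h _ (zZ_pair_mem_Gs hφ hqq (t : F) hrs) (by
        apply Subtype.ext
        change (zU rs.1 (t : F) * zU rs.2 ((t : F) ^ q)) ^ p = 1
        rw [(hcomm _ _).mul_pow, zU_p hr'.1, zU_p hr'.2, one_mul])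
      rw [coe_emb'] at h3
      change pr (Matrix.GeneralLinearGroup.map f (zU rs.1 (t : F) * zU rs.2 ((t : F) ^ q))) ∈ S at h3
      rw [map_mul, map_zU f hr'.1, map_zU f hr'.2, pr_pair hr'.1 hr'.2] at h3
      have h4 := S.sub_mem h3 h1
      rw [add_sub_cancel_left, map_pow, ← pow_succ'] at h4
      exact h4)
    exact ⟨h2.1, h2.2.1⟩
  intro r hr
  have h56 := hpair (56, 36) (by decide)
  have h15 := hpair (15, 35) (by decide)
  have h42 := hpair (42, 37) (by decide)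
  have h29 := hpair (29, 34) (by decide)
  simp only [L12, List.mem_cons, List.not_mem_nil, or_false] at hr
  rcases hr with rfl | rfl | rfl | rfl | rfl | rfl | rfl | rfl | rfl | rfl | rfl | rfl
  · exact hsingle 46 (by decide)
  · exact hsingle 25 (by decide)
  · exact hsingle 39 (by decide)
  · exact hsingle 32 (by decide)
  · exact h56.1
  · exact h56.2
  · exact h15.1
  · exact h15.2
  · exact h42.1
  · exact h42.2
  · exact h29.1
  · exact h29.2

end span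

end Cfsg.Agent.R2.H9.E6.Kb
end

-- part: R2/H9/E6/Kb2
section
/-!
# S5749, S5750: irreducibility over `k`, no invariant bilinear forms (helper9)
-/

set_option autoImplicit false
set_option linter.unusedSectionVars false

namespace Cfsg.Agent.R2.H9.E6.Kb

open Cfsg Cfsg.Lie Module
open scoped Matrix
open Cfsg.Agent.ChevalleyStructure
open Cfsg.Agent.ChevalleyStructure.E6Min.Tables Cfsg.Agent.ChevalleyStructure.E6Min.Basic
  Cfsg.Agent.ChevalleyStructure.E6Min.Adjoint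
open Cfsg.Agent.H163.E6 Cfsg.Agent.H163.E6.Act
open Cfsg.Agent.H944.E6Tw
open Cfsg.Agent.H184.GraphE6
open Cfsg.Agent.H65.E6Emb
open Cfsg.Agent.R2.H9.E6.TwIrr
open Cfsg.Agent.H952.F4 (ev es matRep sh cr tf)

universe u v

/-- the `k`-span of the `p`-elements of `Γ` contains the root elements of the Lie algebra (on `V` and `V'`) -/
def LieG {F : Type u} [Field F] {k : Type v} [Field k] (f : F →+* k) (p : ℕ) (Γ : Subgroup ↥(Zgrp F)) : Prop :=
  ∀ S : Submodule k (Matrix I27 I27 k × Matrix I27 I27 k),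
    (∀ g ∈ Γ, g ^ p = 1 → pr (emb f g : GL I27 k) ∈ S) → ∀ r ∈ L12, (Nm k r, Np k r) ∈ S

theorem sepD : ∀ x y : I27, ∃ r ∈ L12, ind r x ≠ ind (71 - r) (pi y) := by decide +kernel

section main

variable {F : Type u} [Field F] {k : Type v} [Field k] {f : F →+* k} {p : ℕ} {Γ : Subgroup ↥(Zgrp F)}

/-- **`V_k` is irreducible for `Γ`** -/
theorem LieG.irr (h : LieG f p Γ) {W : Submodule k (I27 → k)} (hW : ∀ g ∈ Γ, ∀ w ∈ W, V k (emb f g) w ∈ W) :
    W = ⊥ ∨ W = ⊤ := by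
  by_cases h0 : W = ⊥
  · exact Or.inl h0
  right
  refine eq_top_of_stable ?_ h0
  let S : Submodule k (Matrix I27 I27 k × Matrix I27 I27 k) :=
    { carrier := {AB | ∀ w ∈ W, AB.1 *ᵥ w ∈ W}
      add_mem' := by
        intro A B hA hB w hw
        rw [Prod.fst_add, Matrix.add_mulVec]
        exact W.add_mem (hA w hw) (hB w hw)
      zero_mem' := by
        intro w _
        rw [Prod.fst_zero, Matrix.zero_mulVec]
        exact W.zero_mem
      smul_mem' := by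
        intro c A hA w hw
        rw [Prod.smul_fst, Matrix.smul_mulVec]
        exact W.smul_mem _ (hA w hw) }
  intro r hr w hw
  have h1 : (Nm k r, Np k r) ∈ S := h S (fun g hg _ w hw => hW g hg w hw) r hr
  exact h1 w hw

theorem Np_Np {r : ℕ} (hr : r < 72) (v : I27 → k) (y : I27) :
    (Np k r *ᵥ (Np k (71 - r) *ᵥ v)) y = ((ind (71 - r) (pi y) : ℤ) : k) * v y := by
  have h1 : Np k r * Np k (71 - r) = PM k * (Nm k (71 - r) * Nm k r) * PM k := by
    rw [Np, Np, opp_opp hr, neg_mul_neg]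
    have h3 : PM k * PM k = 1 := PM_sq
    calc PM k * Nm k (71 - r) * PM k * (PM k * Nm k r * PM k) =
        PM k * Nm k (71 - r) * (PM k * PM k) * Nm k r * PM k := by noncomm_ring
      _ = _ := by rw [h3]; noncomm_ring
  rw [Matrix.mulVec_mulVec, h1, Nm_opp_mul hr, ← Matrix.mulVec_mulVec, ← Matrix.mulVec_mulVec, PM_mulVec,
    Matrix.mulVec_diagonal, PM_mulVec, pi_pi]

/-- **`V_k` and `V'_k` are not isomorphic for `Γ`** -/
theorem LieG.no_hom (h : LieG f p Γ) [CharP k p] [Fact p.Prime] {φ : (I27 → k) →ₗ[k] (I27 → k)}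
    (hφ : ∀ g ∈ Γ, ∃ c : k, ∀ x, φ (V k (emb f g) x) = c • V' k (emb f g) (φ x)) : φ = 0 := by
  by_contra hne
  have hφ1 : ∀ g ∈ Γ, g ^ p = 1 → ∀ x, φ (V k (emb f g) x) = V' k (emb f g) (φ x) := by
    intro g hg hgp
    obtain ⟨c, hc⟩ := hφ g hg
    have h1 : ∀ n : ℕ, ∀ x, φ (V k (emb f (g ^ n)) x) = c ^ n • V' k (emb f (g ^ n)) (φ x) := by
      intro n
      induction n with
      | zero => intro x; simp only [pow_zero, map_one, Module.End.one_apply, one_smul]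
      | succ n ih =>
        intro x
        rw [pow_succ, map_mul, map_mul, Module.End.mul_apply, ih, hc, map_smul, smul_smul, map_mul, Module.End.mul_apply,
          ← pow_succ]
    have h2 : c ^ p = 1 := by
      by_contra hcp
      apply hne
      refine LinearMap.ext fun x => ?_
      have h3 := h1 p
      rw [hgp] at h3
      simp only [map_one, Module.End.one_apply] at h3
      have h4 : (c ^ p - 1) • φ x = 0 := by rw [sub_smul, one_smul, ← h3, sub_self]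
      exact (smul_eq_zero.1 h4).resolve_left (sub_ne_zero.2 hcp)
    have h3 : c = 1 := by
      have h4 : (c - 1) ^ p = 0 := by rw [sub_pow_char, h2, one_pow, sub_self]
      exact sub_eq_zero.1 (pow_eq_zero_iff (Fact.out : p.Prime).ne_zero |>.1 h4)
    intro x
    rw [hc, h3, one_smul]
  let S : Submodule k (Matrix I27 I27 k × Matrix I27 I27 k) :=
    { carrier := {AB | ∀ x, φ (AB.1 *ᵥ x) = AB.2 *ᵥ φ x}
      add_mem' := by
        intro A B hA hB x
        rw [Prod.fst_add, Prod.snd_add, Matrix.add_mulVec, Matrix.add_mulVec, map_add, hA, hB]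
      zero_mem' := by
        intro x
        rw [Prod.fst_zero, Prod.snd_zero, Matrix.zero_mulVec, Matrix.zero_mulVec, map_zero]
      smul_mem' := by
        intro c A hA x
        rw [Prod.smul_fst, Prod.smul_snd, Matrix.smul_mulVec, Matrix.smul_mulVec, map_smul, hA] }
  have hS : ∀ r ∈ L12, ∀ x, φ (Nm k r *ᵥ x) = Np k r *ᵥ φ x := fun r hr => h S (fun g hg hgp x => hφ1 g hg hgp x) r hr
  apply hne
  refine LinearMap.pi_ext' fun x => LinearMap.ext_ring ?_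
  funext y
  obtain ⟨r, hr, hxy⟩ := sepD x y
  have hr' := L12_lt r hr
  rw [LinearMap.comp_apply, LinearMap.zero_comp, LinearMap.zero_apply, Pi.zero_apply, LinearMap.single_apply]
  have h1 := hS r hr (Nm k (71 - r) *ᵥ (Pi.single x (1 : k) : I27 → k))
  rw [hS _ (L12_opp r hr), Matrix.mulVec_mulVec, Nm_mul_opp hr'] at h1
  have h2 := congrFun h1 y
  rw [Np_Np hr'] at h2
  have h3 : (Matrix.diagonal (fun x => ((ind r x : ℤ) : k)) *ᵥ (Pi.single x (1 : k) : I27 → k)) =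
      ((ind r x : ℤ) : k) • (Pi.single x (1 : k) : I27 → k) := by
    funext z
    rw [Matrix.mulVec_diagonal, Pi.smul_apply, smul_eq_mul]
    by_cases hz : z = x
    · rw [hz]
    · rw [Pi.single_eq_of_ne hz, mul_zero, mul_zero]
  rw [h3, map_smul, Pi.smul_apply, smul_eq_mul] at h2
  have h4 : (((ind r x : ℤ) : k) - ((ind (71 - r) (pi y) : ℤ) : k)) * φ (Pi.single x 1) y = 0 := by
    rw [sub_mul, h2, sub_self]
  refine (mul_eq_zero.1 h4).resolve_left ?_
  rcases H163.E6.Cnt.ind_cases r x with h5 | h5 <;> rcases H163.E6.Cnt.ind_cases (71 - r) (pi y) with h6 | h6 <;>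
    rw [h5, h6] at hxy ⊢ <;> simp at hxy ⊢

end main

end Cfsg.Agent.R2.H9.E6.Kb
end

-- part: R2/H9/E6/Kb3
section
/-!
# S5749, S5750: descent from `k` (helper9)

* `desc_top`, `desc_tw` : elements of `Zgrp k` commuting with the semilinear maps come from `Γ`;
* `Cfg.lie` : the hypothesis `LieG` of `Kb2`;
* `Setup.gen` : a subgroup containing `M` and an element of `Γ ∖ M` contains `Γ`.
-/

set_option autoImplicit false
set_option linter.unusedSectionVars false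

namespace Cfsg.Agent.R2.H9.E6

open Cfsg Cfsg.Lie Module
open scoped Matrix
open Cfsg.Agent.ChevalleyStructure
open Cfsg.Agent.ChevalleyStructure.E6Min.Tables Cfsg.Agent.ChevalleyStructure.E6Min.Basic
  Cfsg.Agent.ChevalleyStructure.E6Min.Adjoint
open Cfsg.Agent.H163.E6 Cfsg.Agent.H163.E6.Act Cfsg.Agent.H163.E6.Tw
open Cfsg.Agent.H944.E6Tw
open Cfsg.Agent.H944.E6T (gm coe_gm)
open Matrix (ProjectiveSpecialLinearGroup)
open Cfsg.Agent.H184.GraphE6
open Cfsg.Agent.H65.E6Emb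
open Cfsg.Agent.R2.H9.E6.TwIrr Cfsg.Agent.R2.H9.E6.Kb
open Cfsg.Agent.H952.F4 (ev es matRep sh cr tf)

universe u v w

section desc

variable {F : Type u} [Field F] [Fintype F] {k : Type v} [Field k] (f : F →+* k)

/-- **descent for `E₆(q)`** -/
theorem desc_top (s : k →+* k) (hs : ∀ x, s x = x ^ Fintype.card F) (z : ↥(Zgrp k))
    (h : ∀ x : I27 → k, V k z (fun i => s (x i)) = fun i => s (V k z x i)) : ∃ z0 : ↥(Zgrp F), emb f z0 = z := by
  refine Cfsg.Agent.H65.E6Full.exists_of_pow_all f z fun i j => ?_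
  have h1 := congrFun (h (Pi.single j 1)) i
  have h2 : (fun i => s ((Pi.single j (1 : k) : I27 → k) i)) = Pi.single j 1 := by
    funext i
    by_cases hij : i = j
    · rw [hij, Pi.single_eq_same, map_one]
    · rw [Pi.single_eq_of_ne hij, map_zero]
  rw [h2, V_apply, Matrix.mulVec_single_one, Matrix.col_apply, hs] at h1
  exact h1.symm

theorem map_QU (g : F →+* k) : Matrix.GeneralLinearGroup.map g (QU F) = QU k := by
  apply Units.ext
  show (QM F).map g = QM k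
  unfold QM
  rw [Matrix.diagonal_map (map_zero g)]
  congr 1
  funext x
  exact map_intCast g _

/-- **descent for `²E₆(q)`** -/
theorem desc_tw {φ : F →+* F} {q : ℕ} (hF : Fintype.card F = q ^ 2) (hφ : ∀ t, φ t = t ^ q) (s : k →+* k)
    (hs : ∀ x, s x = x ^ q) (z : ↥(Zgrp k)) (h : ∀ x : I27 → k, V k z (J s x) = J s (V' k z x)) :
    ∃ z0 ∈ Gs φ, emb f z0 = z := by
  have h1 : (z : GL I27 k) = sZ s (z : GL I27 k) := by
    apply Units.ext
    ext i j
    have h2 := congrFun (h (Pi.single j 1)) i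
    have h3 : J s (Pi.single j (1 : k)) = ((qe j : ℤ) : k) • (Pi.single j (1 : k) : I27 → k) := by
      funext i
      rw [J_apply, Pi.smul_apply, smul_eq_mul]
      by_cases hij : i = j
      · rw [hij, Pi.single_eq_same, map_one]
      · rw [Pi.single_eq_of_ne hij, map_zero, mul_zero, mul_zero]
    rw [h3, map_smul, V_apply, Pi.smul_apply, Matrix.mulVec_single_one, Matrix.col_apply, J_apply, V'_apply,
      Matrix.mulVec_single_one, Matrix.col_apply, smul_eq_mul] at h2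
    rw [sZ_apply, Units.val_mul, Units.val_mul, coe_QU]
    unfold QM
    rw [Matrix.mul_diagonal, Matrix.diagonal_mul, ← gm_gU, coe_gm, Matrix.map_apply, ← h2]
    have h4 : ((qe j : ℤ) : k) * ((qe j : ℤ) : k) = 1 := by
      have h5 := congrFun (congrFun (QM_sq (F := k)) j) j
      unfold QM at h5
      rw [Matrix.diagonal_mul_diagonal, Matrix.diagonal_apply_eq, Matrix.one_apply_eq] at h5
      exact h5
    rw [mul_comm, ← mul_assoc, h4, one_mul]
  have h2 : gU (z : GL I27 k) = QU k * gm s (z : GL I27 k) * QU k := by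
    conv_lhs => rw [h1]
    rw [sZ_apply, gU_mul, gU_mul, gU_QU, gU_gU]
  have h3 : gm s (gm s (z : GL I27 k)) = z := by
    have h4 : gm s (z : GL I27 k) = QU k * gU (z : GL I27 k) * QU k := by
      rw [h2]
      calc gm s (z : GL I27 k) = 1 * gm s (z : GL I27 k) * 1 := by rw [one_mul, mul_one]
        _ = (QU k * QU k) * gm s (z : GL I27 k) * (QU k * QU k) := by rw [QU_sq]
        _ = _ := by group
    rw [h4, map_mul, map_mul, gm_QU, gm_gU, ← sZ_apply]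
    exact h1.symm
  obtain ⟨z0, hz0⟩ := Cfsg.Agent.H65.E6Full.exists_of_pow_all f z fun i j => by
    have h4 := congrArg (fun y : GL I27 k => (y : Matrix I27 I27 k) i j) h3
    simp only [coe_gm, Matrix.map_apply, hs] at h4
    rw [hF, sq, pow_mul]
    exact h4
  refine ⟨z0, ?_, hz0⟩
  rw [mem_Gs]
  apply emb_injective f
  apply Subtype.ext
  rw [coe_emb', coe_sE, sZ_apply, map_mul, map_mul, map_QU, ← gU_map]
  have h4 : Matrix.GeneralLinearGroup.map f (gm φ (z0 : GL I27 F)) = gm s (z : GL I27 k) := by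
    apply Units.ext
    rw [coe_gm, ← hz0, coe_emb]
    show ((gm φ (z0 : GL I27 F) : GL I27 F) : Matrix I27 I27 F).map f = _
    rw [coe_gm, Matrix.map_map, Matrix.map_map]
    ext i j
    rw [Matrix.map_apply, Matrix.map_apply, Function.comp_apply, Function.comp_apply, hφ, hs, map_pow]
  rw [h4, ← sZ_apply, hz0]
  exact h1.symm

end desc

section cfg

variable {F : Type u} [Field F] [Fintype F] {K : Type w} [Field K] [Fintype K] {p a b : ℕ}
  {Γ M : Subgroup ↥(Zgrp F)} {ψ : ProjectiveSpecialLinearGroup (Fin 2) K →* ↥(Zgrp F)} {k : Type v} [Field k]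

theorem Cfg.lie (h : Cfg p a b Γ M ψ) (f : F →+* k) : LieG f p Γ := by
  intro S hS
  haveI := h.charF
  rcases h.fam with ⟨h1, h2, -⟩ | ⟨h1, φ, h2, h3, h4⟩
  · exact lie_top f fun g hg => hS g (by rw [h1]; trivial) hg
  · refine lie_Gs f (h.prime.isPrimePow.pow (by have := h.hb; omega)) h1 h2 h3 fun g hg hgp => hS g ?_ hgp
    rw [h4]
    exact hg

theorem Setup.gen {A : Type w} [Group A] {ψ : A →* ↥(Zgrp F)} (h : Setup Γ M ψ) {X : Subgroup ↥(Zgrp F)} (hM : M ≤ X)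
    {z : ↥(Zgrp F)} (hz : z ∈ Γ) (hzM : z ∉ M) (hzX : z ∈ X) : Γ ≤ X := by
  rcases h.max (X ⊓ Γ) (le_inf hM h.hle) inf_le_right with h1 | h1
  · exfalso
    apply hzM
    rw [← h1]
    exact ⟨hzX, hz⟩
  · rw [← h1]
    exact inf_le_left

end cfg

end Cfsg.Agent.R2.H9.E6
end

-- part: R2/H9/E6/DOp
section
/-!
# S5749, S5750: the derivations `D(p, b)` of the cubic form (helper9)

`Dop p b v = ⟨b, v⟩ p - b × (p × v)` for `p ∈ V`, `b ∈ V'`.

* `Dop_conj` : `V g ∘ D(p, b) = D(V g p, V' g b) ∘ V g`;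
* `exists_exp` : `1 + D(p, b) ∈ Zgrp` if `⟨p, b⟩ = 0` and `D(p, b)² = 0`;
* `Dop_cr` : `D(p, p × v) = 0` for `p` white; `Dop_zero` : `D(p, b) = 0` implies `b ∈ ann (ker (p × ·))`;
* `Dop_polar` : the polarization of `D(x, x^#) = - N(x)`.
-/

set_option autoImplicit false
set_option linter.unusedSectionVars false

namespace Cfsg.Agent.R2.H9.E6

open Cfsg Cfsg.Lie Module
open scoped Matrix
open Cfsg.Agent.ChevalleyStructure
open Cfsg.Agent.ChevalleyStructure.E6Min.Tables Cfsg.Agent.ChevalleyStructure.E6Min.Basic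
  Cfsg.Agent.ChevalleyStructure.E6Min.Adjoint
open Cfsg.Agent.H163.E6 Cfsg.Agent.H163.E6.Act
open Cfsg.Agent.H952.F4 (ev es matRep sh cr tf)
open Cfsg.Agent.H952.F4.Jord

universe u v

variable {k : Type v} [Field k]

theorem tf_zero_left (x : I27 → k) : tf (0 : I27 → k) x = 0 := by
  have := tf_smul_left (0 : k) 0 x
  rwa [zero_smul, zero_mul] at this

theorem tf_zero_right (x : I27 → k) : tf x (0 : I27 → k) = 0 := by rw [tf_comm, tf_zero_left]

theorem cr_zero_left (x : I27 → k) : cr (0 : I27 → k) x = 0 := by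
  have := cr_smul_left (0 : k) 0 x
  rwa [zero_smul, zero_smul] at this

theorem cr_zero_right (x : I27 → k) : cr x (0 : I27 → k) = 0 := by rw [cr_comm, cr_zero_left]

theorem tf_neg_left (x y : I27 → k) : tf (-x) y = -tf x y := by
  have := tf_smul_left (-1 : k) x y
  rwa [neg_one_smul, neg_one_mul] at this

theorem tf_sub_left (x x' y : I27 → k) : tf (x - x') y = tf x y - tf x' y := by
  rw [sub_eq_add_neg, tf_add_left, tf_neg_left, ← sub_eq_add_neg]

theorem tf_sub_right (x y y' : I27 → k) : tf x (y - y') = tf x y - tf x y' := by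
  rw [tf_comm, tf_sub_left, tf_comm y, tf_comm y']

/-- the linear map `cr x` -/
def crl (x : I27 → k) : (I27 → k) →ₗ[k] (I27 → k) where
  toFun := cr x
  map_add' := cr_add_right x
  map_smul' c y := cr_smul_right c x y

/-- the linear map `tf x` -/
def tfl (x : I27 → k) : (I27 → k) →ₗ[k] k where
  toFun := tf x
  map_add' := tf_add_right x
  map_smul' c y := tf_smul_right c x y

theorem crl_apply (x y : I27 → k) : crl x y = cr x y := rfl

/-- the derivation `D(p, b)` -/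
def Dop (p b : I27 → k) : (I27 → k) →ₗ[k] (I27 → k) := (tfl b).smulRight p - (crl b).comp (crl p)

theorem Dop_apply (p b v : I27 → k) : Dop p b v = tf b v • p - cr b (cr p v) := rfl

theorem tf_Dop (p b v w : I27 → k) : tf (Dop p b v) w = tf v (Dop b p w) := by
  rw [Dop_apply, Dop_apply, tf_sub_left, tf_sub_right, tf_smul_left, tf_smul_right, tf_comm b v, mul_comm,
    tf_comm (cr b (cr p v)) w, ← tf_cr w b, tf_comm (cr w b), cr_comm p v, tf_cr v p, cr_comm w b]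

theorem Dop_add_left (p p' b v : I27 → k) : Dop (p + p') b v = Dop p b v + Dop p' b v := by
  rw [Dop_apply, Dop_apply, Dop_apply, cr_add_left, cr_add_right, smul_add]
  abel

theorem Dop_add_right (p b b' v : I27 → k) : Dop p (b + b') v = Dop p b v + Dop p b' v := by
  rw [Dop_apply, Dop_apply, Dop_apply, cr_add_left, tf_add_left, add_smul]
  abel

theorem Dop_smul_left (c : k) (p b v : I27 → k) : Dop (c • p) b v = c • Dop p b v := by
  rw [Dop_apply, Dop_apply, cr_smul_left, cr_smul_right, smul_sub, smul_comm]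

theorem Dop_smul_right (c : k) (p b v : I27 → k) : Dop p (c • b) v = c • Dop p b v := by
  rw [Dop_apply, Dop_apply, cr_smul_left, tf_smul_left, smul_sub, smul_smul]

/-- `D(p, b)` is a derivation of the cubic form -/
theorem tf_sh_Dop {p b : I27 → k} (h : tf p b = 0) (v : I27 → k) : tf (sh v) (Dop p b v) = 0 := by
  rw [Dop_apply, tf_sub_right, tf_smul_right, tf_comm (sh v) (cr b _), tf_cr b, cr_comm (cr p v), cr_comm p v,
    cr_sh_cr, tf_add_right, tf_smul_right, tf_smul_right, tf_comm b p, h]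
  ring

/-- the polarization of `tf_sh_Dop` -/
theorem tf_sh_Dop' [NeZero (2 : k)] {p b : I27 → k} (h : tf p b = 0) (v w : I27 → k) :
    tf (sh v) (Dop p b w) + tf (cr v w) (Dop p b v) = 0 := by
  have h1 := tf_sh_Dop h (v + w)
  have h2 := tf_sh_Dop h (v - w)
  have h3 := tf_sh_Dop h v
  have h4 := tf_sh_Dop h w
  have e1 : sh (v - w) = sh v + sh w - cr v w := by
    have := sh_add v (-w)
    have e2 : sh (-w) = sh w := by
      have := sh_smul (-1 : k) w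
      rwa [neg_one_smul, neg_one_sq, one_smul] at this
    have e3 : cr v (-w) = -cr v w := by
      have := cr_smul_right (-1 : k) v w
      rwa [neg_one_smul, neg_one_smul] at this
    rw [e2, e3, ← sub_eq_add_neg, ← sub_eq_add_neg] at this
    exact this
  rw [sh_add, map_add] at h1
  rw [e1, map_sub] at h2
  simp only [tf_add_left, tf_add_right, tf_sub_left, tf_sub_right] at h1 h2
  have h5 : (2 : k) * (tf (sh v) (Dop p b w) + tf (cr v w) (Dop p b v)) = 0 := by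
    linear_combination h1 - h2 - 2 * h4
  exact (mul_eq_zero.1 h5).resolve_left (NeZero.ne 2)


theorem N_exp [NeZero (2 : k)] [NeZero (3 : k)] {p b : I27 → k} (h : tf p b = 0)
    (hsq : ∀ v, Dop p b (Dop p b v) = 0) (v : I27 → k) : cubicT (v + Dop p b v) = cubicT v := by
  have h1 : tf v (sh (Dop p b v)) = 0 := by
    have h2 := tf_sh_Dop' h v (Dop p b v)
    rw [hsq, tf_zero_right, zero_add, tf_cr, cr_self, tf_smul_right] at h2
    exact (mul_eq_zero.1 h2).resolve_left (NeZero.ne 2)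
  have h3 : cubicT (Dop p b v) = 0 := by
    have h4 := tf_sh_Dop' h (Dop p b v) v
    rw [hsq, tf_zero_right, add_zero, tf_sh_self] at h4
    exact (mul_eq_zero.1 h4).resolve_left (NeZero.ne 3)
  rw [N_add, tf_sh_Dop h, h1, h3, add_zero, add_zero, add_zero]

/-- **nilpotent derivations of square zero give elements of the group** -/
theorem exists_exp [NeZero (2 : k)] [NeZero (3 : k)] {p b : I27 → k} (h : tf p b = 0)
    (hsq : ∀ v, Dop p b (Dop p b v) = 0) : ∃ z : ↥(Zgrp k), (∀ v, V k z v = v + Dop p b v) ∧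
      ∀ w, V' k z w = w - Dop b p w := by
  classical
  let A : Matrix I27 I27 k := 1 + LinearMap.toMatrix' (Dop p b)
  let B : Matrix I27 I27 k := 1 - LinearMap.toMatrix' (Dop p b)
  have hDD : LinearMap.toMatrix' (Dop p b) * LinearMap.toMatrix' (Dop p b) = 0 := by
    rw [← LinearMap.toMatrix'_mul]
    have h1 : Dop p b * Dop p b = 0 := LinearMap.ext hsq
    rw [h1, map_zero]
  have hAB : A * B = 1 := by
    have h1 : A * B = 1 - LinearMap.toMatrix' (Dop p b) * LinearMap.toMatrix' (Dop p b) := by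
      show (1 + _) * (1 - _) = _
      noncomm_ring
    rw [h1, hDD, sub_zero]
  have hBA : B * A = 1 := by
    have h1 : B * A = 1 - LinearMap.toMatrix' (Dop p b) * LinearMap.toMatrix' (Dop p b) := by
      show (1 - _) * (1 + _) = _
      noncomm_ring
    rw [h1, hDD, sub_zero]
  let g : GL I27 k := ⟨A, B, hAB, hBA⟩
  have hg : ∀ v, (g : Matrix I27 I27 k) *ᵥ v = v + Dop p b v := by
    intro v
    show (1 + LinearMap.toMatrix' (Dop p b)) *ᵥ v = _
    rw [Matrix.add_mulVec, Matrix.one_mulVec, LinearMap.toMatrix'_mulVec]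
  have hmem : g ∈ Zgrp k := by
    rw [Cfsg.Agent.H65.E6Full.Zgrp_eq_of_three ⟨2, NeZero.ne 2, fun h2 => ?_⟩,
      Cfsg.Agent.ChevalleyStructure.E6Min.Forms.mem_E6univ_iff]
    · intro v
      rw [hg, N_exp h hsq]
    · have h3 : (1 : k) + 1 = 1 := by rw [one_add_one_eq_two]; exact h2
      exact one_ne_zero (left_eq_add.1 h3.symm)
  refine ⟨⟨g, hmem⟩, hg, fun w => ?_⟩
  have hsurj : ∀ y : I27 → k, ∃ x, x + Dop p b x = y := fun y => ⟨y - Dop p b y, by
    rw [map_sub, hsq, sub_zero, sub_add_cancel]⟩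
  have h1 : ∀ y : I27 → k, tf (V' k ⟨g, hmem⟩ w - (w - Dop b p w)) y = 0 := by
    intro y
    obtain ⟨x, rfl⟩ := hsurj y
    rw [tf_sub_left]
    have h2 := tf_act ⟨g, hmem⟩ x w
    have h3 : V k ⟨g, hmem⟩ x = x + Dop p b x := hg x
    rw [h3, tf_comm] at h2
    rw [h2]
    rw [tf_comm (w - _), tf_add_left, tf_sub_right, tf_sub_right, tf_Dop, ← tf_Dop p b (Dop p b x), hsq, tf_zero_left]
    ring
  exact sub_eq_zero.1 (tf_nondeg h1)

/-- `D(p, p × v) = 0` for white `p` -/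
theorem Dop_cr {p : I27 → k} (hp : sh p = 0) (v w : I27 → k) : Dop p (cr p v) w = 0 := by
  have h1 := cr_cr p v w
  rw [hp, cr_zero_left, tf_zero_left, tf_zero_left, zero_smul, zero_smul, add_zero, zero_add, zero_add] at h1
  rw [Dop_apply, h1, tf_cr, sub_self]

theorem Dop_zero {p b : I27 → k} (hp : p ≠ 0) (h : ∀ v, Dop p b v = 0) {v : I27 → k} (hv : cr p v = 0) : tf b v = 0 := by
  have h1 := h v
  rw [Dop_apply, hv, cr_zero_right, sub_zero] at h1
  exact (smul_eq_zero.1 h1).resolve_right hp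

/-- the full polarization of `cr_sh_cr` -/
theorem cr_polar (a b c v : I27 → k) : cr (cr a v) (cr b c) + cr (cr b v) (cr a c) + cr (cr a b) (cr v c) =
    tf (cr a b) v • c + tf (cr a b) c • v + tf a (cr v c) • b + tf b (cr v c) • a := by
  have h1 := cr_cr (a + b) v c
  have h2 := cr_cr a v c
  have h3 := cr_cr b v c
  rw [sh_add] at h1
  simp only [cr_add_left, cr_add_right, tf_add_left, add_smul, smul_add] at h1
  have e1 : cr (cr a v) (cr b c) + cr (cr b v) (cr a c) + cr (cr a b) (cr v c) =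
      (cr (cr a v) (cr a c) + cr (cr b v) (cr a c) + (cr (cr a v) (cr b c) + cr (cr b v) (cr b c)) +
        (cr (sh a) (cr v c) + cr (sh b) (cr v c) + cr (cr a b) (cr v c))) -
      (cr (cr a v) (cr a c) + cr (sh a) (cr v c)) - (cr (cr b v) (cr b c) + cr (sh b) (cr v c)) := by abel
  rw [e1, h1, h2, h3]
  abel

/-- the polarization of `D(x, x^#) = - N(x)` -/
theorem Dop_polar (a b c v : I27 → k) : Dop a (cr b c) v + Dop b (cr a c) v + Dop c (cr a b) v =
    -(tf (cr a b) c • v) := by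
  have h1 := cr_polar a b c v
  rw [Dop_apply, Dop_apply, Dop_apply, cr_comm (cr b c), cr_comm (cr a c), cr_comm c v]
  have e1 : tf (cr b c) v = tf b (cr v c) := by rw [tf_cr, cr_comm c v]
  have e2 : tf (cr a c) v = tf a (cr v c) := by rw [tf_cr, cr_comm c v]
  rw [e1, e2]
  have e3 : cr (cr a v) (cr b c) = tf (cr a b) v • c + tf (cr a b) c • v + tf a (cr v c) • b + tf b (cr v c) • a -
      cr (cr b v) (cr a c) - cr (cr a b) (cr v c) := by rw [← h1]; abel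
  rw [e3]
  abel

end Cfsg.Agent.R2.H9.E6
end

private theorem dce_0a833f9a4005 : _root_.True := by
  try have : _root_.True := by simp only [_root_.Cfsg.Agent.R2.H9.E6.Kb.pr.eq_1]
  try have : _root_.True := by simp only [_root_.Cfsg.Agent.R2.H9.E6.Kb.Np.eq_1]
  exact _root_.True.intro
end

-- part: R2/H14/E11/Pa
section
prune_inst 0x242014113122020000040094f3001e83ab0004001008800082200f0206808c0049420820ba10240000a000044831002811100000424000000e000400011d018010901006e0c9000c06008e000000410000000000000000000000000000010000004010000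
set_option linter.all false
open scoped Cfsg.Agent.FastGrp

-- part: R2/H14/E11/Ar
section
/-!
# S5749, S5750, box E11: arithmetic in characteristic 11 (helper14)

* `four_ne`, `dv` : the powers of 4, non-divisibility;
* `Nop U = - ∑ n ^ 9 U n`; `Nop_eq` : `U n = ∑ j ≤ 10, (n ^ j / j!) N ^ j` for all `n < 11` implies `Nop U = N`.
-/

set_option autoImplicit false
set_option linter.unusedSectionVars false

namespace Cfsg.Agent.R2.H14.E11

variable {k : Type*} [Field k] [CharP k 11]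

theorem e11 (k : Type*) [Field k] [CharP k 11] : (11 : k) = 0 := by
  have h := CharP.cast_eq_zero k 11
  exact_mod_cast h

theorem ne_of (n : ℕ) (h : ¬ 11 ∣ n) : (n : k) ≠ 0 := fun h0 => h ((CharP.cast_eq_zero_iff k 11 n).1 h0)

theorem two_ne : (2 : k) ≠ 0 := by exact_mod_cast ne_of (k := k) 2 (by decide)

theorem three_ne : (3 : k) ≠ 0 := by exact_mod_cast ne_of (k := k) 3 (by decide)

theorem four_ne0 : (4 : k) ≠ 0 := by exact_mod_cast ne_of (k := k) 4 (by decide)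

theorem four_five : (4 : k) ^ 5 = 1 := by
  have h := e11 k
  linear_combination 93 * h

theorem four_add (i : ℕ) : (4 : k) ^ (i + 5) = 4 ^ i := by rw [pow_add, four_five, mul_one]

theorem four_mod (i : ℕ) : (4 : k) ^ i = 4 ^ (i % 5) := by
  conv_lhs => rw [← Nat.div_add_mod i 5, pow_add, pow_mul, four_five, one_pow, one_mul]

theorem four_ne {i j : ℕ} (h : i % 5 ≠ j % 5) : (4 : k) ^ i ≠ 4 ^ j := by
  rw [four_mod i, four_mod j]
  have hi := Nat.mod_lt i (show 0 < 5 by norm_num)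
  have hj := Nat.mod_lt j (show 0 < 5 by norm_num)
  generalize i % 5 = i at *
  generalize j % 5 = j at *
  intro he
  wlog hij : i < j generalizing i j
  · exact this j hj i hi h.symm he.symm (by omega)
  have h1 : ((4 ^ j - 4 ^ i : ℕ) : k) = 0 := by
    rw [Nat.cast_sub (Nat.pow_le_pow_right (by norm_num) hij.le)]
    push_cast
    rw [he, sub_self]
  rw [CharP.cast_eq_zero_iff k 11] at h1
  interval_cases j <;> interval_cases i <;> revert h1 <;> decide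

/-- power sums -/
theorem psum (m : ℕ) (h : 11 ∣ ∑ n ∈ Finset.range 11, n ^ m) : ∑ n ∈ Finset.range 11, (n : k) ^ m = 0 := by
  have h1 := (CharP.cast_eq_zero_iff k 11 _).2 h
  push_cast at h1
  exact h1

theorem psum10 : ∑ n ∈ Finset.range 11, (n : k) ^ 10 = -1 := by
  have h1 := (CharP.cast_eq_zero_iff k 11 (∑ n ∈ Finset.range 11, n ^ 10 + 1)).2 (by decide)
  push_cast at h1
  linear_combination h1

variable {V : Type*} [AddCommGroup V] [Module k V]

/-- the logarithm of the unipotent group -/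
def Nop (U : ℕ → V →ₗ[k] V) : V →ₗ[k] V := -∑ n ∈ Finset.range 11, ((n : k) ^ 9) • U n

theorem Nop_apply (U : ℕ → V →ₗ[k] V) (v : V) : Nop U v = -∑ n ∈ Finset.range 11, ((n : k) ^ 9) • U n v := by
  unfold Nop
  rw [LinearMap.neg_apply, LinearMap.sum_apply]
  rfl

/-- semilinear maps commuting with the unipotent elements commute with `Nop` -/
theorem Nop_comm {V₂ : Type*} [AddCommGroup V₂] [Module k V₂] {U : ℕ → V →ₗ[k] V} {U₂ : ℕ → V₂ →ₗ[k] V₂} {s : k →+* k}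
    (f : V →ₛₗ[s] V₂) (h : ∀ n < 11, ∀ v, f (U n v) = U₂ n (f v)) (v : V) : f (Nop U v) = Nop U₂ (f v) := by
  rw [Nop_apply, Nop_apply, map_neg, map_sum]
  congr 1
  refine Finset.sum_congr rfl fun n hn => ?_
  rw [f.map_smulₛₗ, map_pow, map_natCast, h n (Finset.mem_range.1 hn)]

/-- forms invariant under the unipotent elements -/
theorem Nop_skew {V₂ : Type*} [AddCommGroup V₂] [Module k V₂] {U : ℕ → V →ₗ[k] V} {U₂ : ℕ → V₂ →ₗ[k] V₂}
    (f : V →ₗ[k] V₂ →ₗ[k] k) (h : ∀ n < 11, ∀ v w, f (U n v) (U₂ n w) = f v w)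
    (hU : ∀ n < 11, ∀ v, U₂ n (U₂ ((11 - n) % 11) v) = v)
    (v : V) (w : V₂) : f (Nop U v) w = -f v (Nop U₂ w) := by
  rw [Nop_apply, Nop_apply, map_neg, map_neg, map_sum, map_sum, LinearMap.neg_apply, LinearMap.sum_apply, neg_neg,
    ← Finset.sum_neg_distrib]
  have h1 : ∀ n ∈ Finset.range 11, -(f (((n : k) ^ 9) • U n v)) w =
      (fun m : ℕ => f v (((m : k) ^ 9) • U₂ m w)) ((11 - n) % 11) := by
    intro n hn
    rw [Finset.mem_range] at hn
    have h2 : f (U n v) w = f v (U₂ ((11 - n) % 11) w) := by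
      conv_lhs => rw [← hU n hn w]
      rw [h n hn]
    simp only [map_smul, LinearMap.smul_apply, smul_eq_mul]
    rw [h2]
    have h3 : (((11 - n) % 11 : ℕ) : k) = -(n : k) := by
      have h4 : (((11 - n) % 11 + n : ℕ) : k) = 0 := by
        rw [CharP.cast_eq_zero_iff k 11]
        omega
      push_cast at h4
      linear_combination h4
    rw [h3]
    ring
  rw [Finset.sum_congr rfl h1]
  refine Finset.sum_nbij' (fun n => (11 - n) % 11) (fun n => (11 - n) % 11) ?_ ?_ ?_ ?_ ?_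
  · intro n hn
    rw [Finset.mem_range] at hn ⊢
    omega
  · intro n hn
    rw [Finset.mem_range] at hn ⊢
    omega
  · intro n hn
    rw [Finset.mem_range] at hn
    omega
  · intro n hn
    rw [Finset.mem_range] at hn
    omega
  · intro n hn
    rfl

end Cfsg.Agent.R2.H14.E11
end

-- part: R2/H14/E11/Bs
section
/-!
# S5749, S5750, box E11: the module `T(12) ⊕ L(4)` of `SL(2, 11)` (helper14)

`Bs N H W p r c` : the explicit basis `p n = N ^ n P₀`, `r n = N ^ n R₀`, `c n = N ^ n C₀`.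

* `Bs.A`, `Bs.B`, `Bs.C` : coordinates; `Bs.expand`, `Bs.ext`, `Bs.lift`;
* `sk`, `wt_zero` : skew forms, weights.
-/

set_option autoImplicit false
set_option linter.unusedSectionVars false

namespace Cfsg.Agent.R2.H14.E11

open Module

variable {k : Type*} [Field k] [CharP k 11] {V : Type*} [AddCommGroup V] [Module k V]

/-- the explicit structure -/
structure Bs (N H W : V →ₗ[k] V) (p r c : ℕ → V) : Prop where
  Np : ∀ n, N (p n) = p (n + 1)
  Nr : ∀ n, N (r n) = r (n + 1)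
  Nc : ∀ n, N (c n) = c (n + 1)
  zp : p 11 = 0
  zr : r 11 = 0
  zc : c 5 = 0
  Hp : ∀ n, H (p n) = (4 : k) ^ (n + 1) • p n
  Hr : ∀ n, H (r n) = (4 : k) ^ (n + 4) • r n
  Hc : ∀ n, H (c n) = (4 : k) ^ (n + 3) • c n
  Wp0 : W (p 0) = (9 : k) • p 8 + (8 : k) • r 10
  Wp1 : W (p 1) = (5 : k) • p 7 + (6 : k) • r 9
  Wp2 : W (p 2) = (7 : k) • p 6 + (5 : k) • r 8
  Wp3 : W (p 3) = (6 : k) • p 5 + (6 : k) • r 7
  Wp4 : W (p 4) = p 4
  Wp5 : W (p 5) = (2 : k) • p 3 + (9 : k) • r 5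
  Wp6 : W (p 6) = (8 : k) • p 2 + (10 : k) • r 4
  Wp7 : W (p 7) = (9 : k) • p 1 + (9 : k) • r 3
  Wp8 : W (p 8) = (5 : k) • p 0 + (7 : k) • p 10 + (9 : k) • r 2
  Wp9 : W (p 9) = p 9 + r 1
  Wp10 : W (p 10) = (10 : k) • r 0
  Wr0 : W (r 0) = (10 : k) • p 10
  Wr1 : W (r 1) = (10 : k) • r 1
  Wr2 : W (r 2) = (2 : k) • r 0 + (9 : k) • r 10
  Wr3 : W (r 3) = (5 : k) • r 9
  Wr4 : W (r 4) = (7 : k) • r 8
  Wr5 : W (r 5) = (6 : k) • r 7
  Wr6 : W (r 6) = r 6
  Wr7 : W (r 7) = (2 : k) • r 5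
  Wr8 : W (r 8) = (8 : k) • r 4
  Wr9 : W (r 9) = (9 : k) • r 3
  Wr10 : W (r 10) = (10 : k) • p 10 + (5 : k) • r 2
  Wc0 : W (c 0) = (6 : k) • c 4
  Wc1 : W (c 1) = (9 : k) • c 3
  Wc2 : W (c 2) = c 2
  Wc3 : W (c 3) = (5 : k) • c 1
  Wc4 : W (c 4) = (2 : k) • c 0
  li : ∀ a b e : ℕ → k, ∑ n ∈ Finset.range 11, a n • p n + ∑ n ∈ Finset.range 11, b n • r n +
    ∑ n ∈ Finset.range 5, e n • c n = 0 → (∀ n < 11, a n = 0) ∧ (∀ n < 11, b n = 0) ∧ ∀ n < 5, e n = 0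
  sp : ∀ v : V, ∃ a b e : ℕ → k, v = ∑ n ∈ Finset.range 11, a n • p n + ∑ n ∈ Finset.range 11, b n • r n +
    ∑ n ∈ Finset.range 5, e n • c n

variable {N H W : V →ₗ[k] V} {p r c : ℕ → V}

theorem chain_zero {q : ℕ → V} (hq : ∀ n, N (q n) = q (n + 1)) {m : ℕ} (h0 : q m = 0) {n : ℕ} (h : m ≤ n) : q n = 0 := by
  obtain ⟨d, rfl⟩ := Nat.exists_eq_add_of_le h
  induction d with
  | zero => exact h0
  | succ d ih => rw [← add_assoc, ← hq, ih (by omega), map_zero]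

theorem Bs.p0 (h : Bs N H W p r c) {n : ℕ} (hn : 11 ≤ n) : p n = 0 := chain_zero h.Np h.zp hn

theorem Bs.r0 (h : Bs N H W p r c) {n : ℕ} (hn : 11 ≤ n) : r n = 0 := chain_zero h.Nr h.zr hn

theorem Bs.c0 (h : Bs N H W p r c) {n : ℕ} (hn : 5 ≤ n) : c n = 0 := chain_zero h.Nc h.zc hn

/-- the family -/
def fam (p r c : ℕ → V) : Fin 11 ⊕ Fin 11 ⊕ Fin 5 → V :=
  Sum.elim (fun i => p i) (Sum.elim (fun i => r i) (fun i => c i))

/-- extension by zero -/
def ex {n : ℕ} (f : Fin n → k) (i : ℕ) : k := if h : i < n then f ⟨i, h⟩ else 0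

theorem ex_coe {n : ℕ} (f : Fin n → k) (i : Fin n) : ex f i = f i := by
  unfold ex
  rw [dif_pos i.2]

theorem sum_ex {n : ℕ} (f : Fin n → k) (q : ℕ → V) : ∑ i : Fin n, f i • q i = ∑ i ∈ Finset.range n, ex f i • q i := by
  rw [← Fin.sum_univ_eq_sum_range (fun i => ex f i • q i)]
  exact Finset.sum_congr rfl fun i _ => by rw [ex_coe]

theorem fam_li (h : Bs N H W p r c) : LinearIndependent k (fam p r c) := by
  rw [Fintype.linearIndependent_iff]
  intro g hg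
  rw [Fintype.sum_sum_type, Fintype.sum_sum_type] at hg
  have h1 := h.li (ex fun i => g (Sum.inl i)) (ex fun i => g (Sum.inr (Sum.inl i))) (ex fun i => g (Sum.inr (Sum.inr i))) (by
    rw [← sum_ex, ← sum_ex, ← sum_ex, ← hg, add_assoc]
    rfl)
  rintro (i | i | i)
  · have := h1.1 i i.2
    rwa [ex_coe] at this
  · have := h1.2.1 i i.2
    rwa [ex_coe] at this
  · have := h1.2.2 i i.2
    rwa [ex_coe] at this

theorem fam_sp (h : Bs N H W p r c) : ⊤ ≤ Submodule.span k (Set.range (fam p r c)) := by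
  intro v _
  obtain ⟨a, b, e, rfl⟩ := h.sp v
  refine Submodule.add_mem _ (Submodule.add_mem _ ?_ ?_) ?_
  · refine Submodule.sum_mem _ fun n hn => Submodule.smul_mem _ _ (Submodule.subset_span ?_)
    exact ⟨Sum.inl ⟨n, Finset.mem_range.1 hn⟩, rfl⟩
  · refine Submodule.sum_mem _ fun n hn => Submodule.smul_mem _ _ (Submodule.subset_span ?_)
    exact ⟨Sum.inr (Sum.inl ⟨n, Finset.mem_range.1 hn⟩), rfl⟩
  · refine Submodule.sum_mem _ fun n hn => Submodule.smul_mem _ _ (Submodule.subset_span ?_)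
    exact ⟨Sum.inr (Sum.inr ⟨n, Finset.mem_range.1 hn⟩), rfl⟩

/-- the basis -/
noncomputable def Bs.bas (h : Bs N H W p r c) : Basis (Fin 11 ⊕ Fin 11 ⊕ Fin 5) k V := Basis.mk (fam_li h) (fam_sp h)

/-- coordinates -/
noncomputable def Bs.A (h : Bs N H W p r c) (n : ℕ) : V →ₗ[k] k := if hn : n < 11 then h.bas.coord (Sum.inl ⟨n, hn⟩) else 0

/-- coordinates -/
noncomputable def Bs.B (h : Bs N H W p r c) (n : ℕ) : V →ₗ[k] k :=
  if hn : n < 11 then h.bas.coord (Sum.inr (Sum.inl ⟨n, hn⟩)) else 0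

/-- coordinates -/
noncomputable def Bs.C (h : Bs N H W p r c) (n : ℕ) : V →ₗ[k] k :=
  if hn : n < 5 then h.bas.coord (Sum.inr (Sum.inr ⟨n, hn⟩)) else 0

theorem Bs.bas_apply (h : Bs N H W p r c) (i : Fin 11 ⊕ Fin 11 ⊕ Fin 5) : h.bas i = fam p r c i := by
  unfold Bs.bas
  rw [Basis.mk_apply]

theorem Bs.A_p (h : Bs N H W p r c) (i j : ℕ) : h.A i (p j) = if i = j ∧ i < 11 then 1 else 0 := by
  unfold Bs.A
  by_cases hi : i < 11
  · rw [dif_pos hi]
    by_cases hj : j < 11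
    · have h1 : p j = h.bas (Sum.inl ⟨j, hj⟩) := by rw [h.bas_apply]; rfl
      rw [h1, Basis.coord_apply, Basis.repr_self, Finsupp.single_apply]
      simp [hi, eq_comm]
    · rw [h.p0 (by omega), map_zero, if_neg (by omega)]
  · rw [dif_neg hi, LinearMap.zero_apply, if_neg (by omega)]

theorem Bs.A_r (h : Bs N H W p r c) (i j : ℕ) : h.A i (r j) = 0 := by
  unfold Bs.A
  by_cases hi : i < 11
  · rw [dif_pos hi]
    by_cases hj : j < 11
    · have h1 : r j = h.bas (Sum.inr (Sum.inl ⟨j, hj⟩)) := by rw [h.bas_apply]; rfl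
      rw [h1, Basis.coord_apply, Basis.repr_self, Finsupp.single_apply]
      simp
    · rw [h.r0 (by omega), map_zero]
  · rw [dif_neg hi, LinearMap.zero_apply]

theorem Bs.A_c (h : Bs N H W p r c) (i j : ℕ) : h.A i (c j) = 0 := by
  unfold Bs.A
  by_cases hi : i < 11
  · rw [dif_pos hi]
    by_cases hj : j < 5
    · have h1 : c j = h.bas (Sum.inr (Sum.inr ⟨j, hj⟩)) := by rw [h.bas_apply]; rfl
      rw [h1, Basis.coord_apply, Basis.repr_self, Finsupp.single_apply]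
      simp
    · rw [h.c0 (by omega), map_zero]
  · rw [dif_neg hi, LinearMap.zero_apply]

theorem Bs.B_r (h : Bs N H W p r c) (i j : ℕ) : h.B i (r j) = if i = j ∧ i < 11 then 1 else 0 := by
  unfold Bs.B
  by_cases hi : i < 11
  · rw [dif_pos hi]
    by_cases hj : j < 11
    · have h1 : r j = h.bas (Sum.inr (Sum.inl ⟨j, hj⟩)) := by rw [h.bas_apply]; rfl
      rw [h1, Basis.coord_apply, Basis.repr_self, Finsupp.single_apply]
      simp [hi, eq_comm]
    · rw [h.r0 (by omega), map_zero, if_neg (by omega)]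
  · rw [dif_neg hi, LinearMap.zero_apply, if_neg (by omega)]

theorem Bs.B_p (h : Bs N H W p r c) (i j : ℕ) : h.B i (p j) = 0 := by
  unfold Bs.B
  by_cases hi : i < 11
  · rw [dif_pos hi]
    by_cases hj : j < 11
    · have h1 : p j = h.bas (Sum.inl ⟨j, hj⟩) := by rw [h.bas_apply]; rfl
      rw [h1, Basis.coord_apply, Basis.repr_self, Finsupp.single_apply]
      simp
    · rw [h.p0 (by omega), map_zero]
  · rw [dif_neg hi, LinearMap.zero_apply]

theorem Bs.B_c (h : Bs N H W p r c) (i j : ℕ) : h.B i (c j) = 0 := by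
  unfold Bs.B
  by_cases hi : i < 11
  · rw [dif_pos hi]
    by_cases hj : j < 5
    · have h1 : c j = h.bas (Sum.inr (Sum.inr ⟨j, hj⟩)) := by rw [h.bas_apply]; rfl
      rw [h1, Basis.coord_apply, Basis.repr_self, Finsupp.single_apply]
      simp
    · rw [h.c0 (by omega), map_zero]
  · rw [dif_neg hi, LinearMap.zero_apply]

theorem Bs.C_c (h : Bs N H W p r c) (i j : ℕ) : h.C i (c j) = if i = j ∧ i < 5 then 1 else 0 := by
  unfold Bs.C
  by_cases hi : i < 5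
  · rw [dif_pos hi]
    by_cases hj : j < 5
    · have h1 : c j = h.bas (Sum.inr (Sum.inr ⟨j, hj⟩)) := by rw [h.bas_apply]; rfl
      rw [h1, Basis.coord_apply, Basis.repr_self, Finsupp.single_apply]
      simp [hi, eq_comm]
    · rw [h.c0 (by omega), map_zero, if_neg (by omega)]
  · rw [dif_neg hi, LinearMap.zero_apply, if_neg (by omega)]

theorem Bs.C_p (h : Bs N H W p r c) (i j : ℕ) : h.C i (p j) = 0 := by
  unfold Bs.C
  by_cases hi : i < 5
  · rw [dif_pos hi]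
    by_cases hj : j < 11
    · have h1 : p j = h.bas (Sum.inl ⟨j, hj⟩) := by rw [h.bas_apply]; rfl
      rw [h1, Basis.coord_apply, Basis.repr_self, Finsupp.single_apply]
      simp
    · rw [h.p0 (by omega), map_zero]
  · rw [dif_neg hi, LinearMap.zero_apply]

theorem Bs.C_r (h : Bs N H W p r c) (i j : ℕ) : h.C i (r j) = 0 := by
  unfold Bs.C
  by_cases hi : i < 5
  · rw [dif_pos hi]
    by_cases hj : j < 11
    · have h1 : r j = h.bas (Sum.inr (Sum.inl ⟨j, hj⟩)) := by rw [h.bas_apply]; rfl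
      rw [h1, Basis.coord_apply, Basis.repr_self, Finsupp.single_apply]
      simp
    · rw [h.r0 (by omega), map_zero]
  · rw [dif_neg hi, LinearMap.zero_apply]

/-- the expansion of a vector -/
theorem Bs.expand (h : Bs N H W p r c) (v : V) : v = ∑ n ∈ Finset.range 11, h.A n v • p n +
    ∑ n ∈ Finset.range 11, h.B n v • r n + ∑ n ∈ Finset.range 5, h.C n v • c n := by
  conv_lhs => rw [← h.bas.sum_repr v]
  rw [Fintype.sum_sum_type, Fintype.sum_sum_type, ← add_assoc, ← Fin.sum_univ_eq_sum_range (fun i => h.A i v • p i),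
    ← Fin.sum_univ_eq_sum_range (fun i => h.B i v • r i), ← Fin.sum_univ_eq_sum_range (fun i => h.C i v • c i)]
  congr 1
  · congr 1
    · refine Finset.sum_congr rfl fun i _ => ?_
      rw [h.bas_apply]
      unfold Bs.A
      rw [dif_pos i.2]
      rfl
    · refine Finset.sum_congr rfl fun i _ => ?_
      rw [h.bas_apply]
      unfold Bs.B
      rw [dif_pos i.2]
      rfl
  · refine Finset.sum_congr rfl fun i _ => ?_
    rw [h.bas_apply]
    unfold Bs.C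
    rw [dif_pos i.2]
    rfl

/-- linear maps are determined by the values on the chains -/
theorem Bs.ext {V₂ : Type*} [AddCommGroup V₂] [Module k V₂] (h : Bs N H W p r c) {f g : V →ₗ[k] V₂}
    (hp : ∀ n, f (p n) = g (p n)) (hr : ∀ n, f (r n) = g (r n)) (hc : ∀ n, f (c n) = g (c n)) : f = g := by
  refine LinearMap.ext fun v => ?_
  obtain ⟨a, b, e, rfl⟩ := h.sp v
  simp only [map_add, map_sum, map_smul, hp, hr, hc]

/-- linear maps with given values -/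
theorem Bs.lift {V₂ : Type*} [AddCommGroup V₂] [Module k V₂] (h : Bs N H W p r c) (x y z : ℕ → V₂) :
    ∃ f : V →ₗ[k] V₂, (∀ n < 11, f (p n) = x n) ∧ (∀ n < 11, f (r n) = y n) ∧ ∀ n < 5, f (c n) = z n := by
  refine ⟨h.bas.constr k (Sum.elim (fun i => x i) (Sum.elim (fun i => y i) fun i => z i)), fun n hn => ?_, fun n hn => ?_,
    fun n hn => ?_⟩
  · have h1 : p n = h.bas (Sum.inl ⟨n, hn⟩) := by rw [h.bas_apply]; rfl
    rw [h1, Basis.constr_basis]
    rfl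
  · have h1 : r n = h.bas (Sum.inr (Sum.inl ⟨n, hn⟩)) := by rw [h.bas_apply]; rfl
    rw [h1, Basis.constr_basis]
    rfl
  · have h1 : c n = h.bas (Sum.inr (Sum.inr ⟨n, hn⟩)) := by rw [h.bas_apply]; rfl
    rw [h1, Basis.constr_basis]
    rfl

/-! ### eigenvectors of `H` -/

theorem Bs.A_H (h : Bs N H W p r c) (n : ℕ) (v : V) : h.A n (H v) = 4 ^ (n + 1) * h.A n v := by
  have h1 : (h.A n).comp H = ((4 : k) ^ (n + 1)) • h.A n := by
    refine h.ext (fun m => ?_) (fun m => ?_) fun m => ?_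
    · rw [LinearMap.comp_apply, h.Hp, map_smul, LinearMap.smul_apply, h.A_p]
      by_cases hnm : n = m
      · rw [hnm]
      · rw [if_neg (fun h => hnm h.1), smul_zero, smul_zero]
    · rw [LinearMap.comp_apply, h.Hr, map_smul, LinearMap.smul_apply, h.A_r, smul_zero, smul_zero]
    · rw [LinearMap.comp_apply, h.Hc, map_smul, LinearMap.smul_apply, h.A_c, smul_zero, smul_zero]
  exact LinearMap.congr_fun h1 v

theorem Bs.B_H (h : Bs N H W p r c) (n : ℕ) (v : V) : h.B n (H v) = 4 ^ (n + 4) * h.B n v := by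
  have h1 : (h.B n).comp H = ((4 : k) ^ (n + 4)) • h.B n := by
    refine h.ext (fun m => ?_) (fun m => ?_) fun m => ?_
    · rw [LinearMap.comp_apply, h.Hp, map_smul, LinearMap.smul_apply, h.B_p, smul_zero, smul_zero]
    · rw [LinearMap.comp_apply, h.Hr, map_smul, LinearMap.smul_apply, h.B_r]
      by_cases hnm : n = m
      · rw [hnm]
      · rw [if_neg (fun h => hnm h.1), smul_zero, smul_zero]
    · rw [LinearMap.comp_apply, h.Hc, map_smul, LinearMap.smul_apply, h.B_c, smul_zero, smul_zero]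
  exact LinearMap.congr_fun h1 v

theorem Bs.C_H (h : Bs N H W p r c) (n : ℕ) (v : V) : h.C n (H v) = 4 ^ (n + 3) * h.C n v := by
  have h1 : (h.C n).comp H = ((4 : k) ^ (n + 3)) • h.C n := by
    refine h.ext (fun m => ?_) (fun m => ?_) fun m => ?_
    · rw [LinearMap.comp_apply, h.Hp, map_smul, LinearMap.smul_apply, h.C_p, smul_zero, smul_zero]
    · rw [LinearMap.comp_apply, h.Hr, map_smul, LinearMap.smul_apply, h.C_r, smul_zero, smul_zero]
    · rw [LinearMap.comp_apply, h.Hc, map_smul, LinearMap.smul_apply, h.C_c]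
      by_cases hnm : n = m
      · rw [hnm]
      · rw [if_neg (fun h => hnm h.1), smul_zero, smul_zero]
  exact LinearMap.congr_fun h1 v

theorem Bs.A_eig (h : Bs N H W p r c) {v : V} {s : ℕ} (hv : H v = (4 : k) ^ s • v) {n : ℕ} (hn : (n + 1) % 5 ≠ s % 5) :
    h.A n v = 0 := by
  have h1 := h.A_H n v
  rw [hv, map_smul, smul_eq_mul] at h1
  have h2 : ((4 : k) ^ (n + 1) - 4 ^ s) * h.A n v = 0 := by rw [sub_mul, h1, sub_self]
  exact (mul_eq_zero.1 h2).resolve_left (sub_ne_zero.2 (four_ne hn))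

theorem Bs.B_eig (h : Bs N H W p r c) {v : V} {s : ℕ} (hv : H v = (4 : k) ^ s • v) {n : ℕ} (hn : (n + 4) % 5 ≠ s % 5) :
    h.B n v = 0 := by
  have h1 := h.B_H n v
  rw [hv, map_smul, smul_eq_mul] at h1
  have h2 : ((4 : k) ^ (n + 4) - 4 ^ s) * h.B n v = 0 := by rw [sub_mul, h1, sub_self]
  exact (mul_eq_zero.1 h2).resolve_left (sub_ne_zero.2 (four_ne hn))

theorem Bs.C_eig (h : Bs N H W p r c) {v : V} {s : ℕ} (hv : H v = (4 : k) ^ s • v) {n : ℕ} (hn : (n + 3) % 5 ≠ s % 5) :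
    h.C n v = 0 := by
  have h1 := h.C_H n v
  rw [hv, map_smul, smul_eq_mul] at h1
  have h2 : ((4 : k) ^ (n + 3) - 4 ^ s) * h.C n v = 0 := by rw [sub_mul, h1, sub_self]
  exact (mul_eq_zero.1 h2).resolve_left (sub_ne_zero.2 (four_ne hn))

/-- the coordinates of `N v` -/
theorem Bs.A_N (h : Bs N H W p r c) {n : ℕ} (hn : n < 10) (v : V) : h.A (n + 1) (N v) = h.A n v := by
  have h1 : (h.A (n + 1)).comp N = h.A n := by
    refine h.ext (fun m => ?_) (fun m => ?_) fun m => ?_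
    · rw [LinearMap.comp_apply, h.Np, h.A_p, h.A_p]
      by_cases hnm : n = m
      · rw [if_pos (by omega), if_pos (by omega)]
      · rw [if_neg (by omega), if_neg (by omega)]
    · rw [LinearMap.comp_apply, h.Nr, h.A_r, h.A_r]
    · rw [LinearMap.comp_apply, h.Nc, h.A_c, h.A_c]
  exact LinearMap.congr_fun h1 v

theorem Bs.B_N (h : Bs N H W p r c) {n : ℕ} (hn : n < 10) (v : V) : h.B (n + 1) (N v) = h.B n v := by
  have h1 : (h.B (n + 1)).comp N = h.B n := by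
    refine h.ext (fun m => ?_) (fun m => ?_) fun m => ?_
    · rw [LinearMap.comp_apply, h.Np, h.B_p, h.B_p]
    · rw [LinearMap.comp_apply, h.Nr, h.B_r, h.B_r]
      by_cases hnm : n = m
      · rw [if_pos (by omega), if_pos (by omega)]
      · rw [if_neg (by omega), if_neg (by omega)]
    · rw [LinearMap.comp_apply, h.Nc, h.B_c, h.B_c]
  exact LinearMap.congr_fun h1 v

theorem Bs.C_N (h : Bs N H W p r c) {n : ℕ} (hn : n < 4) (v : V) : h.C (n + 1) (N v) = h.C n v := by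
  have h1 : (h.C (n + 1)).comp N = h.C n := by
    refine h.ext (fun m => ?_) (fun m => ?_) fun m => ?_
    · rw [LinearMap.comp_apply, h.Np, h.C_p, h.C_p]
    · rw [LinearMap.comp_apply, h.Nr, h.C_r, h.C_r]
    · rw [LinearMap.comp_apply, h.Nc, h.C_c, h.C_c]
      by_cases hnm : n = m
      · rw [if_pos (by omega), if_pos (by omega)]
      · rw [if_neg (by omega), if_neg (by omega)]
  exact LinearMap.congr_fun h1 v

/-- the kernel of `N` -/
theorem Bs.ker_N (h : Bs N H W p r c) {v : V} (hv : N v = 0) : v = h.A 10 v • p 10 + h.B 10 v • r 10 + h.C 4 v • c 4 := by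
  have hA : ∀ n < 10, h.A n v = 0 := fun n hn => by rw [← h.A_N hn, hv, map_zero]
  have hB : ∀ n < 10, h.B n v = 0 := fun n hn => by rw [← h.B_N hn, hv, map_zero]
  have hC : ∀ n < 4, h.C n v = 0 := fun n hn => by rw [← h.C_N hn, hv, map_zero]
  conv_lhs => rw [h.expand v]
  rw [Finset.sum_range_succ, Finset.sum_range_succ (fun n => h.B n v • r n), Finset.sum_range_succ (fun n => h.C n v • c n),
    Finset.sum_eq_zero fun n hn => by rw [hA n (Finset.mem_range.1 hn), zero_smul],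
    Finset.sum_eq_zero fun n hn => by rw [hB n (Finset.mem_range.1 hn), zero_smul],
    Finset.sum_eq_zero fun n hn => by rw [hC n (Finset.mem_range.1 hn), zero_smul], zero_add, zero_add, zero_add]

/-- the line of `p 10` -/
theorem Bs.line (h : Bs N H W p r c) {v : V} (hv : N v = 0) (hH : H v = (4 : k) • v) : ∃ d : k, v = d • p 10 := by
  have hH' : H v = (4 : k) ^ 1 • v := by rw [pow_one, hH]
  refine ⟨h.A 10 v, ?_⟩
  conv_lhs => rw [h.ker_N hv]
  rw [h.B_eig hH' (by norm_num), h.C_eig hH' (by norm_num), zero_smul, zero_smul, add_zero, add_zero]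

/-! ### skew forms -/

theorem sk {b : V →ₗ[k] V →ₗ[k] k} (hb : ∀ v w, b (N v) w = -b v (N w)) {q q' : ℕ → V} (hq : ∀ n, N (q n) = q (n + 1))
    (hq' : ∀ n, N (q' n) = q' (n + 1)) (i j : ℕ) : b (q i) (q' j) = (-1) ^ i * b (q 0) (q' (i + j)) := by
  induction i generalizing j with
  | zero => rw [pow_zero, one_mul, zero_add]
  | succ i ih =>
    rw [← hq, hb, hq', ih, show i + (j + 1) = i + 1 + j by ring]
    ring

theorem wt_zero {b : V →ₗ[k] V →ₗ[k] k} {s : ℕ} (hb : ∀ v w, b (H v) (H w) = 4 ^ s * b v w) {x y : V} {i j : ℕ}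
    (hx : H x = (4 : k) ^ i • x) (hy : H y = (4 : k) ^ j • y) (hij : (i + j) % 5 ≠ s % 5) : b x y = 0 := by
  have h1 := hb x y
  rw [hx, hy, map_smul, map_smul, LinearMap.smul_apply, smul_eq_mul, smul_eq_mul, ← mul_assoc, mul_comm (4 ^ j),
    ← pow_add] at h1
  have h2 : ((4 : k) ^ (i + j) - 4 ^ s) * b x y = 0 := by rw [sub_mul, h1, sub_self]
  exact (mul_eq_zero.1 h2).resolve_left (sub_ne_zero.2 (four_ne hij))

end Cfsg.Agent.R2.H14.E11
end

-- part: R2/H14/E11/Frm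
section
/-!
# S5749, S5750, box E11: invariant forms (helper14)

* `Sf` : the invariant bilinear forms; `Bs.sf` : every form invariant under `N`, `H`, `W` is of this shape;
* `Bf` : the forms `T(v₁₂, ·, ·)`; `Bs.bf`.
-/

set_option autoImplicit false
set_option linter.unusedSectionVars false

namespace Cfsg.Agent.R2.H14.E11

open Module

variable {k : Type*} [Field k] [CharP k 11] {V : Type*} [AddCommGroup V] [Module k V]
variable {N H W : V →ₗ[k] V} {p r c : ℕ → V}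

/-- the invariant forms -/
structure Sf (B : V →ₗ[k] V →ₗ[k] k) (p r c : ℕ → V) (s₁ s₂ s₃ : k) : Prop where
  pp : ∀ i j, B (p i) (p j) = if i + j = 8 then (-1) ^ i * s₂ else 0
  pr : ∀ i j, B (p i) (r j) = if i + j = 10 then (-1) ^ i * s₁ else 0
  pc : ∀ i j, B (p i) (c j) = 0
  rp : ∀ i j, B (r i) (p j) = if i + j = 10 then (-1) ^ i * s₁ else 0
  rr : ∀ i j, B (r i) (r j) = if i + j = 2 then (-1) ^ i * (9 * s₁) else 0
  rc : ∀ i j, B (r i) (c j) = 0
  cp : ∀ i j, B (c i) (p j) = 0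
  cr : ∀ i j, B (c i) (r j) = 0
  cc : ∀ i j, B (c i) (c j) = if i + j = 4 then (-1) ^ i * s₃ else 0

/-- **the invariant forms** -/
theorem Bs.sf (h : Bs N H W p r c) {B : V →ₗ[k] V →ₗ[k] k} (hN : ∀ v w, B (N v) w = -B v (N w))
    (hH : ∀ v w, B (H v) (H w) = B v w) (hW : ∀ v w, B (W v) (W w) = B v w) :
    Sf B p r c (B (p 0) (r 10)) (B (p 0) (p 8)) (B (c 0) (c 4)) := by
  have e11 := e11 k
  have hH' : ∀ v w, B (H v) (H w) = 4 ^ 0 * B v w := fun v w => by rw [pow_zero, one_mul, hH]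
  have pp := sk hN h.Np h.Np
  have pr := sk hN h.Np h.Nr
  have pc := sk hN h.Np h.Nc
  have rp := sk hN h.Nr h.Np
  have rr := sk hN h.Nr h.Nr
  have rc := sk hN h.Nr h.Nc
  have cp := sk hN h.Nc h.Np
  have cr := sk hN h.Nc h.Nr
  have cc := sk hN h.Nc h.Nc
  have zp : ∀ n, 11 ≤ n → p n = 0 := fun n => h.p0
  have zr : ∀ n, 11 ≤ n → r n = 0 := fun n => h.r0
  have zc : ∀ n, 5 ≤ n → c n = 0 := fun n => h.c0
  have wpp : ∀ n, n % 5 ≠ 3 → B (p 0) (p n) = 0 := fun n hn => wt_zero hH' (h.Hp 0) (h.Hp n) (by omega)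
  have wpr : ∀ n, n % 5 ≠ 0 → B (p 0) (r n) = 0 := fun n hn => wt_zero hH' (h.Hp 0) (h.Hr n) (by omega)
  have wpc : ∀ n, n % 5 ≠ 1 → B (p 0) (c n) = 0 := fun n hn => wt_zero hH' (h.Hp 0) (h.Hc n) (by omega)
  have wrp : ∀ n, n % 5 ≠ 0 → B (r 0) (p n) = 0 := fun n hn => wt_zero hH' (h.Hr 0) (h.Hp n) (by omega)
  have wrr : ∀ n, n % 5 ≠ 2 → B (r 0) (r n) = 0 := fun n hn => wt_zero hH' (h.Hr 0) (h.Hr n) (by omega)
  have wrc : ∀ n, n % 5 ≠ 3 → B (r 0) (c n) = 0 := fun n hn => wt_zero hH' (h.Hr 0) (h.Hc n) (by omega)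
  have wcp : ∀ n, n % 5 ≠ 1 → B (c 0) (p n) = 0 := fun n hn => wt_zero hH' (h.Hc 0) (h.Hp n) (by omega)
  have wcr : ∀ n, n % 5 ≠ 3 → B (c 0) (r n) = 0 := fun n hn => wt_zero hH' (h.Hc 0) (h.Hr n) (by omega)
  have wcc : ∀ n, n % 5 ≠ 4 → B (c 0) (c n) = 0 := fun n hn => wt_zero hH' (h.Hc 0) (h.Hc n) (by omega)
  have pp3 : B (p 0) (p 3) = 0 := by
    rw [← hW, h.Wp0, h.Wp3]
    simp only [map_add, map_smul, LinearMap.add_apply, LinearMap.smul_apply, pp 8, pr 8, rp 10, rr 10, Nat.reduceAdd,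
      zp 13 (by norm_num), zr 15 (by norm_num), zp 15 (by norm_num), zr 17 (by norm_num), map_zero, mul_zero, smul_zero, add_zero]
  have pr0 : B (p 0) (r 0) = 0 := by
    rw [← hW, h.Wp0, h.Wr0]
    simp only [map_add, map_smul, LinearMap.add_apply, LinearMap.smul_apply, pp 8, rp 10, Nat.reduceAdd,
      zp 18 (by norm_num), zp 20 (by norm_num), map_zero, mul_zero, smul_zero, add_zero]
  have pr5 : B (p 0) (r 5) = 0 := by
    rw [← hW, h.Wp0, h.Wr5]
    simp only [map_add, map_smul, LinearMap.add_apply, LinearMap.smul_apply, pr 8, rr 10, Nat.reduceAdd,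
      zr 15 (by norm_num), zr 17 (by norm_num), map_zero, mul_zero, smul_zero, add_zero]
  have pc1 : B (p 0) (c 1) = 0 := by
    rw [← hW, h.Wp0, h.Wc1]
    simp only [map_add, map_smul, LinearMap.add_apply, LinearMap.smul_apply, pc 8, rc 10, Nat.reduceAdd,
      zc 11 (by norm_num), zc 13 (by norm_num), map_zero, mul_zero, smul_zero, add_zero]
  have rp0 : B (r 0) (p 0) = 0 := by
    rw [← hW, h.Wp0, h.Wr0]
    simp only [map_add, map_smul, LinearMap.smul_apply, pp 10, pr 10, Nat.reduceAdd,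
      zp 18 (by norm_num), zr 20 (by norm_num), map_zero, mul_zero, smul_zero, add_zero]
  have rp5 : B (r 0) (p 5) = 0 := by
    rw [← hW, h.Wp5, h.Wr0]
    simp only [map_add, map_smul, LinearMap.smul_apply, pp 10, pr 10, Nat.reduceAdd,
      zp 13 (by norm_num), zr 15 (by norm_num), map_zero, mul_zero, smul_zero, add_zero]
  have rp10 : B (r 0) (p 10) = B (p 0) (r 10) := by
    rw [← hW, h.Wp10, h.Wr0]
    simp only [map_smul, LinearMap.smul_apply, pr 10, Nat.reduceAdd, smul_eq_mul]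
    linear_combination (9 * B (p 0) (r 10)) * e11
  have rr2 : B (r 0) (r 2) = 9 * B (p 0) (r 10) := by
    rw [← hW, h.Wr2, h.Wr0]
    simp only [map_add, map_smul, LinearMap.smul_apply, pr 10, Nat.reduceAdd, zr 20 (by norm_num), map_zero, mul_zero,
      smul_zero, add_zero, smul_eq_mul]
    linear_combination (B (p 0) (r 10)) * e11
  have rr7 : B (r 0) (r 7) = 0 := by
    rw [← hW, h.Wr7, h.Wr0]
    simp only [map_smul, LinearMap.smul_apply, pr 10, Nat.reduceAdd, zr 15 (by norm_num), map_zero, mul_zero,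
      smul_zero]
  have rc3 : B (r 0) (c 3) = 0 := by
    rw [← hW, h.Wc3, h.Wr0]
    simp only [map_smul, LinearMap.smul_apply, pc 10, Nat.reduceAdd, zc 11 (by norm_num), map_zero, mul_zero,
      smul_zero]
  have cp1 : B (c 0) (p 1) = 0 := by
    rw [← hW, h.Wc0, h.Wp1]
    simp only [map_add, map_smul, LinearMap.smul_apply, cp 4, cr 4, Nat.reduceAdd, zp 11 (by norm_num),
      zr 13 (by norm_num), map_zero, mul_zero, smul_zero, add_zero]
  have cp6 : B (c 0) (p 6) = 0 := by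
    have h1 := cp 5 1
    rw [h.zc, map_zero, LinearMap.zero_apply] at h1
    exact ((mul_eq_zero.1 h1.symm).resolve_left (pow_ne_zero _ (neg_ne_zero.2 one_ne_zero)))
  have cr3 : B (c 0) (r 3) = 0 := by
    rw [← hW, h.Wc0, h.Wr3]
    simp only [map_smul, LinearMap.smul_apply, cr 4, Nat.reduceAdd, zr 13 (by norm_num), map_zero, mul_zero,
      smul_zero]
  have cr8 : B (c 0) (r 8) = 0 := by
    have h1 := cr 5 3
    rw [h.zc, map_zero, LinearMap.zero_apply] at h1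
    exact ((mul_eq_zero.1 h1.symm).resolve_left (pow_ne_zero _ (neg_ne_zero.2 one_ne_zero)))
  refine ⟨fun i j => ?_, fun i j => ?_, fun i j => ?_, fun i j => ?_, fun i j => ?_, fun i j => ?_, fun i j => ?_,
    fun i j => ?_, fun i j => ?_⟩
  · rw [pp]
    by_cases hij : i + j = 8
    · rw [if_pos hij, hij]
    · rw [if_neg hij]
      by_cases h3 : i + j = 3
      · rw [h3, pp3, mul_zero]
      · by_cases h11 : 11 ≤ i + j
        · rw [zp _ h11, map_zero, mul_zero]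
        · rw [wpp _ (by omega), mul_zero]
  · rw [pr]
    by_cases hij : i + j = 10
    · rw [if_pos hij, hij]
    · rw [if_neg hij]
      by_cases h3 : i + j = 0
      · rw [h3, pr0, mul_zero]
      · by_cases h5 : i + j = 5
        · rw [h5, pr5, mul_zero]
        · by_cases h11 : 11 ≤ i + j
          · rw [zr _ h11, map_zero, mul_zero]
          · rw [wpr _ (by omega), mul_zero]
  · rw [pc]
    by_cases h3 : i + j = 1
    · rw [h3, pc1, mul_zero]
    · by_cases h11 : 5 ≤ i + j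
      · rw [zc _ h11, map_zero, mul_zero]
      · rw [wpc _ (by omega), mul_zero]
  · rw [rp]
    by_cases hij : i + j = 10
    · rw [if_pos hij, hij, rp10]
    · rw [if_neg hij]
      by_cases h3 : i + j = 0
      · rw [h3, rp0, mul_zero]
      · by_cases h5 : i + j = 5
        · rw [h5, rp5, mul_zero]
        · by_cases h11 : 11 ≤ i + j
          · rw [zp _ h11, map_zero, mul_zero]
          · rw [wrp _ (by omega), mul_zero]
  · rw [rr]
    by_cases hij : i + j = 2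
    · rw [if_pos hij, hij, rr2]
    · rw [if_neg hij]
      by_cases h3 : i + j = 7
      · rw [h3, rr7, mul_zero]
      · by_cases h11 : 11 ≤ i + j
        · rw [zr _ h11, map_zero, mul_zero]
        · rw [wrr _ (by omega), mul_zero]
  · rw [rc]
    by_cases h3 : i + j = 3
    · rw [h3, rc3, mul_zero]
    · by_cases h11 : 5 ≤ i + j
      · rw [zc _ h11, map_zero, mul_zero]
      · rw [wrc _ (by omega), mul_zero]
  · rw [cp]
    by_cases h3 : i + j = 1
    · rw [h3, cp1, mul_zero]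
    · by_cases h6 : i + j = 6
      · rw [h6, cp6, mul_zero]
      · by_cases h11 : 11 ≤ i + j
        · rw [zp _ h11, map_zero, mul_zero]
        · rw [wcp _ (by omega), mul_zero]
  · rw [cr]
    by_cases h3 : i + j = 3
    · rw [h3, cr3, mul_zero]
    · by_cases h6 : i + j = 8
      · rw [h6, cr8, mul_zero]
      · by_cases h11 : 11 ≤ i + j
        · rw [zr _ h11, map_zero, mul_zero]
        · rw [wcr _ (by omega), mul_zero]
  · rw [cc]
    by_cases hij : i + j = 4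
    · rw [if_pos hij, hij]
    · rw [if_neg hij]
      by_cases h11 : 5 ≤ i + j
      · rw [zc _ h11, map_zero, mul_zero]
      · rw [wcc _ (by omega), mul_zero]

/-- the forms `T(v₁₂, ·, ·)` -/
structure Bf (b : V →ₗ[k] V →ₗ[k] k) (p r c : ℕ → V) (α β γ δ η θ : k) : Prop where
  pp : ∀ i j, b (p i) (p j) = if i + j = 2 then (-1) ^ i * α else 0
  pr : ∀ i j, b (p i) (r j) = if i + j = 4 then (-1) ^ i * β else if i + j = 9 then (-1) ^ i * θ else 0
  pc : ∀ i j, b (p i) (c j) = if i + j = 0 then δ else 0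
  rr : ∀ i j, b (r i) (r j) = if i + j = 6 then (-1) ^ i * γ else 0
  rc : ∀ i j, b (r i) (c j) = if i + j = 2 then (-1) ^ i * η else 0
  cc : ∀ i j, b (c i) (c j) = 0
  comm : ∀ v w, b v w = b w v

/-- **the shape of the form** -/
theorem Bs.bf (h : Bs N H W p r c) {b : V →ₗ[k] V →ₗ[k] k} (hs : ∀ v w, b v w = b w v)
    (hN : ∀ v w, b (N v) w = -b v (N w)) (hH : ∀ v w, b (H v) (H w) = 4 ^ 4 * b v w) :
    Bf b p r c (b (p 0) (p 2)) (b (p 0) (r 4)) (b (r 0) (r 6)) (b (p 0) (c 0)) (b (r 0) (c 2)) (b (p 0) (r 9)) := by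
  have pp := sk hN h.Np h.Np
  have pr := sk hN h.Np h.Nr
  have pc := sk hN h.Np h.Nc
  have rr := sk hN h.Nr h.Nr
  have rc := sk hN h.Nr h.Nc
  have cc := sk hN h.Nc h.Nc
  have zp : ∀ n, 11 ≤ n → p n = 0 := fun n => h.p0
  have zr : ∀ n, 11 ≤ n → r n = 0 := fun n => h.r0
  have zc : ∀ n, 5 ≤ n → c n = 0 := fun n => h.c0
  have odd : ∀ {q : ℕ → V} (_ : ∀ i j, b (q i) (q j) = (-1) ^ i * b (q 0) (q (i + j))) (n : ℕ), Odd n → b (q 0) (q n) = 0 := by
    intro q hq n hn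
    have h1 := hq n 0
    rw [add_zero, hn.neg_one_pow, neg_one_mul, hs] at h1
    have h2 : (2 : k) * b (q 0) (q n) = 0 := by linear_combination h1
    exact (mul_eq_zero.1 h2).resolve_left two_ne
  have wpp : ∀ n, n % 5 ≠ 2 → b (p 0) (p n) = 0 := fun n hn => wt_zero hH (h.Hp 0) (h.Hp n) (by omega)
  have wpr : ∀ n, n % 5 ≠ 4 → b (p 0) (r n) = 0 := fun n hn => wt_zero hH (h.Hp 0) (h.Hr n) (by omega)
  have wpc : ∀ n, n % 5 ≠ 0 → b (p 0) (c n) = 0 := fun n hn => wt_zero hH (h.Hp 0) (h.Hc n) (by omega)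
  have wrr : ∀ n, n % 5 ≠ 1 → b (r 0) (r n) = 0 := fun n hn => wt_zero hH (h.Hr 0) (h.Hr n) (by omega)
  have wrc : ∀ n, n % 5 ≠ 2 → b (r 0) (c n) = 0 := fun n hn => wt_zero hH (h.Hr 0) (h.Hc n) (by omega)
  have wcc : ∀ n, n % 5 ≠ 3 → b (c 0) (c n) = 0 := fun n hn => wt_zero hH (h.Hc 0) (h.Hc n) (by omega)
  refine ⟨fun i j => ?_, fun i j => ?_, fun i j => ?_, fun i j => ?_, fun i j => ?_, fun i j => ?_, hs⟩
  · rw [pp]
    by_cases hij : i + j = 2
    · rw [if_pos hij, hij]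
    · rw [if_neg hij]
      by_cases h3 : i + j = 7
      · rw [h3, odd pp 7 (by decide), mul_zero]
      · by_cases h11 : 11 ≤ i + j
        · rw [zp _ h11, map_zero, mul_zero]
        · rw [wpp _ (by omega), mul_zero]
  · rw [pr]
    by_cases hij : i + j = 4
    · rw [if_pos hij, hij]
    · rw [if_neg hij]
      by_cases h3 : i + j = 9
      · rw [if_pos h3, h3]
      · rw [if_neg h3]
        by_cases h11 : 11 ≤ i + j
        · rw [zr _ h11, map_zero, mul_zero]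
        · rw [wpr _ (by omega), mul_zero]
  · rw [pc]
    by_cases hij : i + j = 0
    · rw [if_pos hij, hij, show i = 0 by omega, pow_zero, one_mul]
    · rw [if_neg hij]
      by_cases h11 : 5 ≤ i + j
      · rw [zc _ h11, map_zero, mul_zero]
      · rw [wpc _ (by omega), mul_zero]
  · rw [rr]
    by_cases hij : i + j = 6
    · rw [if_pos hij, hij]
    · rw [if_neg hij]
      by_cases h3 : i + j = 1
      · rw [h3, odd rr 1 (by decide), mul_zero]
      · by_cases h11 : 11 ≤ i + j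
        · rw [zr _ h11, map_zero, mul_zero]
        · rw [wrr _ (by omega), mul_zero]
  · rw [rc]
    by_cases hij : i + j = 2
    · rw [if_pos hij, hij]
    · rw [if_neg hij]
      by_cases h11 : 5 ≤ i + j
      · rw [zc _ h11, map_zero, mul_zero]
      · rw [wrc _ (by omega), mul_zero]
  · rw [cc]
    by_cases h3 : i + j = 3
    · rw [h3, odd cc 3 (by decide), mul_zero]
    · by_cases h11 : 5 ≤ i + j
      · rw [zc _ h11, map_zero, mul_zero]
      · rw [wcc _ (by omega), mul_zero]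

end Cfsg.Agent.R2.H14.E11
end

-- part: R2/H14/E11/Ker
section
/-!
# S5749, S5750, box E11: the kernel of the form `T(v₁₂, ·, ·)` (helper14)

* `Bf.theta` : `θ = 0` if the kernel has dimension at least 8;
* `Bf.delta` : `α γ ≠ β ^ 2` if the kernel has dimension at most 17;
* `Bf.ker` : the kernel; `Bf.uniq` : the functionals on the kernel.
-/

set_option autoImplicit false
set_option linter.unusedSectionVars false
set_option linter.unusedSimpArgs false

namespace Cfsg.Agent.R2.H14.E11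

open Module

variable {k : Type*} [Field k] [CharP k 11] {V : Type*} [AddCommGroup V] [Module k V]
variable {N H W : V →ₗ[k] V} {p r c : ℕ → V}

theorem Bs.finite (h : Bs N H W p r c) : Module.Finite k V := Module.Finite.of_basis h.bas

theorem Bs.finrank (h : Bs N H W p r c) : Module.finrank k V = 27 := by
  rw [Module.finrank_eq_card_basis h.bas]
  rfl

theorem Bs.sum (h : Bs N H W p r c) {V₂ : Type*} [AddCommGroup V₂] [Module k V₂] (f : V →ₗ[k] V₂) (v : V) :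
    f v = ∑ n ∈ Finset.range 11, h.A n v • f (p n) + ∑ n ∈ Finset.range 11, h.B n v • f (r n) +
      ∑ n ∈ Finset.range 5, h.C n v • f (c n) := by
  conv_lhs => rw [h.expand v]
  simp only [map_add, map_sum, map_smul]

theorem Bs.sum2 (h : Bs N H W p r c) (b : V →ₗ[k] V →ₗ[k] k) (v w : V) :
    b v w = ∑ n ∈ Finset.range 11, h.A n v * b (p n) w + ∑ n ∈ Finset.range 11, h.B n v * b (r n) w +
      ∑ n ∈ Finset.range 5, h.C n v * b (c n) w :=
  h.sum (b.flip w) v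

variable {b : V →ₗ[k] V →ₗ[k] k} {α β γ δ η θ : k}

theorem Bf.rp (hb : Bf b p r c α β γ δ η θ) (i j : ℕ) : b (r i) (p j) =
    if j + i = 4 then (-1) ^ j * β else if j + i = 9 then (-1) ^ j * θ else 0 := by rw [hb.comm, hb.pr]

theorem Bf.cp (hb : Bf b p r c α β γ δ η θ) (i j : ℕ) : b (c i) (p j) = if j + i = 0 then δ else 0 := by
  rw [hb.comm, hb.pc]

theorem Bf.cr (hb : Bf b p r c α β γ δ η θ) (i j : ℕ) : b (c i) (r j) = if j + i = 2 then (-1) ^ j * η else 0 := by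
  rw [hb.comm, hb.rc]

/-- **`θ = 0`** -/
theorem Bf.theta (h : Bs N H W p r c) (hb : Bf b p r c α β γ δ η θ) (hk : 8 ≤ finrank k (LinearMap.ker b)) : θ = 0 := by
  by_contra hθ
  have hfin := h.finite
  let f : LinearMap.ker b →ₗ[k] (Fin 7 → k) :=
    (LinearMap.pi ![h.A 10, h.B 10, h.C 0, h.C 1, h.C 2, h.C 3, h.C 4]).comp (Submodule.subtype _)
  have hf : Function.Injective f := by
    rw [← LinearMap.ker_eq_bot, LinearMap.ker_eq_bot']
    rintro ⟨v, hv⟩ hfv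
    have hv' : ∀ w, b v w = 0 := fun w => by rw [LinearMap.mem_ker.1 hv, LinearMap.zero_apply]
    have f0 : h.A 10 v = 0 := congrFun hfv 0
    have f1 : h.B 10 v = 0 := congrFun hfv 1
    have f2 : h.C 0 v = 0 := congrFun hfv 2
    have f3 : h.C 1 v = 0 := congrFun hfv 3
    have f4 : h.C 2 v = 0 := congrFun hfv 4
    have f5 : h.C 3 v = 0 := congrFun hfv 5
    have f6 : h.C 4 v = 0 := congrFun hfv 6
    have hC : ∀ n ∈ Finset.range 5, h.C n v = 0 := by
      intro n hn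
      rw [Finset.mem_range] at hn
      interval_cases n <;> assumption
    have key : ∀ n, n < 11 → h.A n v = 0 ∧ h.B n v = 0 := by
      intro n
      induction n using Nat.strong_induction_on with
      | _ n ih =>
        intro hn
        by_cases h10 : n = 10
        · rw [h10]
          exact ⟨f0, f1⟩
        constructor
        · have h1 := hv' (r (9 - n))
          rw [h.sum2 b] at h1
          have h3 : ∑ m ∈ Finset.range 5, h.C m v * b (c m) (r (9 - n)) = 0 :=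
            Finset.sum_eq_zero fun m hm => by rw [hC m hm, zero_mul]
          have h2 : ∑ m ∈ Finset.range 11, h.B m v * b (r m) (r (9 - n)) = 0 := by
            refine Finset.sum_eq_zero fun m hm => ?_
            rw [hb.rr]
            by_cases hm6 : m + (9 - n) = 6
            · rw [(ih m (by omega) (by omega)).2, zero_mul]
            · rw [if_neg hm6, mul_zero]
          have h4 : ∑ m ∈ Finset.range 11, h.A m v * b (p m) (r (9 - n)) = h.A n v * ((-1) ^ n * θ) := by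
            rw [Finset.sum_eq_single n]
            · rw [hb.pr, if_neg (by omega), if_pos (by omega)]
            · intro m hm hmn
              rw [hb.pr]
              by_cases hm4 : m + (9 - n) = 4
              · rw [(ih m (by omega) (by omega)).1, zero_mul]
              · rw [if_neg hm4, if_neg (by omega), mul_zero]
            · intro hn'
              exact absurd (Finset.mem_range.2 hn) hn'
          rw [h2, h3, h4, add_zero, add_zero] at h1
          exact (mul_eq_zero.1 h1).resolve_right (mul_ne_zero (pow_ne_zero _ (neg_ne_zero.2 one_ne_zero)) hθ)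
        · have h1 := hv' (p (9 - n))
          rw [h.sum2 b] at h1
          have h3 : ∑ m ∈ Finset.range 5, h.C m v * b (c m) (p (9 - n)) = 0 :=
            Finset.sum_eq_zero fun m hm => by rw [hC m hm, zero_mul]
          have h2 : ∑ m ∈ Finset.range 11, h.A m v * b (p m) (p (9 - n)) = 0 := by
            refine Finset.sum_eq_zero fun m hm => ?_
            rw [hb.pp]
            by_cases hm6 : m + (9 - n) = 2
            · rw [(ih m (by omega) (by omega)).1, zero_mul]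
            · rw [if_neg hm6, mul_zero]
          have h4 : ∑ m ∈ Finset.range 11, h.B m v * b (r m) (p (9 - n)) = h.B n v * ((-1) ^ (9 - n) * θ) := by
            rw [Finset.sum_eq_single n]
            · rw [hb.rp, if_neg (by omega), if_pos (by omega)]
            · intro m hm hmn
              rw [hb.rp]
              by_cases hm4 : (9 - n) + m = 4
              · rw [(ih m (by omega) (by omega)).2, zero_mul]
              · rw [if_neg hm4, if_neg (by omega), mul_zero]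
            · intro hn'
              exact absurd (Finset.mem_range.2 hn) hn'
          rw [h2, h3, h4, add_zero, zero_add] at h1
          exact (mul_eq_zero.1 h1).resolve_right (mul_ne_zero (pow_ne_zero _ (neg_ne_zero.2 one_ne_zero)) hθ)
    apply Subtype.ext
    show v = 0
    rw [h.expand v, Finset.sum_eq_zero fun n hn => by rw [(key n (Finset.mem_range.1 hn)).1, zero_smul],
      Finset.sum_eq_zero fun n hn => by rw [(key n (Finset.mem_range.1 hn)).2, zero_smul],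
      Finset.sum_eq_zero fun n hn => by rw [hC n hn, zero_smul], add_zero, add_zero]
  have h1 := LinearMap.finrank_le_finrank_of_injective hf
  rw [finrank_fintype_fun_eq_card, Fintype.card_fin] at h1
  omega

section zero

variable (hb : Bf b p r c α β γ δ η 0)
include hb

theorem Bf.pr0 (i j : ℕ) : b (p i) (r j) = if i + j = 4 then (-1) ^ i * β else 0 := by
  rw [hb.pr, mul_zero]
  simp only [_root_.ite_self]

theorem Bf.rp0 (i j : ℕ) : b (r i) (p j) = if j + i = 4 then (-1) ^ j * β else 0 := by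
  rw [hb.rp, mul_zero]
  simp only [_root_.ite_self]

/-- the form on the basis vectors -/
theorem Bf.v_p0 (h : Bs N H W p r c) (v : V) : b v (p 0) = α * h.A 2 v + β * h.B 4 v + δ * h.C 0 v := by
  rw [h.sum2 b]
  simp only [Finset.sum_range_succ, hb.pp, hb.rp0, hb.cp, _root_.add_zero, _root_.mul_ite, _root_.MulZeroClass.mul_zero, _root_.Finset.sum_ite_eq', _root_.Finset.mem_range, _root_.Nat.reduceLT, ↓ _root_.reduceIte, _root_.even_two, _root_.Even.neg_pow, _root_.one_pow, _root_.one_mul, _root_.zero_add, _root_.pow_zero, _root_.Nat.ofNat_pos]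
  ring

theorem Bf.v_p1 (h : Bs N H W p r c) (v : V) : b v (p 1) = -(α * h.A 1 v + β * h.B 3 v) := by
  rw [h.sum2 b]
  simp only [Finset.sum_range_succ, hb.pp, hb.rp0, hb.cp, _root_.Nat.reduceEqDiff, _root_.mul_ite, _root_.MulZeroClass.mul_zero, _root_.Finset.sum_ite_eq', _root_.Finset.mem_range, _root_.Nat.one_lt_ofNat, ↓ _root_.reduceIte, _root_.pow_one, _root_.neg_mul, _root_.one_mul, _root_.mul_neg, _root_.Finset.range_one, _root_.Finset.sum_singleton, _root_.add_zero, _root_.OfNat.one_ne_ofNat, _root_.Nat.reduceAdd, _root_.zero_add, _root_.Nat.succ_ne_self, _root_.Nat.add_eq_zero_iff, _root_.one_ne_zero, _root_.false_and, _root_.Finset.sum_const_zero, _root_.neg_add_rev]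
  ring

theorem Bf.v_p2 (h : Bs N H W p r c) (v : V) : b v (p 2) = α * h.A 0 v + β * h.B 2 v := by
  rw [h.sum2 b]
  simp only [Finset.sum_range_succ, hb.pp, hb.rp0, hb.cp, _root_.Nat.add_eq_right, _root_.mul_ite, _root_.MulZeroClass.mul_zero, _root_.Finset.sum_ite_eq', _root_.Finset.mem_range, _root_.Nat.ofNat_pos, ↓ _root_.reduceIte, _root_.pow_zero, _root_.one_mul, _root_.even_two, _root_.Even.neg_pow, _root_.one_pow, _root_.Finset.range_one, _root_.Finset.sum_singleton, _root_.add_zero, _root_.Nat.reduceEqDiff, _root_.Nat.reduceAdd, _root_.zero_add, _root_.Nat.succ_ne_self, _root_.Nat.add_eq_zero_iff, _root_.OfNat.ofNat_ne_zero, _root_.false_and, _root_.Finset.sum_const_zero]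
  ring

theorem Bf.v_p3 (h : Bs N H W p r c) (v : V) : b v (p 3) = -(β * h.B 1 v) := by
  rw [h.sum2 b]
  simp only [Finset.sum_range_succ, hb.pp, hb.rp0, hb.cp, _root_.Nat.reduceEqDiff, ↓ _root_.reduceIte, _root_.MulZeroClass.mul_zero, _root_.Finset.sum_const_zero, _root_.mul_ite, _root_.Finset.range_one, _root_.Finset.sum_singleton, _root_.add_zero, _root_.Nat.reduceAdd, _root_.zero_add, _root_.Nat.succ_ne_self, _root_.Nat.add_eq_zero_iff, _root_.OfNat.ofNat_ne_zero, _root_.false_and]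
  ring

theorem Bf.v_p4 (h : Bs N H W p r c) (v : V) : b v (p 4) = β * h.B 0 v := by
  rw [h.sum2 b]
  simp only [Finset.sum_range_succ, hb.pp, hb.rp0, hb.cp, _root_.Nat.reduceEqDiff, ↓ _root_.reduceIte, _root_.MulZeroClass.mul_zero, _root_.Finset.sum_const_zero, _root_.Nat.add_eq_left, _root_.mul_ite, _root_.Finset.sum_ite_eq', _root_.Finset.mem_range, _root_.Nat.ofNat_pos, _root_.zero_add, _root_.Nat.add_eq_zero_iff, _root_.OfNat.ofNat_ne_zero, _root_.false_and, _root_.add_zero]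
  ring

theorem Bf.v_r0 (h : Bs N H W p r c) (v : V) : b v (r 0) = β * h.A 4 v + γ * h.B 6 v + η * h.C 2 v := by
  rw [h.sum2 b]
  simp only [Finset.sum_range_succ, hb.pr0, hb.rr, hb.cr, _root_.add_zero, _root_.mul_ite, _root_.MulZeroClass.mul_zero, _root_.Finset.sum_ite_eq', _root_.Finset.mem_range, _root_.Nat.reduceLT, ↓ _root_.reduceIte, _root_.zero_add, _root_.pow_zero, _root_.one_mul]
  ring

theorem Bf.v_r1 (h : Bs N H W p r c) (v : V) : b v (r 1) = -(β * h.A 3 v + γ * h.B 5 v + η * h.C 1 v) := by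
  rw [h.sum2 b]
  simp only [Finset.sum_range_succ, hb.pr0, hb.rr, hb.cr, _root_.Nat.reduceEqDiff, _root_.mul_ite, _root_.MulZeroClass.mul_zero, _root_.Finset.sum_ite_eq', _root_.Finset.mem_range, _root_.Nat.reduceLT, ↓ _root_.reduceIte, _root_.pow_one, _root_.neg_mul, _root_.one_mul, _root_.mul_neg, _root_.Finset.range_one, _root_.Finset.sum_singleton, _root_.add_zero, _root_.OfNat.one_ne_ofNat, _root_.Nat.reduceAdd, _root_.zero_add, _root_.Nat.succ_ne_self, _root_.neg_add_rev]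
  ring

theorem Bf.v_r2 (h : Bs N H W p r c) (v : V) : b v (r 2) = β * h.A 2 v + γ * h.B 4 v + η * h.C 0 v := by
  rw [h.sum2 b]
  simp only [Finset.sum_range_succ, hb.pr0, hb.rr, hb.cr, _root_.Nat.reduceEqDiff, _root_.mul_ite, _root_.MulZeroClass.mul_zero, _root_.Finset.sum_ite_eq', _root_.Finset.mem_range, _root_.Nat.reduceLT, ↓ _root_.reduceIte, _root_.even_two, _root_.Even.neg_pow, _root_.one_pow, _root_.one_mul, _root_.Nat.add_eq_left, _root_.Nat.ofNat_pos]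
  ring

theorem Bf.v_r3 (h : Bs N H W p r c) (v : V) : b v (r 3) = -(β * h.A 1 v + γ * h.B 3 v) := by
  rw [h.sum2 b]
  simp only [Finset.sum_range_succ, hb.pr0, hb.rr, hb.cr, _root_.Nat.reduceEqDiff, _root_.mul_ite, _root_.MulZeroClass.mul_zero, _root_.Finset.sum_ite_eq', _root_.Finset.mem_range, _root_.Nat.one_lt_ofNat, ↓ _root_.reduceIte, _root_.pow_one, _root_.neg_mul, _root_.one_mul, _root_.mul_neg, _root_.Nat.reduceLT, _root_.Finset.range_one, _root_.Finset.sum_singleton, _root_.add_zero, _root_.Nat.succ_ne_self, _root_.Nat.reduceAdd, _root_.neg_add_rev]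
  ring

theorem Bf.v_r4 (h : Bs N H W p r c) (v : V) : b v (r 4) = β * h.A 0 v + γ * h.B 2 v := by
  rw [h.sum2 b]
  simp only [Finset.sum_range_succ, hb.pr0, hb.rr, hb.cr, _root_.Nat.add_eq_right, _root_.mul_ite, _root_.MulZeroClass.mul_zero, _root_.Finset.sum_ite_eq', _root_.Finset.mem_range, _root_.Nat.ofNat_pos, ↓ _root_.reduceIte, _root_.pow_zero, _root_.one_mul, _root_.Nat.reduceEqDiff, _root_.Nat.reduceLT, _root_.even_two, _root_.Even.neg_pow, _root_.one_pow, _root_.Finset.range_one, _root_.Finset.sum_singleton, _root_.add_zero, _root_.Nat.reduceAdd]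
  ring

theorem Bf.v_r5 (h : Bs N H W p r c) (v : V) : b v (r 5) = -(γ * h.B 1 v) := by
  rw [h.sum2 b]
  simp only [Finset.sum_range_succ, hb.pr0, hb.rr, hb.cr, _root_.Nat.reduceEqDiff, ↓ _root_.reduceIte, _root_.MulZeroClass.mul_zero, _root_.Finset.sum_const_zero, _root_.mul_ite, _root_.Finset.sum_ite_eq', _root_.Finset.mem_range, _root_.Nat.one_lt_ofNat, _root_.pow_one, _root_.neg_mul, _root_.one_mul, _root_.mul_neg, _root_.zero_add, _root_.Finset.range_one, _root_.Finset.sum_singleton, _root_.add_zero, _root_.Nat.reduceAdd, _root_.neg_inj]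
  ring

theorem Bf.v_r6 (h : Bs N H W p r c) (v : V) : b v (r 6) = γ * h.B 0 v := by
  rw [h.sum2 b]
  simp only [Finset.sum_range_succ, hb.pr0, hb.rr, hb.cr, _root_.Nat.reduceEqDiff, ↓ _root_.reduceIte, _root_.MulZeroClass.mul_zero, _root_.Finset.sum_const_zero, _root_.Nat.add_eq_right, _root_.mul_ite, _root_.Finset.sum_ite_eq', _root_.Finset.mem_range, _root_.Nat.ofNat_pos, _root_.pow_zero, _root_.one_mul, _root_.zero_add, _root_.Finset.range_one, _root_.Finset.sum_singleton, _root_.add_zero, _root_.Nat.reduceAdd]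
  ring

theorem Bf.v_c0 (h : Bs N H W p r c) (v : V) : b v (c 0) = δ * h.A 0 v + η * h.B 2 v := by
  rw [h.sum2 b]
  simp only [Finset.sum_range_succ, hb.pc, hb.rc, hb.cc, _root_.add_zero, _root_.mul_ite, _root_.MulZeroClass.mul_zero, _root_.Finset.sum_ite_eq', _root_.Finset.mem_range, _root_.Nat.ofNat_pos, ↓ _root_.reduceIte, _root_.Nat.reduceLT, _root_.even_two, _root_.Even.neg_pow, _root_.one_pow, _root_.one_mul, _root_.Finset.sum_const_zero]
  ring

theorem Bf.v_c1 (h : Bs N H W p r c) (v : V) : b v (c 1) = -(η * h.B 1 v) := by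
  rw [h.sum2 b]
  simp only [Finset.sum_range_succ, hb.pc, hb.rc, hb.cc, _root_.Nat.add_eq_zero_iff, _root_.one_ne_zero, _root_.and_false, ↓ _root_.reduceIte, _root_.MulZeroClass.mul_zero, _root_.Finset.sum_const_zero, _root_.Nat.reduceEqDiff, _root_.mul_ite, _root_.Finset.sum_ite_eq', _root_.Finset.mem_range, _root_.Nat.one_lt_ofNat, _root_.pow_one, _root_.neg_mul, _root_.one_mul, _root_.mul_neg, _root_.zero_add, _root_.add_zero, _root_.neg_inj]
  ring

theorem Bf.v_c2 (h : Bs N H W p r c) (v : V) : b v (c 2) = η * h.B 0 v := by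
  rw [h.sum2 b]
  simp only [Finset.sum_range_succ, hb.pc, hb.rc, hb.cc, _root_.Nat.add_eq_zero_iff, _root_.OfNat.ofNat_ne_zero, _root_.and_false, ↓ _root_.reduceIte, _root_.MulZeroClass.mul_zero, _root_.Finset.sum_const_zero, _root_.Nat.add_eq_right, _root_.mul_ite, _root_.Finset.sum_ite_eq', _root_.Finset.mem_range, _root_.Nat.ofNat_pos, _root_.pow_zero, _root_.one_mul, _root_.zero_add, _root_.add_zero]
  ring

theorem Bf.v_p (h : Bs N H W p r c) (v : V) {n : ℕ} (hn : 5 ≤ n) : b v (p n) = 0 := by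
  rw [h.sum2 b]
  simp only [hb.pp, hb.rp0, hb.cp]
  rw [Finset.sum_eq_zero fun m _ => by rw [if_neg (by omega), mul_zero],
    Finset.sum_eq_zero fun m _ => by rw [if_neg (by omega), mul_zero],
    Finset.sum_eq_zero fun m _ => by rw [if_neg (by omega), mul_zero], add_zero, add_zero]

theorem Bf.v_r (h : Bs N H W p r c) (v : V) {n : ℕ} (hn : 7 ≤ n) : b v (r n) = 0 := by
  rw [h.sum2 b]
  simp only [hb.pr0, hb.rr, hb.cr]
  rw [Finset.sum_eq_zero fun m _ => by rw [if_neg (by omega), mul_zero],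
    Finset.sum_eq_zero fun m _ => by rw [if_neg (by omega), mul_zero],
    Finset.sum_eq_zero fun m _ => by rw [if_neg (by omega), mul_zero], add_zero, add_zero]

theorem Bf.v_c (h : Bs N H W p r c) (v : V) {n : ℕ} (hn : 3 ≤ n) : b v (c n) = 0 := by
  rw [h.sum2 b]
  simp only [hb.pc, hb.rc, hb.cc]
  rw [Finset.sum_eq_zero fun m _ => by rw [if_neg (by omega), mul_zero],
    Finset.sum_eq_zero fun m _ => by rw [if_neg (by omega), mul_zero],
    Finset.sum_eq_zero fun m _ => by rw [mul_zero], add_zero, add_zero]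

/-- membership in the kernel -/
theorem Bf.mem_ker (h : Bs N H W p r c) {v : V} (hA : h.A 0 v = 0) (h0 : h.B 0 v = 0) (h1 : h.B 1 v = 0)
    (h2 : h.B 2 v = 0) (hr0 : b v (r 0) = 0) (hr1 : b v (r 1) = 0) (hr2 : b v (r 2) = 0) (hp0 : b v (p 0) = 0)
    (hp1 : b v (p 1) = 0) (hr3 : b v (r 3) = 0) : b v = 0 := by
  refine h.ext (fun n => ?_) (fun n => ?_) fun n => ?_
  · rw [LinearMap.zero_apply]
    by_cases hn : 5 ≤ n
    · exact hb.v_p h v hn
    · push Not at hn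
      interval_cases n
      · exact hp0
      · exact hp1
      · rw [hb.v_p2 h, hA, h2, mul_zero, mul_zero, add_zero]
      · rw [hb.v_p3 h, h1, mul_zero, neg_zero]
      · rw [hb.v_p4 h, h0, mul_zero]
  · rw [LinearMap.zero_apply]
    by_cases hn : 7 ≤ n
    · exact hb.v_r h v hn
    · push Not at hn
      interval_cases n
      · exact hr0
      · exact hr1
      · exact hr2
      · exact hr3
      · rw [hb.v_r4 h, hA, h2, mul_zero, mul_zero, add_zero]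
      · rw [hb.v_r5 h, h1, mul_zero, neg_zero]
      · rw [hb.v_r6 h, h0, mul_zero]
  · rw [LinearMap.zero_apply]
    by_cases hn : 3 ≤ n
    · exact hb.v_c h v hn
    · push Not at hn
      interval_cases n
      · rw [hb.v_c0 h, hA, h2, mul_zero, mul_zero, add_zero]
      · rw [hb.v_c1 h, h1, mul_zero, neg_zero]
      · rw [hb.v_c2 h, h0, mul_zero]

/-- **`α γ ≠ β ^ 2`** -/
theorem Bf.delta (h : Bs N H W p r c) (hk : finrank k (LinearMap.ker b) ≤ 17) : α * γ - β ^ 2 ≠ 0 := by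
  intro hΔ
  have hfin := h.finite
  obtain ⟨g, hg1, hg3⟩ : ∃ g : V →ₗ[k] k, (∀ v, g v = 0 → b v (p 1) = 0) ∧ ∀ v, g v = 0 → b v (r 3) = 0 := by
    by_cases hα : α = 0
    · have hβ : β = 0 := by
        rw [hα, zero_mul, zero_sub, neg_eq_zero] at hΔ
        exact (pow_eq_zero_iff two_ne_zero).1 hΔ
      refine ⟨h.B 3, fun v hv => ?_, fun v hv => ?_⟩
      · rw [hb.v_p1 h, hα, hβ, zero_mul, zero_mul, add_zero, neg_zero]
      · rw [hb.v_r3 h, hβ, hv, zero_mul, mul_zero, add_zero, neg_zero]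
    · refine ⟨b.flip (p 1), fun v hv => hv, fun v hv => ?_⟩
      have h1 : b v (p 1) = 0 := hv
      rw [hb.v_p1 h, neg_eq_zero] at h1
      rw [hb.v_r3 h, neg_eq_zero]
      have h2 : α * (β * h.A 1 v + γ * h.B 3 v) = 0 := by linear_combination β * h1 + h.B 3 v * hΔ
      exact (mul_eq_zero.1 h2).resolve_left hα
  let f : V →ₗ[k] (Fin 9 → k) := LinearMap.pi ![h.A 0, h.B 0, h.B 1, h.B 2, b.flip (r 0), b.flip (r 1), b.flip (r 2),
    b.flip (p 0), g]
  have hle : LinearMap.ker f ≤ LinearMap.ker b := by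
    intro v hv
    rw [LinearMap.mem_ker] at hv ⊢
    have f8 : g v = 0 := congrFun hv 8
    exact hb.mem_ker h (congrFun hv 0) (congrFun hv 1) (congrFun hv 2) (congrFun hv 3) (congrFun hv 4) (congrFun hv 5)
      (congrFun hv 6) (congrFun hv 7) (hg1 v f8) (hg3 v f8)
  have h1 := LinearMap.finrank_range_add_finrank_ker f
  have h2 := Submodule.finrank_le (LinearMap.range f)
  rw [finrank_fintype_fun_eq_card, Fintype.card_fin] at h2
  have h3 := Submodule.finrank_mono hle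
  rw [h.finrank] at h1
  omega

/-- the coordinates of the elements of the kernel -/
theorem Bf.ker (h : Bs N H W p r c) (hΔ : α * γ - β ^ 2 ≠ 0) {v : V} (hv : ∀ w, b v w = 0) :
    h.A 0 v = 0 ∧ h.A 1 v = 0 ∧ h.B 0 v = 0 ∧ h.B 1 v = 0 ∧ h.B 2 v = 0 ∧ h.B 3 v = 0 := by
  have h1 : ∀ x y : k, α * x + β * y = 0 → β * x + γ * y = 0 → x = 0 ∧ y = 0 := by
    intro x y e1 e2
    constructor
    · have h2 : (α * γ - β ^ 2) * x = 0 := by linear_combination γ * e1 - β * e2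
      exact (mul_eq_zero.1 h2).resolve_left hΔ
    · have h2 : (α * γ - β ^ 2) * y = 0 := by linear_combination α * e2 - β * e1
      exact (mul_eq_zero.1 h2).resolve_left hΔ
  have h2 : ∀ y : k, β * y = 0 → γ * y = 0 → y = 0 := by
    intro y e1 e2
    have h2 : (α * γ - β ^ 2) * y = 0 := by linear_combination α * e2 - β * e1
    exact (mul_eq_zero.1 h2).resolve_left hΔ
  have e1 := hv (p 1)
  have e2 := hv (r 3)
  have e3 := hv (p 2)
  have e4 := hv (r 4)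
  have e5 := hv (p 3)
  have e6 := hv (r 5)
  have e7 := hv (p 4)
  have e8 := hv (r 6)
  rw [hb.v_p1 h, neg_eq_zero] at e1
  rw [hb.v_r3 h, neg_eq_zero] at e2
  rw [hb.v_p2 h] at e3
  rw [hb.v_r4 h] at e4
  rw [hb.v_p3 h, neg_eq_zero] at e5
  rw [hb.v_r5 h, neg_eq_zero] at e6
  rw [hb.v_p4 h] at e7
  rw [hb.v_r6 h] at e8
  exact ⟨(h1 _ _ e3 e4).1, (h1 _ _ e1 e2).1, h2 _ e7 e8, h2 _ e5 e6, (h1 _ _ e3 e4).2, (h1 _ _ e1 e2).2⟩

/-- **functionals on the kernel** -/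
theorem Bf.uniq (h : Bs N H W p r c) (hΔ : α * γ - β ^ 2 ≠ 0) {f : V →ₗ[k] k}
    (hN : ∀ v, b v = 0 → f (N v) = 0) (hH : ∀ v, b v = 0 → f (H v) = 4 ^ 4 * f v) :
    ∃ d : k, ∀ v, b v = 0 → f v = d * (α * h.A 3 v + β * h.B 5 v + δ * h.C 1 v) := by
  have hz : ∀ {x : V} {s : ℕ}, b x = 0 → H x = (4 : k) ^ s • x → s % 5 ≠ 4 → f x = 0 := by
    intro x s hx hs h4
    have h1 := hH x hx
    rw [hs, map_smul, smul_eq_mul] at h1
    have h2 : ((4 : k) ^ s - 4 ^ 4) * f x = 0 := by rw [sub_mul, h1, sub_self]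
    exact (mul_eq_zero.1 h2).resolve_left (sub_ne_zero.2 (four_ne h4))
  -- the kernel is graded
  have kp : ∀ n, 5 ≤ n → b (p n) = 0 := fun n hn => LinearMap.ext fun w => by rw [hb.comm, hb.v_p h w hn, LinearMap.zero_apply]
  have kr : ∀ n, 7 ≤ n → b (r n) = 0 := fun n hn => LinearMap.ext fun w => by rw [hb.comm, hb.v_r h w hn, LinearMap.zero_apply]
  have kc : ∀ n, 3 ≤ n → b (c n) = 0 := fun n hn => LinearMap.ext fun w => by rw [hb.comm, hb.v_c h w hn, LinearMap.zero_apply]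
  have fp : ∀ n, 5 ≤ n → f (p n) = 0 := by
    intro n hn
    by_cases h5 : n = 5
    · exact hz (kp n hn) (h.Hp n) (by rw [h5]; norm_num)
    · obtain ⟨m, rfl⟩ : ∃ m, n = m + 1 := ⟨n - 1, by omega⟩
      rw [← h.Np]
      exact hN _ (kp m (by omega))
  have fr : ∀ n, 7 ≤ n → f (r n) = 0 := by
    intro n hn
    by_cases h5 : n = 7
    · exact hz (kr n hn) (h.Hr n) (by rw [h5]; norm_num)
    · obtain ⟨m, rfl⟩ : ∃ m, n = m + 1 := ⟨n - 1, by omega⟩
      rw [← h.Nr]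
      exact hN _ (kr m (by omega))
  have fc : ∀ n, 3 ≤ n → f (c n) = 0 := by
    intro n hn
    by_cases h5 : n = 3
    · exact hz (kc n hn) (h.Hc n) (by rw [h5]; norm_num)
    · obtain ⟨m, rfl⟩ : ∃ m, n = m + 1 := ⟨n - 1, by omega⟩
      rw [← h.Nc]
      exact hN _ (kc m (by omega))
  have hmk : ∀ v, (h.A 0 v = 0 ∧ h.A 1 v = 0 ∧ h.B 0 v = 0 ∧ h.B 1 v = 0 ∧ h.B 2 v = 0 ∧ h.B 3 v = 0) →
      β * h.A 4 v + γ * h.B 6 v + η * h.C 2 v = 0 → β * h.A 3 v + γ * h.B 5 v + η * h.C 1 v = 0 →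
      β * h.A 2 v + γ * h.B 4 v + η * h.C 0 v = 0 → α * h.A 2 v + β * h.B 4 v + δ * h.C 0 v = 0 → b v = 0 := by
    rintro v ⟨a0, a1, b0, b1, b2, b3⟩ e0 e1 e2 e3
    refine hb.mem_ker h a0 b0 b1 b2 ?_ ?_ ?_ ?_ ?_ ?_
    · rw [hb.v_r0 h, e0]
    · rw [hb.v_r1 h, e1, neg_zero]
    · rw [hb.v_r2 h, e2]
    · rw [hb.v_p0 h, e3]
    · rw [hb.v_p1 h, a1, b3, mul_zero, mul_zero, add_zero, neg_zero]
    · rw [hb.v_r3 h, a1, b3, mul_zero, mul_zero, add_zero, neg_zero]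
  -- the test vector
  let wv : V := γ • p 3 - β • r 5
  refine ⟨f wv * (α * γ - β ^ 2)⁻¹, fun v hv => ?_⟩
  have hv' : ∀ w, b v w = 0 := fun w => by rw [hv, LinearMap.zero_apply]
  obtain ⟨a0, a1, b0, b1, b2, b3⟩ := hb.ker h hΔ hv'
  have e0 := hv' (r 0)
  have e1 := hv' (r 1)
  have e2 := hv' (r 2)
  have e3 := hv' (p 0)
  rw [hb.v_r0 h] at e0
  rw [hb.v_r1 h, neg_eq_zero] at e1
  rw [hb.v_r2 h] at e2
  rw [hb.v_p0 h] at e3
  -- weight 0
  let x0 : V := h.A 4 v • p 4 + h.B 6 v • r 6 + h.C 2 v • c 2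
  have k0 : b x0 = 0 := by
    refine hmk x0 ?_ ?_ ?_ ?_ ?_ <;>
      simp [x0, h.A_p, h.A_r, h.A_c, h.B_p, h.B_r, h.B_c, h.C_p, h.C_r, h.C_c]
    exact e0
  have f0 : f x0 = 0 := by
    refine hz (s := 0) k0 ?_ (by norm_num)
    simp only [x0, map_add, map_smul, h.Hp, h.Hr, h.Hc]
    have h5 : (4 : k) ^ 5 = 1 := four_five
    have h10 : (4 : k) ^ 10 = 1 := by rw [show 10 = 5 + 5 by norm_num, pow_add, h5, one_mul]
    rw [show 4 + 1 = 5 by norm_num, show 6 + 4 = 10 by norm_num, h5, h10, pow_zero, one_smul,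
      one_smul, one_smul, one_smul]
  -- weight -4
  let x2 : V := h.A 2 v • p 2 + h.B 4 v • r 4 + h.C 0 v • c 0
  have k2 : b x2 = 0 := by
    refine hmk x2 ?_ ?_ ?_ ?_ ?_ <;>
      simp only [x2, h.A_p, h.A_r, h.A_c, h.B_p, h.B_r, h.B_c, h.C_p, h.C_r, h.C_c, _root_.map_add, _root_.map_smul, _root_.OfNat.zero_ne_ofNat, _root_.Nat.ofNat_pos, _root_.and_true, ↓ _root_.reduceIte, _root_.smul_eq_mul, _root_.MulZeroClass.mul_zero, _root_.add_zero, _root_.OfNat.one_ne_ofNat, _root_.Nat.one_lt_ofNat, _root_.Nat.reduceEqDiff, _root_.Nat.reduceLT, _root_.and_self, _root_.OfNat.ofNat_ne_zero, _root_.Nat.succ_ne_self, _root_.one_ne_zero, _root_.mul_one, _root_.zero_add]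
    · exact e2
    · exact e3
  have f2 : f x2 = 0 := by
    refine hz (s := 3) k2 ?_ (by norm_num)
    simp only [x2, map_add, map_smul, h.Hp, h.Hr, h.Hc]
    rw [show 4 + 4 = 3 + 5 by norm_num, four_add, smul_add, smul_add, smul_comm, smul_comm (h.B 4 v), smul_comm (h.C 0 v)]
  -- weight -2
  let x1 : V := h.A 3 v • p 3 + h.B 5 v • r 5 + h.C 1 v • c 1
  have f1 : f x1 = f wv * (α * γ - β ^ 2)⁻¹ * (α * h.A 3 v + β * h.B 5 v + δ * h.C 1 v) := by
    set L := α * h.A 3 v + β * h.B 5 v + δ * h.C 1 v with hL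
    set D := (α * γ - β ^ 2)⁻¹ with hD
    have hDD : D * (α * γ - β ^ 2) = 1 := inv_mul_cancel₀ hΔ
    -- `x1 - (L / Δ) w = N y`
    let y : V := (h.A 3 v - D * L * γ) • p 2 + (h.B 5 v + D * L * β) • r 4 + h.C 1 v • c 0
    have ky : b y = 0 := by
      refine hmk y ?_ ?_ ?_ ?_ ?_ <;>
        simp only [y, h.A_p, h.A_r, h.A_c, h.B_p, h.B_r, h.B_c, h.C_p, h.C_r, h.C_c, _root_.map_add, _root_.map_smul, _root_.OfNat.zero_ne_ofNat, _root_.Nat.ofNat_pos, _root_.and_true, ↓ _root_.reduceIte, _root_.smul_eq_mul, _root_.MulZeroClass.mul_zero, _root_.add_zero, _root_.OfNat.one_ne_ofNat, _root_.Nat.one_lt_ofNat, _root_.Nat.reduceEqDiff, _root_.Nat.reduceLT, _root_.and_self, _root_.OfNat.ofNat_ne_zero, _root_.Nat.succ_ne_self, _root_.one_ne_zero, _root_.mul_one, _root_.zero_add]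
      · linear_combination e1
      · linear_combination (-L) * hDD - hL
    have hy : f (N y) = 0 := hN y ky
    have hNy : N y = x1 - (D * L) • wv := by
      simp only [y, x1, wv, map_add, map_sub, map_smul, h.Np, h.Nr, h.Nc, smul_sub, smul_smul, sub_smul, add_smul]
      abel
    rw [hNy, map_sub, map_smul, smul_eq_mul, sub_eq_zero] at hy
    rw [hy]
    ring
  rw [h.sum f v]
  rw [Finset.sum_range_succ, Finset.sum_range_succ, Finset.sum_range_succ, Finset.sum_range_succ, Finset.sum_range_succ,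
    Finset.sum_range_succ, Finset.sum_range_succ, Finset.sum_range_succ, Finset.sum_range_succ, Finset.sum_range_succ,
    Finset.sum_range_one]
  simp only [Finset.sum_range_succ, Finset.sum_range_zero]
  rw [fp 5 (by norm_num), fp 6 (by norm_num), fp 7 (by norm_num), fp 8 (by norm_num), fp 9 (by norm_num),
    fp 10 (by norm_num), fr 7 (by norm_num), fr 8 (by norm_num), fr 9 (by norm_num), fr 10 (by norm_num),
    fc 3 (by norm_num), fc 4 (by norm_num), a0, a1, b0, b1, b2, b3]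
  simp only [x0, x1, x2, map_add, map_smul, smul_eq_mul] at f0 f1 f2
  simp only [smul_eq_mul, mul_zero, zero_mul, add_zero, zero_add]
  linear_combination f0 + f1 + f2

end zero

end Cfsg.Agent.R2.H14.E11
end

-- part: R2/H14/E11/Pa
section
/-!
# S5749, S5750, box E11: the two 27-dimensional modules (helper14)

`Pr ρ ρ'` : a group acting on `V` and `V'`, preserving the pairing and the products. `Nr ρ`; `Ms ι ρ F G p r c`.
`Ms.bf` : the form `T(v₁₂, ·, ·)`, `v₁₂ = p 10`; `Ms.white`, `Ms.theta`, `Ms.delta`.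
-/

set_option autoImplicit false
set_option linter.unusedSectionVars false

namespace Cfsg.Agent.R2.H14.E11

open Module Matrix Cfsg.Lie Cfsg.Agent.H943.SL2Rel
open Cfsg.Agent.H952.F4 (sh cr tf)
open Cfsg.Agent.H952.F4.Jord
open Cfsg.Agent.R2.GEO (crB crB_apply tfB tfB_apply kr finrank_kr_white)
open Cfsg.Agent.R2.H9.E6 (Dop Dop_apply tf_zero_left tf_zero_right cr_zero_left cr_zero_right tf_Dop Dop_add_left
  Dop_add_right Dop_smul_left Dop_smul_right Dop_cr)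

universe v w

variable {k : Type v} [Field k]

/-- the pair of representations -/
structure Pr {G : Type*} [Group G] (ρ ρ' : Representation k G (I27 → k)) : Prop where
  pt : ∀ g x y, tf (ρ g x) (ρ' g y) = tf x y
  pc : ∀ g x y, cr (ρ g x) (ρ g y) = ρ' g (cr x y)
  pc' : ∀ g x y, cr (ρ' g x) (ρ' g y) = ρ g (cr x y)

section pr

variable {G : Type*} [Group G] {ρ ρ' : Representation k G (I27 → k)}

theorem Pr.swap (h : Pr ρ ρ') : Pr ρ' ρ := ⟨fun g x y => by rw [tf_comm, h.pt, tf_comm], h.pc', h.pc⟩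

theorem Pr.dop (h : Pr ρ ρ') (g : G) (p b x : I27 → k) : ρ g (Dop p b x) = Dop (ρ g p) (ρ' g b) (ρ g x) := by
  rw [Dop_apply, Dop_apply, map_sub, map_smul, tf_comm (ρ' g b), h.pt, tf_comm x, h.pc, h.pc']

theorem rho_mul {E : Type*} [AddCommGroup E] [Module k E] (ρ : Representation k G E) (g h : G) (x : E) :
    ρ (g * h) x = ρ g (ρ h x) := by
  rw [map_mul, Module.End.mul_apply]

theorem rho_inv {E : Type*} [AddCommGroup E] [Module k E] (ρ : Representation k G E) (g : G) (x : E) :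
    ρ g⁻¹ (ρ g x) = x := by
  rw [← rho_mul, inv_mul_cancel, map_one, Module.End.one_apply]

theorem rho_inv' {E : Type*} [AddCommGroup E] [Module k E] (ρ : Representation k G E) (g : G) (x : E) :
    ρ g (ρ g⁻¹ x) = x := by
  rw [← rho_mul, mul_inv_cancel, map_one, Module.End.one_apply]

/-- every functional is given by a vector -/
theorem exists_tf (f : (I27 → k) →ₗ[k] k) : ∃ y, ∀ x, tf y x = f x := by
  have hinj : Function.Injective (tfB k : (I27 → k) →ₗ[k] ((I27 → k) →ₗ[k] k)) := by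
    rw [← LinearMap.ker_eq_bot, LinearMap.ker_eq_bot']
    intro x hx
    exact tf_nondeg fun y => by rw [← tfB_apply, hx, LinearMap.zero_apply]
  have hsurj := (LinearMap.injective_iff_surjective_of_finrank_eq_finrank
    (f := (tfB k : (I27 → k) →ₗ[k] ((I27 → k) →ₗ[k] k))) (Subspace.dual_finrank_eq (K := k) (V := I27 → k)).symm).1 hinj
  obtain ⟨y, hy⟩ := hsurj f
  exact ⟨y, fun x => by rw [← tfB_apply, hy]⟩

/-- functionals vanishing on the kernel of `cr P` -/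
theorem exists_cr {P z : I27 → k} (h : ∀ v, cr P v = 0 → tf z v = 0) : ∃ v0, z = cr P v0 := by
  have h1 : (tfB k z : (I27 → k) →ₗ[k] k) ∈ (LinearMap.ker (crB k P)).dualAnnihilator := by
    rw [Submodule.mem_dualAnnihilator]
    intro v hv
    exact h v hv
  rw [← LinearMap.range_dualMap_eq_dualAnnihilator_ker] at h1
  obtain ⟨φ, hφ⟩ := h1
  obtain ⟨v0, hv0⟩ := exists_tf φ
  refine ⟨v0, ?_⟩
  have h2 : ∀ v, tf (z - cr P v0) v = 0 := by
    intro v
    rw [sub_eq_add_neg, tf_add_left, ← neg_one_smul k (cr P v0), tf_smul_left, cr_comm, tf_cr, hv0]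
    have h3 : φ (cr P v) = tf z v := by
      rw [← tfB_apply, ← hφ]
      rfl
    rw [h3]
    ring
  exact sub_eq_zero.1 (tf_nondeg h2)

/-- `T(P, ·, ·)` -/
noncomputable def bF (P : I27 → k) : (I27 → k) →ₗ[k] (I27 → k) →ₗ[k] k := (tfB k).comp (crB k P)

theorem bF_apply (P x y : I27 → k) : bF P x y = tf (cr P x) y := rfl

theorem bF_comm (P x y : I27 → k) : bF P x y = bF P y x := by
  rw [bF_apply, bF_apply, tf_cr, cr_comm x y, ← tf_cr]

theorem bF_zero {P v : I27 → k} : bF P v = 0 ↔ cr P v = 0 := by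
  constructor
  · intro h
    exact tf_nondeg fun y => by rw [← bF_apply, h, LinearMap.zero_apply]
  · intro h
    refine LinearMap.ext fun y => ?_
    rw [bF_apply, h, tf_zero_left, LinearMap.zero_apply]

theorem ker_bF (P : I27 → k) : LinearMap.ker (bF P) = kr P := by
  ext v
  rw [LinearMap.mem_ker, bF_zero]
  rfl

end pr

variable [CharP k 11] {K : Type w} [Field K] [CharP K 11]

/-- the element 2 -/
def tw : Kˣ := Units.mk0 2 two_ne

/-- the logarithm of the unipotent element -/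
noncomputable def Nr {E : Type*} [AddCommGroup E] [Module k E] (ρ : Representation k (_root_.Matrix.SpecialLinearGroup (Fin 2) K) E) :
    E →ₗ[k] E := Nop fun n => ρ (u (n : K))

theorem u_u {E : Type*} [AddCommGroup E] [Module k E] (ρ : Representation k (_root_.Matrix.SpecialLinearGroup (Fin 2) K) E) {n : ℕ}
    (hn : n < 11) (v : E) : ρ (u (n : K)) (ρ (u (((11 - n) % 11 : ℕ) : K)) v) = v := by
  rw [← rho_mul, ← u_add, ← Nat.cast_add]
  have h1 : ((n + (11 - n) % 11 : ℕ) : K) = 0 := by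
    rw [CharP.cast_eq_zero_iff K 11]
    omega
  rw [h1, u_zero, map_one, Module.End.one_apply]

theorem Nr_comm {E E₂ : Type*} [AddCommGroup E] [Module k E] [AddCommGroup E₂] [Module k E₂]
    {ρ : Representation k (_root_.Matrix.SpecialLinearGroup (Fin 2) K) E} {ρ₂ : Representation k (_root_.Matrix.SpecialLinearGroup (Fin 2) K) E₂}
    {s : k →+* k} (f : E →ₛₗ[s] E₂) (h : ∀ n : ℕ, n < 11 → ∀ v, f (ρ (u (n : K)) v) = ρ₂ (u (n : K)) (f v)) (v : E) :
    f (Nr ρ v) = Nr ρ₂ (f v) := Nop_comm f h v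

theorem Nr_skew {E E₂ : Type*} [AddCommGroup E] [Module k E] [AddCommGroup E₂] [Module k E₂]
    {ρ : Representation k (_root_.Matrix.SpecialLinearGroup (Fin 2) K) E} {ρ₂ : Representation k (_root_.Matrix.SpecialLinearGroup (Fin 2) K) E₂}
    (f : E →ₗ[k] E₂ →ₗ[k] k) (h : ∀ n : ℕ, n < 11 → ∀ v w, f (ρ (u (n : K)) v) (ρ₂ (u (n : K)) w) = f v w) (v : E) (w : E₂) :
    f (Nr ρ v) w = -f v (Nr ρ₂ w) := Nop_skew f h (fun _ hn v => u_u ρ₂ hn v) v w

/-- the structure of the module under `SL(2, K)` -/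
structure Ms {E : Type*} [AddCommGroup E] [Module k E] (ι : K →+* k)
    (ρ : Representation k (_root_.Matrix.SpecialLinearGroup (Fin 2) K) E) (F G : E →ₗ[k] E) (p r c : ℕ → E) : Prop where
  bs : Bs (Nr ρ) (ρ (h tw)) (ρ Cfsg.Agent.H943.SL2Rel.w) p r c
  u : ∀ t v, ρ (u t) v = ∑ j ∈ Finset.range 11, (ι t ^ j * ((j.factorial : k))⁻¹) • (Nr ρ ^ j) v +
    (ι t ^ 11 - ι t) • F v + (ι t ^ 12 - ι t ^ 2) • G v
  Fp : ∀ n, F (p n) = 0
  Fr0 : F (r 0) = (10 : k) • p 9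
  Fr1 : F (r 1) = (10 : k) • p 10
  Fr : ∀ n, 2 ≤ n → F (r n) = 0
  Fc : ∀ n, F (c n) = 0
  Gp : ∀ n, G (p n) = 0
  Gr0 : G (r 0) = (10 : k) • p 10
  Gr : ∀ n, 1 ≤ n → G (r n) = 0
  Gc : ∀ n, G (c n) = 0

/-- vectors fixed by the unipotent group -/
theorem Ms.ufix {E : Type*} [AddCommGroup E] [Module k E] {ι : K →+* k}
    {ρ : Representation k (_root_.Matrix.SpecialLinearGroup (Fin 2) K) E} {F G : E →ₗ[k] E} {p r c : ℕ → E} (hM : Ms ι ρ F G p r c)
    {v : E} (hN : Nr ρ v = 0) (hF : F v = 0) (hG : G v = 0) (t : K) : ρ (Cfsg.Agent.H943.SL2Rel.u t) v = v := by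
  rw [hM.u, hF, hG, smul_zero, smul_zero, add_zero, add_zero, Finset.sum_range_succ', Finset.sum_eq_zero, zero_add]
  · simp
  · intro j _
    rw [pow_succ (Nr ρ), Module.End.mul_apply, hN, map_zero, smul_zero]

variable {ι : K →+* k} {ρ ρ' : Representation k (_root_.Matrix.SpecialLinearGroup (Fin 2) K) (I27 → k)}

theorem Pr.tf_N (hP : Pr ρ ρ') (x y : I27 → k) : tf (Nr ρ x) y = -tf x (Nr ρ' y) :=
  Nr_skew (tfB k) (fun _ _ v w => hP.pt _ v w) x y

variable {F G : (I27 → k) →ₗ[k] (I27 → k)} {p r c : ℕ → I27 → k}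

theorem Ms.up (hM : Ms ι ρ F G p r c) (t : K) : ρ (Cfsg.Agent.H943.SL2Rel.u t) (p 10) = p 10 :=
  hM.ufix (by rw [hM.bs.Np, hM.bs.zp]) (hM.Fp _) (hM.Gp _) t

theorem Ms.Hp (hM : Ms ι ρ F G p r c) : ρ (h tw) (p 10) = (4 : k) • p 10 := by
  rw [hM.bs.Hp, show 10 + 1 = 1 + 5 + 5 by norm_num, four_add, four_add, pow_one]

theorem Ms.p_ne (hM : Ms ι ρ F G p r c) : p 10 ≠ 0 := by
  intro h0
  have h1 := hM.bs.A_p 10 10
  rw [h0, map_zero] at h1
  simp at h1

theorem Ms.crN (hP : Pr ρ ρ') (hM : Ms ι ρ F G p r c) (v : I27 → k) : cr (p 10) (Nr ρ v) = Nr ρ' (cr (p 10) v) :=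
  Nr_comm (s := RingHom.id k) (crB k (p 10)) (fun n _ v => by
    rw [crB_apply, crB_apply, ← hP.pc, hM.up]) v

theorem Ms.bN (hP : Pr ρ ρ') (hM : Ms ι ρ F G p r c) (v w : I27 → k) : bF (p 10) (Nr ρ v) w = -bF (p 10) v (Nr ρ w) := by
  rw [bF_apply, hM.crN hP, hP.swap.tf_N, bF_apply]

theorem Ms.crH (hP : Pr ρ ρ') (hM : Ms ι ρ F G p r c) (v : I27 → k) :
    ρ' (h tw) (cr (p 10) v) = (4 : k) • cr (p 10) (ρ (h tw) v) := by
  rw [← hP.pc, hM.Hp, cr_smul_left]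

theorem Ms.bH (hP : Pr ρ ρ') (hM : Ms ι ρ F G p r c) (v w : I27 → k) :
    bF (p 10) (ρ (h tw) v) (ρ (h tw) w) = 4 ^ 4 * bF (p 10) v w := by
  have h1 := hP.swap.pt (h tw) (cr (p 10) v) w
  rw [hM.crH hP, tf_smul_left] at h1
  rw [bF_apply, bF_apply, ← h1, ← mul_assoc, ← pow_succ, four_five, one_mul]

end Cfsg.Agent.R2.H14.E11
end

private theorem dce_9d16a2733ed8 : _root_.True := by
  try have : _root_.True := by simp only [_root_.Cfsg.Agent.R2.H14.E11.Bs.C.congr_simp]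
  try have : _root_.True := by simp only [_root_.Cfsg.Agent.R2.H14.E11.Bs.B.congr_simp]
  try have : _root_.True := by simp only [_root_.Cfsg.Agent.R2.H14.E11.Bs.A.congr_simp]
  exact _root_.True.intro
end
end

-- part: R2/H14/E11/Hm_mg
section
prune_inst 0x10000004010000
set_option linter.all false
open scoped Cfsg.Agent.FastGrp

-- part: R2/H14/E11/Hm
section
/-!
# S5749, S5750, box E11: homomorphisms (helper14)

* `gen_uw` : `SL(2, K)` is generated by the `u t` and `w`;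
* `Ms.equiv` : maps commuting with `N`, `F`, `G`, `w` commute with `SL(2, K)`;
* `Ms.exists_hom` : the 3-parameter family of homomorphisms.
-/

set_option autoImplicit false
set_option linter.unusedSectionVars false
set_option linter.unusedSimpArgs false

namespace Cfsg.Agent.R2.H14.E11

open Module Matrix Cfsg.Agent.H943.SL2Rel

universe v w

section gen

variable {K : Type w} [Field K]

/-- **generation** -/
theorem gen_uw (X : Subgroup (_root_.Matrix.SpecialLinearGroup (Fin 2) K)) (hu : ∀ t, u t ∈ X)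
    (hw : Cfsg.Agent.H943.SL2Rel.w ∈ X) (g : _root_.Matrix.SpecialLinearGroup (Fin 2) K) : g ∈ X := by
  have hh : ∀ a : Kˣ, h a ∈ X := by
    intro a
    have ha : (a : K) ≠ 0 := a.ne_zero
    have h1 := w_u_w (-(a : K)⁻¹) (neg_ne_zero.2 (inv_ne_zero ha))
    have h2 : mi (-(a : K)⁻¹) (neg_ne_zero.2 (inv_ne_zero ha)) = a := by
      apply Units.ext
      show -(-(a : K)⁻¹)⁻¹ = a
      rw [inv_neg, neg_neg, inv_inv]
    rw [h2] at h1
    have h3 : h a = (u (-(-(a : K)⁻¹)⁻¹))⁻¹ * (Cfsg.Agent.H943.SL2Rel.w * u (-(a : K)⁻¹) * Cfsg.Agent.H943.SL2Rel.w) *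
        (u (-(-(a : K)⁻¹)⁻¹))⁻¹ * (Cfsg.Agent.H943.SL2Rel.w)⁻¹ := by
      rw [h1]
      group
    rw [h3]
    exact mul_mem (mul_mem (mul_mem (inv_mem (hu _)) (mul_mem (mul_mem hw (hu _)) hw)) (inv_mem (hu _))) (inv_mem hw)
  rcases bruhat g with ⟨a, t, rfl⟩ | ⟨s, a, t, rfl⟩
  · exact mul_mem (hh a) (hu t)
  · exact mul_mem (mul_mem (mul_mem (hu s) (hh a)) hw) (hu t)

end gen

variable {k : Type v} [Field k] [CharP k 11] {K : Type w} [Field K] [CharP K 11] {ι : K →+* k}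
variable {E : Type*} [AddCommGroup E] [Module k E] {E₂ : Type*} [AddCommGroup E₂] [Module k E₂]
variable {ρ : Representation k (_root_.Matrix.SpecialLinearGroup (Fin 2) K) E} {F G : E →ₗ[k] E} {p r c : ℕ → E}
variable {ρ₂ : Representation k (_root_.Matrix.SpecialLinearGroup (Fin 2) K) E₂} {F₂ G₂ : E₂ →ₗ[k] E₂} {p' r' c' : ℕ → E₂}

theorem equiv_of {φ : E →ₗ[k] E₂} (hu : ∀ t v, φ (ρ (u t) v) = ρ₂ (u t) (φ v))
    (hw : ∀ v, φ (ρ Cfsg.Agent.H943.SL2Rel.w v) = ρ₂ Cfsg.Agent.H943.SL2Rel.w (φ v))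
    (g : _root_.Matrix.SpecialLinearGroup (Fin 2) K) (v : E) : φ (ρ g v) = ρ₂ g (φ v) := by
  let X : Subgroup (_root_.Matrix.SpecialLinearGroup (Fin 2) K) :=
    { carrier := {g | ∀ v, φ (ρ g v) = ρ₂ g (φ v)}
      mul_mem' := by
        intro a b ha hb v
        rw [rho_mul, ha, hb, ← rho_mul]
      one_mem' := by
        intro v
        rw [map_one, map_one, Module.End.one_apply, Module.End.one_apply]
      inv_mem' := by
        intro a ha v
        have h1 := ha (ρ a⁻¹ v)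
        rw [rho_inv'] at h1
        rw [h1, rho_inv] }
  exact gen_uw X hu hw g v

theorem Ms.equiv (hM : Ms ι ρ F G p r c) (hM₂ : Ms ι ρ₂ F₂ G₂ p' r' c') {φ : E →ₗ[k] E₂}
    (hN : ∀ v, φ (Nr ρ v) = Nr ρ₂ (φ v)) (hF : ∀ v, φ (F v) = F₂ (φ v)) (hG : ∀ v, φ (G v) = G₂ (φ v))
    (hw : ∀ v, φ (ρ Cfsg.Agent.H943.SL2Rel.w v) = ρ₂ Cfsg.Agent.H943.SL2Rel.w (φ v))
    (g : _root_.Matrix.SpecialLinearGroup (Fin 2) K) (v : E) : φ (ρ g v) = ρ₂ g (φ v) := by
  refine equiv_of (fun t v => ?_) hw g v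
  have hpow : ∀ (j : ℕ) (v : E), φ ((Nr ρ ^ j) v) = (Nr ρ₂ ^ j) (φ v) := by
    intro j
    induction j with
    | zero => intro v; rw [pow_zero, pow_zero, Module.End.one_apply, Module.End.one_apply]
    | succ j ih => intro v; rw [pow_succ, pow_succ, Module.End.mul_apply, Module.End.mul_apply, ih, hN]
  rw [hM.u, hM₂.u, map_add, map_add, map_smul, map_smul, map_sum, hF, hG]
  simp only [map_smul, hpow]

/-- **the homomorphisms** -/
theorem Ms.exists_hom (hM : Ms ι ρ F G p r c) (hM₂ : Ms ι ρ₂ F₂ G₂ p' r' c') (a b e : k) : ∃ φ : E →ₗ[k] E₂,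
    (∀ g v, φ (ρ g v) = ρ₂ g (φ v)) ∧ φ (p 0) = a • p' 0 + (6 * b) • r' 2 + b • p' 10 ∧
    (∀ n, 1 ≤ n → φ (p n) = a • p' n + (6 * b) • r' (n + 2)) ∧ (∀ n, φ (r n) = a • r' n) ∧ ∀ n, φ (c n) = e • c' n := by
  have e11 := e11 k
  have h := hM.bs
  have h2 := hM₂.bs
  obtain ⟨φ, f1, f2, f3⟩ := h.lift (fun n => if n = 0 then a • p' 0 + (6 * b) • r' 2 + b • p' 10 else
    a • p' n + (6 * b) • r' (n + 2)) (fun n => a • r' n) (fun n => e • c' n)
  have g0 : φ (p 0) = a • p' 0 + (6 * b) • r' 2 + b • p' 10 := by rw [f1 0 (by norm_num), if_pos rfl]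
  have g1 : ∀ n, 1 ≤ n → φ (p n) = a • p' n + (6 * b) • r' (n + 2) := by
    intro n hn
    by_cases h11 : n < 11
    · rw [f1 n h11, if_neg (by omega)]
    · rw [h.p0 (by omega), h2.p0 (by omega), h2.r0 (by omega), map_zero, smul_zero, smul_zero, add_zero]
  have g2 : ∀ n, φ (r n) = a • r' n := by
    intro n
    by_cases h11 : n < 11
    · rw [f2 n h11]
    · rw [h.r0 (by omega), h2.r0 (by omega), map_zero, smul_zero]
  have g3 : ∀ n, φ (c n) = e • c' n := by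
    intro n
    by_cases h11 : n < 5
    · rw [f3 n h11]
    · rw [h.c0 (by omega), h2.c0 (by omega), map_zero, smul_zero]
  refine ⟨φ, ?_, g0, g1, g2, g3⟩
  have hN : ∀ v, φ (Nr ρ v) = Nr ρ₂ (φ v) := by
    intro v
    refine LinearMap.congr_fun (f := φ.comp (Nr ρ)) (g := (Nr ρ₂).comp φ) (h.ext (fun n => ?_) (fun n => ?_) fun n => ?_) v
    · rw [LinearMap.comp_apply, LinearMap.comp_apply, h.Np, g1 _ (by omega)]
      rcases n with _ | n
      · rw [g0]
        simp only [map_add, map_smul, h2.Np, h2.Nr, h2.zp, smul_zero, add_zero]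
      · rw [g1 _ (by omega)]
        simp only [map_add, map_smul, h2.Np, h2.Nr]
    · rw [LinearMap.comp_apply, LinearMap.comp_apply, h.Nr, g2, g2, map_smul, h2.Nr]
    · rw [LinearMap.comp_apply, LinearMap.comp_apply, h.Nc, g3, g3, map_smul, h2.Nc]
  have hF : ∀ v, φ (F v) = F₂ (φ v) := by
    intro v
    refine LinearMap.congr_fun (f := φ.comp F) (g := F₂.comp φ) (h.ext (fun n => ?_) (fun n => ?_) fun n => ?_) v
    · rw [LinearMap.comp_apply, LinearMap.comp_apply, hM.Fp, map_zero]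
      rcases n with _ | n
      · rw [g0]
        simp only [map_add, map_smul, hM₂.Fp, hM₂.Fr 2 le_rfl, smul_zero, add_zero]
      · rw [g1 _ (by omega)]
        simp only [map_add, map_smul, hM₂.Fp, hM₂.Fr (n + 1 + 2) (by omega), smul_zero, add_zero]
    · rw [LinearMap.comp_apply, LinearMap.comp_apply, g2, map_smul]
      rcases n with _ | _ | n
      · rw [hM.Fr0, hM₂.Fr0, map_smul, g1 _ (by norm_num), h2.r0 (by norm_num), smul_zero, add_zero, smul_comm]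
      · rw [hM.Fr1, hM₂.Fr1, map_smul, g1 _ (by norm_num), h2.r0 (by norm_num), smul_zero, add_zero, smul_comm]
      · rw [hM.Fr _ (by omega), hM₂.Fr _ (by omega), map_zero, smul_zero]
    · rw [LinearMap.comp_apply, LinearMap.comp_apply, hM.Fc, g3, map_smul, hM₂.Fc, map_zero, smul_zero]
  have hG : ∀ v, φ (G v) = G₂ (φ v) := by
    intro v
    refine LinearMap.congr_fun (f := φ.comp G) (g := G₂.comp φ) (h.ext (fun n => ?_) (fun n => ?_) fun n => ?_) v
    · rw [LinearMap.comp_apply, LinearMap.comp_apply, hM.Gp, map_zero]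
      rcases n with _ | n
      · rw [g0]
        simp only [map_add, map_smul, hM₂.Gp, hM₂.Gr 2 (by norm_num), smul_zero, add_zero]
      · rw [g1 _ (by omega)]
        simp only [map_add, map_smul, hM₂.Gp, hM₂.Gr (n + 1 + 2) (by omega), smul_zero, add_zero]
    · rw [LinearMap.comp_apply, LinearMap.comp_apply, g2, map_smul]
      rcases n with _ | n
      · rw [hM.Gr0, hM₂.Gr0, map_smul, g1 _ (by norm_num), h2.r0 (by norm_num), smul_zero, add_zero, smul_comm]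
      · rw [hM.Gr _ (by omega), hM₂.Gr _ (by omega), map_zero, smul_zero]
    · rw [LinearMap.comp_apply, LinearMap.comp_apply, hM.Gc, g3, map_smul, hM₂.Gc, map_zero, smul_zero]
  have hW : ∀ v, φ (ρ Cfsg.Agent.H943.SL2Rel.w v) = ρ₂ Cfsg.Agent.H943.SL2Rel.w (φ v) := by
    intro v
    have z11 : r' 11 = 0 := h2.zr
    have z12 : r' 12 = 0 := h2.r0 (by norm_num)
    refine LinearMap.congr_fun (f := φ.comp (ρ Cfsg.Agent.H943.SL2Rel.w)) (g := (ρ₂ Cfsg.Agent.H943.SL2Rel.w).comp φ)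
      (h.ext (fun n => ?_) (fun n => ?_) fun n => ?_) v
    · rw [LinearMap.comp_apply, LinearMap.comp_apply]
      by_cases hn : 11 ≤ n
      · rw [h.p0 hn, map_zero, map_zero, map_zero]
      push Not at hn
      interval_cases n
      · rw [h.Wp0, map_add, map_smul, map_smul, g1 8 (by norm_num), g2 10, g0, map_add, map_add, map_smul, map_smul,
          map_smul, h2.Wp0, h2.Wr2, h2.Wp10]
        match_scalars <;> first | ring1 | linear_combination (2 : k) * b * e11 | linear_combination (-2 : k) * b * e11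
      · rw [h.Wp1, map_add, map_smul, map_smul, g1 7 (by norm_num), g2 9, g1 1 le_rfl, map_add, map_smul, map_smul,
          h2.Wp1, h2.Wr3]
        match_scalars <;> ring
      · rw [h.Wp2, map_add, map_smul, map_smul, g1 6 (by norm_num), g2 8, g1 2 (by norm_num), map_add, map_smul, map_smul,
          h2.Wp2, h2.Wr4]
        match_scalars <;> ring
      · rw [h.Wp3, map_add, map_smul, map_smul, g1 5 (by norm_num), g2 7, g1 3 (by norm_num), map_add, map_smul, map_smul,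
          h2.Wp3, h2.Wr5]
        match_scalars <;> ring
      · rw [h.Wp4, g1 4 (by norm_num), map_add, map_smul, map_smul, h2.Wp4, h2.Wr6]
      · rw [h.Wp5, map_add, map_smul, map_smul, g1 3 (by norm_num), g2 5, g1 5 (by norm_num), map_add, map_smul, map_smul,
          h2.Wp5, h2.Wr7]
        match_scalars <;> ring
      · rw [h.Wp6, map_add, map_smul, map_smul, g1 2 (by norm_num), g2 4, g1 6 (by norm_num), map_add, map_smul, map_smul,
          h2.Wp6, h2.Wr8]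
        match_scalars <;> ring
      · rw [h.Wp7, map_add, map_smul, map_smul, g1 1 (by norm_num), g2 3, g1 7 (by norm_num), map_add, map_smul, map_smul,
          h2.Wp7, h2.Wr9]
        match_scalars <;> ring
      · rw [h.Wp8, map_add, map_add, map_smul, map_smul, map_smul, g0, g1 10 (by norm_num), g2 2, g1 8 (by norm_num),
          map_add, map_smul, map_smul, h2.Wp8, h2.Wr10, z12]
        match_scalars <;> first | ring1 | linear_combination (5 : k) * b * e11 | linear_combination (-5 : k) * b * e11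
      · rw [h.Wp9, map_add, g1 9 (by norm_num), g2 1, z11, map_add, map_smul, h2.Wp9, smul_zero, map_zero]
        match_scalars <;> ring
      · rw [h.Wp10, map_smul, g2 0, g1 10 (by norm_num), z12, map_add, map_smul, h2.Wp10, smul_zero, map_zero]
        match_scalars <;> ring
    · rw [LinearMap.comp_apply, LinearMap.comp_apply, g2, map_smul]
      by_cases hn : 11 ≤ n
      · rw [h.r0 hn, h2.r0 hn, map_zero, map_zero, map_zero, smul_zero]
      push Not at hn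
      interval_cases n
      · rw [h.Wr0, map_smul, g1 10 (by norm_num), z12, h2.Wr0, smul_zero, add_zero, smul_comm]
      · rw [h.Wr1, map_smul, g2, h2.Wr1, smul_comm]
      · rw [h.Wr2, map_add, map_smul, map_smul, g2, g2, h2.Wr2]
        match_scalars <;> ring
      · rw [h.Wr3, map_smul, g2, h2.Wr3, smul_comm]
      · rw [h.Wr4, map_smul, g2, h2.Wr4, smul_comm]
      · rw [h.Wr5, map_smul, g2, h2.Wr5, smul_comm]
      · rw [h.Wr6, g2, h2.Wr6]
      · rw [h.Wr7, map_smul, g2, h2.Wr7, smul_comm]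
      · rw [h.Wr8, map_smul, g2, h2.Wr8, smul_comm]
      · rw [h.Wr9, map_smul, g2, h2.Wr9, smul_comm]
      · rw [h.Wr10, map_add, map_smul, map_smul, g1 10 (by norm_num), g2, z12, h2.Wr10, smul_zero, add_zero]
        match_scalars <;> ring
    · rw [LinearMap.comp_apply, LinearMap.comp_apply, g3, map_smul]
      by_cases hn : 5 ≤ n
      · rw [h.c0 hn, h2.c0 hn, map_zero, map_zero, map_zero, smul_zero]
      push Not at hn
      interval_cases n
      · rw [h.Wc0, map_smul, g3, h2.Wc0, smul_comm]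
      · rw [h.Wc1, map_smul, g3, h2.Wc1, smul_comm]
      · rw [h.Wc2, g3, h2.Wc2]
      · rw [h.Wc3, map_smul, g3, h2.Wc3, smul_comm]
      · rw [h.Wc4, map_smul, g3, h2.Wc4, smul_comm]
  exact hM.equiv hM₂ hN hF hG hW

end Cfsg.Agent.R2.H14.E11
end

-- part: R2/H14/E11/Xop
section
/-!
# S5749, S5750, box E11: the canonical nilpotent derivation (helper14)

* `Ms.white`, `Ms.theta`, `Ms.delta`, `Ms.bf`;
* `Yv` : the vector `y ∈ V'`; `x = D(v₁₂, y)` commutes with the unipotent group, `x² = 0`, `x ≠ 0`; `Ms.uniq`.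
-/

set_option autoImplicit false
set_option linter.unusedSectionVars false
set_option linter.unusedSimpArgs false

namespace Cfsg.Agent.R2.H14.E11

open Module Matrix Cfsg.Lie Cfsg.Agent.H943.SL2Rel
open Cfsg.Agent.H952.F4 (sh cr tf)
open Cfsg.Agent.H952.F4.Jord
open Cfsg.Agent.R2.GEO (crB crB_apply tfB tfB_apply kr finrank_kr_white)
open Cfsg.Agent.R2.H9.E6 (Dop Dop_apply tf_zero_left tf_zero_right cr_zero_left cr_zero_right tf_Dop Dop_add_left
  Dop_add_right Dop_smul_left Dop_smul_right Dop_cr)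

universe v w

variable {k : Type v} [Field k] [CharP k 11] {K : Type w} [Field K] [CharP K 11]
variable {ι : K →+* k} {ρ ρ' : Representation k (_root_.Matrix.SpecialLinearGroup (Fin 2) K) (I27 → k)}
variable {F G : (I27 → k) →ₗ[k] (I27 → k)} {p r c : ℕ → I27 → k}

/-- **the highest weight vector is white** -/
theorem Ms.white (hP : Pr ρ ρ') (hM : Ms ι ρ F G p r c) : sh (p 10) = 0 := by
  have hb := hM.bs.bf (bF_comm (p 10)) (hM.bN hP) (hM.bH hP)
  have h1 : cr (p 10) (p 10) = 0 := by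
    rw [← bF_zero]
    refine hM.bs.ext (fun n => ?_) (fun n => ?_) fun n => ?_
    · rw [hb.pp, if_neg (by omega), LinearMap.zero_apply]
    · rw [hb.pr, if_neg (by omega), if_neg (by omega), LinearMap.zero_apply]
    · rw [hb.pc, if_neg (by omega), LinearMap.zero_apply]
  rw [cr_self] at h1
  exact (smul_eq_zero.1 h1).resolve_left two_ne

theorem Ms.ker17 (hP : Pr ρ ρ') (hM : Ms ι ρ F G p r c) : finrank k (LinearMap.ker (bF (p 10))) = 17 := by
  rw [ker_bF]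
  exact finrank_kr_white hM.p_ne (hM.white hP)

/-- the coefficients of the form -/
theorem Ms.bf (hP : Pr ρ ρ') (hM : Ms ι ρ F G p r c) : Bf (bF (p 10)) p r c (bF (p 10) (p 0) (p 2))
    (bF (p 10) (p 0) (r 4)) (bF (p 10) (r 0) (r 6)) (bF (p 10) (p 0) (c 0)) (bF (p 10) (r 0) (c 2)) 0 := by
  have hb := hM.bs.bf (bF_comm (p 10)) (hM.bN hP) (hM.bH hP)
  have h1 := hb.theta hM.bs (by rw [hM.ker17 hP]; norm_num)
  rw [h1] at hb
  exact hb

/-- the datum: the form on `V` with its coefficients -/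
structure Cx (ι : K →+* k) (ρ ρ' : Representation k (_root_.Matrix.SpecialLinearGroup (Fin 2) K) (I27 → k))
    (F G : (I27 → k) →ₗ[k] (I27 → k)) (p r c : ℕ → I27 → k) (α β γ δ η : k) (y : I27 → k) : Prop where
  hP : Pr ρ ρ'
  hM : Ms ι ρ F G p r c
  hb : Bf (bF (p 10)) p r c α β γ δ η 0
  hΔ : α * γ - β ^ 2 ≠ 0
  hy : ∀ v, tf y v = α * hM.bs.A 3 v + β * hM.bs.B 5 v + δ * hM.bs.C 1 v

theorem Ms.exists_cx (hP : Pr ρ ρ') (hM : Ms ι ρ F G p r c) : ∃ (α β γ δ η : k) (y : I27 → k),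
    Cx ι ρ ρ' F G p r c α β γ δ η y := by
  have hb := hM.bf hP
  obtain ⟨y, hy⟩ := exists_tf (bF (p 10) (p 0) (p 2) • hM.bs.A 3 + bF (p 10) (p 0) (r 4) • hM.bs.B 5 +
    bF (p 10) (p 0) (c 0) • hM.bs.C 1)
  exact ⟨_, _, _, _, _, y, hP, hM, hb, hb.delta hM.bs (hM.ker17 hP).le, fun v => by
    rw [hy]
    rfl⟩

variable {α β γ δ η : k} {y : I27 → k}

section cx

variable (X : Cx ι ρ ρ' F G p r c α β γ δ η y)
include X

theorem Cx.yN (v : I27 → k) : tf y (Nr ρ v) = bF (p 10) (p 0) v := by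
  have h := X.hM.bs
  rw [X.hy, bF_comm, X.hb.v_p0 h, h.A_N (by norm_num), h.B_N (by norm_num), h.C_N (by norm_num)]

theorem Cx.yF (v : I27 → k) : tf y (F v) = 0 := by
  have h1 : (tfB k y).comp F = 0 := by
    refine X.hM.bs.ext (fun n => ?_) (fun n => ?_) fun n => ?_
    · rw [LinearMap.comp_apply, X.hM.Fp, map_zero, LinearMap.zero_apply]
    · rw [LinearMap.comp_apply, LinearMap.zero_apply]
      rcases n with _ | _ | n
      · rw [X.hM.Fr0, map_smul, tfB_apply, X.hy, X.hM.bs.A_p, X.hM.bs.B_p, X.hM.bs.C_p, if_neg (by norm_num)]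
        simp
      · rw [X.hM.Fr1, map_smul, tfB_apply, X.hy, X.hM.bs.A_p, X.hM.bs.B_p, X.hM.bs.C_p, if_neg (by norm_num)]
        simp
      · rw [X.hM.Fr _ (by omega), map_zero]
    · rw [LinearMap.comp_apply, X.hM.Fc, map_zero, LinearMap.zero_apply]
  exact LinearMap.congr_fun h1 v

theorem Cx.yG (v : I27 → k) : tf y (G v) = 0 := by
  have h1 : (tfB k y).comp G = 0 := by
    refine X.hM.bs.ext (fun n => ?_) (fun n => ?_) fun n => ?_
    · rw [LinearMap.comp_apply, X.hM.Gp, map_zero, LinearMap.zero_apply]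
    · rw [LinearMap.comp_apply, LinearMap.zero_apply]
      rcases n with _ | n
      · rw [X.hM.Gr0, map_smul, tfB_apply, X.hy, X.hM.bs.A_p, X.hM.bs.B_p, X.hM.bs.C_p, if_neg (by norm_num)]
        simp
      · rw [X.hM.Gr _ (by omega), map_zero]
    · rw [LinearMap.comp_apply, X.hM.Gc, map_zero, LinearMap.zero_apply]
  exact LinearMap.congr_fun h1 v

theorem Cx.bpow (j : ℕ) (v : I27 → k) : bF (p 10) (p 0) ((Nr ρ ^ j) v) = (-1) ^ j * bF (p 10) (p j) v := by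
  induction j generalizing v with
  | zero => rw [pow_zero, pow_zero, one_mul, Module.End.one_apply]
  | succ j ih =>
    rw [pow_succ, Module.End.mul_apply, ih, ← neg_neg (bF (p 10) (p j) (Nr ρ v)), ← X.hM.bN X.hP, X.hM.bs.Np, pow_succ]
    ring

/-- `u(t) y - y ∈ v₁₂ × V` -/
theorem Cx.yu (t : K) : ∃ v0, ρ' (Cfsg.Agent.H943.SL2Rel.u t) y = y + cr (p 10) v0 := by
  refine ⟨∑ j ∈ Finset.range 10, (-(ι t ^ (j + 1) * (((j + 1).factorial : k))⁻¹)) • p j, ?_⟩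
  have h2 : ∀ v, tf (ρ' (Cfsg.Agent.H943.SL2Rel.u t) y) v = tf (y + cr (p 10) (∑ j ∈ Finset.range 10,
      (-(ι t ^ (j + 1) * (((j + 1).factorial : k))⁻¹)) • p j)) v := by
    intro v
    have h3 : tf (ρ' (Cfsg.Agent.H943.SL2Rel.u t) y) v = tf y (ρ (Cfsg.Agent.H943.SL2Rel.u (-t)) v) := by
      rw [← X.hP.swap.pt (Cfsg.Agent.H943.SL2Rel.u t) y, ← rho_mul, ← u_add, add_neg_cancel, u_zero, map_one,
        Module.End.one_apply]
    have e := congrArg (tfB k y) (X.hM.u (-t) v)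
    rw [map_add, map_add, map_smul, map_smul, map_sum] at e
    simp only [map_smul, tfB_apply] at e
    rw [h3, e, X.yF, X.yG, smul_zero, smul_zero, add_zero, add_zero, tf_add_left, ← bF_apply, map_sum,
      LinearMap.sum_apply, Finset.sum_range_succ', add_comm]
    congr 1
    · simp
    · refine Finset.sum_congr rfl fun j _ => ?_
      rw [pow_succ' (Nr ρ), Module.End.mul_apply, X.yN, X.bpow, map_smul, LinearMap.smul_apply,
        smul_eq_mul, smul_eq_mul, map_neg, neg_pow]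
      have h4 : ((-1 : k)) ^ (j + 1) * (-1) ^ j = -1 := by
        rw [← pow_add, show j + 1 + j = 2 * j + 1 by ring, pow_add, pow_mul]
        simp only [_root_.even_two, _root_.Even.neg_pow, _root_.one_pow, _root_.pow_one, _root_.mul_neg, _root_.mul_one]
      linear_combination (ι t ^ (j + 1) * (((j + 1).factorial : k))⁻¹ * bF (p 10) (p j) v) * h4
  exact sub_eq_zero.1 (tf_nondeg fun v => by
    rw [sub_eq_add_neg, tf_add_left, ← neg_one_smul k (y + _), tf_smul_left, h2]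
    ring)

/-- **`x` commutes with the unipotent group** -/
theorem Cx.xu (t : K) (v : I27 → k) : Dop (p 10) y (ρ (Cfsg.Agent.H943.SL2Rel.u t) v) =
    ρ (Cfsg.Agent.H943.SL2Rel.u t) (Dop (p 10) y v) := by
  obtain ⟨v0, hv0⟩ := X.yu t
  rw [X.hP.dop, X.hM.up, hv0, Dop_add_right, Dop_cr (X.hM.white X.hP), add_zero]

theorem Cx.xN (v : I27 → k) : Dop (p 10) y (Nr ρ v) = Nr ρ (Dop (p 10) y v) :=
  Nr_comm (s := RingHom.id k) (Dop (p 10) y) (fun n _ v => X.xu (n : K) v) v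

theorem Cx.yH : ρ' (h tw) y = (4 : k) • y := by
  have h2 : ∀ v, tf (ρ' (h tw) y) v = tf ((4 : k) • y) v := by
    intro v
    rw [← rho_inv' ρ (h tw) v, X.hP.swap.pt, tf_smul_left]
    generalize ρ (h tw)⁻¹ v = v
    have h := X.hM.bs
    have h5 := four_five (k := k)
    rw [X.hy, X.hy, h.A_H, h.B_H, h.C_H]
    have h6 : (4 : k) ^ (5 + 4) = 4 ^ 4 := by rw [show 5 + 4 = 4 + 5 by norm_num, four_add]
    rw [h6]
    linear_combination (-(α * h.A 3 v + β * h.B 5 v + δ * h.C 1 v)) * h5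
  exact sub_eq_zero.1 (tf_nondeg fun v => by
    rw [sub_eq_add_neg, tf_add_left, ← neg_one_smul k ((4 : k) • y), tf_smul_left, h2]
    ring)

/-- **`x` has weight 14** -/
theorem Cx.xH (v : I27 → k) : ρ (h tw) (Dop (p 10) y v) = (4 : k) ^ 2 • Dop (p 10) y (ρ (h tw) v) := by
  rw [X.hP.dop, X.hM.Hp, X.yH, Dop_smul_left, Dop_smul_right, smul_smul, ← sq]

theorem Cx.p_ne : p 10 ≠ 0 := X.hM.p_ne

theorem Cx.x_ker {v : I27 → k} (hv : bF (p 10) v = 0) : Dop (p 10) y v = tf y v • p 10 := by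
  rw [Dop_apply, bF_zero.1 hv, cr_zero_right, sub_zero]

/-- **`x ≠ 0`** -/
theorem Cx.x_ne : Dop (p 10) y (γ • p 3 - β • r 5) ≠ 0 := by
  have h := X.hM.bs
  have h1 : bF (p 10) (γ • p 3 - β • r 5) = 0 := by
    refine X.hb.mem_ker h ?_ ?_ ?_ ?_ ?_ ?_ ?_ ?_ ?_ ?_
    · simp [h.A_p, h.A_r]
    · simp [h.B_p, h.B_r]
    · simp [h.B_p, h.B_r]
    · simp only [h.B_p, h.B_r, _root_.map_sub, _root_.map_smul, _root_.smul_eq_mul, _root_.MulZeroClass.mul_zero, _root_.Nat.reduceEqDiff, _root_.Nat.reduceLT, _root_.and_true, ↓ _root_.reduceIte, _root_.sub_self]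
    · rw [X.hb.v_r0 h]
      simp [h.A_p, h.A_r, h.B_p, h.B_r, h.C_p, h.C_r]
    · rw [X.hb.v_r1 h]
      simp only [h.A_p, h.A_r, h.B_p, h.B_r, h.C_p, h.C_r, _root_.map_sub, _root_.map_smul, _root_.Nat.reduceLT, _root_.and_self, ↓ _root_.reduceIte, _root_.smul_eq_mul, _root_.mul_one, _root_.MulZeroClass.mul_zero, _root_.sub_zero, _root_.zero_sub, _root_.mul_neg, _root_.sub_self, _root_.add_zero, _root_.neg_add_rev, _root_.neg_neg]
      ring
    · rw [X.hb.v_r2 h]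
      simp only [h.A_p, h.A_r, h.B_p, h.B_r, h.C_p, h.C_r, _root_.map_sub, _root_.map_smul, _root_.Nat.reduceEqDiff, _root_.Nat.reduceLT, _root_.and_true, ↓ _root_.reduceIte, _root_.smul_eq_mul, _root_.MulZeroClass.mul_zero, _root_.sub_self, _root_.add_zero]
    · rw [X.hb.v_p0 h]
      simp [h.A_p, h.A_r, h.B_p, h.B_r, h.C_p, h.C_r]
    · rw [X.hb.v_p1 h]
      simp [h.A_p, h.A_r, h.B_p, h.B_r, h.C_p, h.C_r]
    · rw [X.hb.v_r3 h]
      simp [h.A_p, h.A_r, h.B_p, h.B_r, h.C_p, h.C_r]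
  rw [X.x_ker h1, X.hy]
  intro h2
  have h3 := (smul_eq_zero.1 h2).resolve_right X.p_ne
  apply X.hΔ
  rw [← h3]
  simp [h.A_p, h.A_r, h.B_p, h.B_r, h.C_p, h.C_r]
  ring

theorem Cx.yp (n : ℕ) (hn : n ≠ 3) : tf y (p n) = 0 := by
  have h := X.hM.bs
  rw [X.hy, h.A_p, h.B_p, h.C_p, if_neg (by omega)]
  simp

theorem Cx.yr (n : ℕ) (hn : n ≠ 5) : tf y (r n) = 0 := by
  have h := X.hM.bs
  rw [X.hy, h.A_r, h.B_r, h.C_r, if_neg (by omega)]
  simp

theorem Cx.yc (n : ℕ) (hn : n ≠ 1) : tf y (c n) = 0 := by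
  have h := X.hM.bs
  rw [X.hy, h.A_c, h.B_c, h.C_c, if_neg (by omega)]
  simp

theorem Cx.xp {n : ℕ} (hn : 5 ≤ n) : Dop (p 10) y (p n) = 0 := by
  rw [X.x_ker, X.yp n (by omega), zero_smul]
  exact LinearMap.ext fun w => by rw [bF_comm, X.hb.v_p X.hM.bs w hn, LinearMap.zero_apply]

theorem Cx.xr {n : ℕ} (hn : 7 ≤ n) : Dop (p 10) y (r n) = 0 := by
  rw [X.x_ker, X.yr n (by omega), zero_smul]
  exact LinearMap.ext fun w => by rw [bF_comm, X.hb.v_r X.hM.bs w hn, LinearMap.zero_apply]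

theorem Cx.xc {n : ℕ} (hn : 3 ≤ n) : Dop (p 10) y (c n) = 0 := by
  rw [X.x_ker, X.yc n (by omega), zero_smul]
  exact LinearMap.ext fun w => by rw [bF_comm, X.hb.v_c X.hM.bs w hn, LinearMap.zero_apply]

theorem Cx.tfpy : tf (p 10) y = 0 := by rw [tf_comm, X.yp 10 (by norm_num)]

/-- `v₁₂ × (y × (v₁₂ × v)) = 0` -/
theorem Cx.pyp (v : I27 → k) : cr (p 10) (cr y (cr (p 10) v)) = 0 := by
  refine tf_nondeg fun w => ?_
  have h1 := Dop_cr (X.hM.white X.hP) w v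
  rw [Dop_apply, sub_eq_zero] at h1
  rw [cr_comm, tf_cr, tf_cr, ← tf_cr]
  rw [tf_cr, cr_comm (cr (p 10) v), ← h1, tf_smul_right, tf_comm y, X.tfpy, mul_zero]

/-- **`x² = 0`** -/
theorem Cx.xx (v : I27 → k) : Dop (p 10) y (Dop (p 10) y v) = 0 := by
  have h := X.hM.bs
  let φ : (I27 → k) →ₗ[k] k := bF (p 10) (sh y)
  have key : ∀ v, Dop (p 10) y (Dop (p 10) y v) = (-(2 * φ v)) • p 10 := by
    intro v
    rw [Dop_apply (p 10) y v, map_sub, map_smul, X.xp (by norm_num), smul_zero, zero_sub, Dop_apply, X.pyp, cr_zero_right,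
      sub_zero, ← neg_smul]
    congr 1
    rw [← tf_cr, cr_self, tf_smul_left, cr_comm (p 10) v, ← tf_cr, bF_comm]
    show -(2 * tf (cr (sh y) v) (p 10)) = -(2 * tf (cr (p 10) v) (sh y))
    rw [cr_comm (p 10) v, tf_cr, tf_comm (sh y)]
  have hN : ∀ v, φ (Nr ρ v) = 0 := by
    intro v
    have h1 := key (Nr ρ v)
    rw [X.xN, X.xN, key, map_smul, h.Np, h.zp, smul_zero] at h1
    have h2 := (smul_eq_zero.1 h1.symm).resolve_right X.p_ne
    rw [neg_eq_zero] at h2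
    exact (mul_eq_zero.1 h2).resolve_left two_ne
  have hH : ∀ v, φ (ρ (Cfsg.Agent.H943.SL2Rel.h tw) v) = 4 ^ 2 * φ v := by
    intro v
    have h1 := key (ρ (Cfsg.Agent.H943.SL2Rel.h tw) v)
    have h2 := congrArg (ρ (Cfsg.Agent.H943.SL2Rel.h tw)) (key v)
    rw [X.xH, X.xH, map_smul, h1, map_smul, X.hM.Hp, smul_smul, smul_smul, smul_smul] at h2
    have h3 := smul_left_injective k X.p_ne h2
    have h4 : (2 : k) * (4 ^ 4 * φ (ρ (Cfsg.Agent.H943.SL2Rel.h tw) v) - 4 * φ v) = 0 := by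
      linear_combination -h3
    have h5 := (mul_eq_zero.1 h4).resolve_left two_ne
    have h6 := four_five (k := k)
    linear_combination 4 * h5 - φ (ρ (Cfsg.Agent.H943.SL2Rel.h tw) v) * h6
  have hz : ∀ {x : I27 → k} {s : ℕ}, ρ (Cfsg.Agent.H943.SL2Rel.h tw) x = (4 : k) ^ s • x → s % 5 ≠ 2 → φ x = 0 := by
    intro x s hs h4
    have h1 := hH x
    rw [hs, map_smul, smul_eq_mul] at h1
    have h2 : ((4 : k) ^ s - 4 ^ 2) * φ x = 0 := by rw [sub_mul, h1, sub_self]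
    exact (mul_eq_zero.1 h2).resolve_left (sub_ne_zero.2 (four_ne h4))
  have h0 : φ = 0 := by
    refine h.ext (fun n => ?_) (fun n => ?_) fun n => ?_
    · rw [LinearMap.zero_apply]
      rcases n with _ | n
      · exact hz (h.Hp 0) (by norm_num)
      · rw [← h.Np]
        exact hN _
    · rw [LinearMap.zero_apply]
      rcases n with _ | n
      · exact hz (h.Hr 0) (by norm_num)
      · rw [← h.Nr]
        exact hN _
    · rw [LinearMap.zero_apply]
      rcases n with _ | n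
      · exact hz (h.Hc 0) (by norm_num)
      · rw [← h.Nc]
        exact hN _
  rw [key, h0, LinearMap.zero_apply, mul_zero, neg_zero, zero_smul]

/-- **uniqueness** -/
theorem Cx.uniq {b' : I27 → k} (hN : ∀ v, Dop (p 10) b' (Nr ρ v) = Nr ρ (Dop (p 10) b' v))
    (hH : ∀ v, ρ (h tw) (Dop (p 10) b' v) = (4 : k) ^ 2 • Dop (p 10) b' (ρ (h tw) v)) :
    ∃ d : k, ∀ v, Dop (p 10) b' v = d • Dop (p 10) y v := by
  have h := X.hM.bs
  have hk : ∀ v, bF (p 10) v = 0 → Dop (p 10) b' v = tf b' v • p 10 := by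
    intro v hv
    rw [Dop_apply, bF_zero.1 hv, cr_zero_right, sub_zero]
  have kN : ∀ v, bF (p 10) v = 0 → bF (p 10) (Nr ρ v) = 0 := by
    intro v hv
    rw [bF_zero] at hv ⊢
    rw [X.hM.crN X.hP, hv, map_zero]
  have kH : ∀ v, bF (p 10) v = 0 → bF (p 10) (ρ (Cfsg.Agent.H943.SL2Rel.h tw) v) = 0 := by
    intro v hv
    rw [bF_zero] at hv ⊢
    have h1 := X.hM.crH X.hP v
    rw [hv, map_zero] at h1
    exact (smul_eq_zero.1 h1.symm).resolve_left four_ne0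
  obtain ⟨d, hd⟩ := X.hb.uniq h X.hΔ (f := tfB k b') (by
    intro v hv
    have h1 := hN v
    rw [hk _ (kN v hv), hk _ hv, map_smul, h.Np, h.zp, smul_zero] at h1
    exact (smul_eq_zero.1 h1).resolve_right X.p_ne) (by
    intro v hv
    have h1 := hH v
    rw [hk _ (kH v hv), hk _ hv, map_smul, X.hM.Hp, smul_smul, smul_smul] at h1
    have h2 := smul_left_injective k X.p_ne h1
    have h6 := four_five (k := k)
    show tf b' (ρ (Cfsg.Agent.H943.SL2Rel.h tw) v) = 4 ^ 4 * tf b' v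
    have h7 : (4 : k) * (tf b' (ρ (Cfsg.Agent.H943.SL2Rel.h tw) v) - 4 ^ 4 * tf b' v) = 0 := by
      have h8 : (4 : k) * (4 * tf b' (ρ (Cfsg.Agent.H943.SL2Rel.h tw) v) - tf b' v) = 0 := by linear_combination -h2
      have h9 := (mul_eq_zero.1 h8).resolve_left four_ne0
      linear_combination h9 - tf b' v * h6
    exact sub_eq_zero.1 ((mul_eq_zero.1 h7).resolve_left four_ne0))
  refine ⟨d, fun v => ?_⟩
  obtain ⟨v0, hv0⟩ := exists_cr (P := p 10) (z := b' - d • y) (by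
    intro v hv
    have h1 := hd v (bF_zero.2 hv)
    rw [sub_eq_add_neg, tf_add_left, ← neg_one_smul k (d • y), tf_smul_left, tf_smul_left, X.hy]
    rw [tfB_apply] at h1
    rw [h1]
    ring)
  have h2 : b' = d • y + cr (p 10) v0 := by rw [← hv0]; abel
  rw [h2, Dop_add_right, Dop_cr (X.hM.white X.hP), add_zero, Dop_smul_right]

end cx

end Cfsg.Agent.R2.H14.E11
end

-- part: R2/H14/E11/Expl
section
/-!
# S5749, S5750, box E11: the coefficients of `x` (helper14)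
-/

set_option autoImplicit false
set_option linter.unusedSectionVars false
set_option linter.unusedSimpArgs false

namespace Cfsg.Agent.R2.H14.E11

open Module Matrix Cfsg.Lie Cfsg.Agent.H943.SL2Rel
open Cfsg.Agent.H952.F4 (sh cr tf)
open Cfsg.Agent.H952.F4.Jord
open Cfsg.Agent.R2.GEO (crB crB_apply tfB tfB_apply kr finrank_kr_white)
open Cfsg.Agent.R2.H9.E6 (Dop Dop_apply tf_zero_left tf_zero_right cr_zero_left cr_zero_right tf_Dop Dop_add_left
  Dop_add_right Dop_smul_left Dop_smul_right Dop_cr tf_sh_Dop')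

universe v w

section gen

variable {k : Type*} [Field k] [CharP k 11] {V : Type*} [AddCommGroup V] [Module k V] {N H W : V →ₗ[k] V} {p r c : ℕ → V}

theorem Bs.A_pow (h : Bs N H W p r c) (j : ℕ) {n : ℕ} (hn : n + j < 11) (v : V) : h.A (n + j) ((N ^ j) v) = h.A n v := by
  induction j generalizing v with
  | zero => rw [add_zero, pow_zero, Module.End.one_apply]
  | succ j ih => rw [pow_succ', Module.End.mul_apply, ← add_assoc, h.A_N (by omega), ih (by omega)]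

theorem Bs.B_pow (h : Bs N H W p r c) (j : ℕ) {n : ℕ} (hn : n + j < 11) (v : V) : h.B (n + j) ((N ^ j) v) = h.B n v := by
  induction j generalizing v with
  | zero => rw [add_zero, pow_zero, Module.End.one_apply]
  | succ j ih => rw [pow_succ', Module.End.mul_apply, ← add_assoc, h.B_N (by omega), ih (by omega)]

theorem pow_chain {q : ℕ → V} (hq : ∀ n, N (q n) = q (n + 1)) (j n : ℕ) : (N ^ j) (q n) = q (n + j) := by
  induction j generalizing n with
  | zero => rw [pow_zero, Module.End.one_apply, add_zero]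
  | succ j ih =>
    rw [pow_succ, Module.End.mul_apply, hq, ih]
    congr 1
    ring

theorem pow_comm {x : V →ₗ[k] V} (hx : ∀ v, x (N v) = N (x v)) (j : ℕ) (v : V) : x ((N ^ j) v) = (N ^ j) (x v) := by
  induction j generalizing v with
  | zero => rw [pow_zero, Module.End.one_apply, Module.End.one_apply]
  | succ j ih => rw [pow_succ, Module.End.mul_apply, Module.End.mul_apply, ih, hx]

end gen

variable {k : Type v} [Field k] [CharP k 11] {K : Type w} [Field K] [CharP K 11]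
variable {ι : K →+* k} {ρ ρ' : Representation k (_root_.Matrix.SpecialLinearGroup (Fin 2) K) (I27 → k)}
variable {F G : (I27 → k) →ₗ[k] (I27 → k)} {p r c : ℕ → I27 → k} {α β γ δ η : k} {y : I27 → k}

section cx

variable (X : Cx ι ρ ρ' F G p r c α β γ δ η y)
include X

theorem Cx.xpn (n : ℕ) : Dop (p 10) y (p n) = (Nr ρ ^ n) (Dop (p 10) y (p 0)) := by
  rw [← pow_comm X.xN, pow_chain X.hM.bs.Np, zero_add]

theorem Cx.xrn (n : ℕ) : Dop (p 10) y (r n) = (Nr ρ ^ n) (Dop (p 10) y (r 0)) := by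
  rw [← pow_comm X.xN, pow_chain X.hM.bs.Nr, zero_add]

theorem Cx.xcn (n : ℕ) : Dop (p 10) y (c n) = (Nr ρ ^ n) (Dop (p 10) y (c 0)) := by
  rw [← pow_comm X.xN, pow_chain X.hM.bs.Nc, zero_add]

/-- **the coefficients of `x`** -/
theorem Cx.expl : ∃ p1 p2 p5 q1 q2 q3 q4 s : k, Dop (p 10) y (p 0) = p1 • p 7 + p2 • r 9 + p5 • c 0 ∧
    Dop (p 10) y (r 0) = q1 • p 5 + q2 • r 7 + q3 • c 3 + q4 • p 10 ∧ Dop (p 10) y (c 0) = s • p 9 ∧ p5 * s = 0 := by
  have h := X.hM.bs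
  -- `x P₀`
  have hP : ρ (Cfsg.Agent.H943.SL2Rel.h tw) (Dop (p 10) y (p 0)) = (4 : k) ^ 3 • Dop (p 10) y (p 0) := by
    rw [X.xH, h.Hp, map_smul, smul_smul, ← pow_add]
  have hP5 : (Nr ρ ^ 5) (Dop (p 10) y (p 0)) = 0 := by rw [← X.xpn, X.xp le_rfl]
  have aP : ∀ n, n ≠ 7 → n < 11 → h.A n (Dop (p 10) y (p 0)) = 0 := by
    intro n hn hn'
    by_cases h3 : (n + 1) % 5 = 3
    · have h2 : n = 2 := by omega
      rw [h2, ← h.A_pow 5 (by norm_num), hP5, map_zero]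
    · exact h.A_eig hP h3
  have bP : ∀ n, n ≠ 9 → n < 11 → h.B n (Dop (p 10) y (p 0)) = 0 := by
    intro n hn hn'
    by_cases h3 : (n + 4) % 5 = 3
    · have h2 : n = 4 := by omega
      rw [h2, ← h.B_pow 5 (by norm_num), hP5, map_zero]
    · exact h.B_eig hP h3
  have cP : ∀ n, n ≠ 0 → n < 5 → h.C n (Dop (p 10) y (p 0)) = 0 := fun n hn hn' => h.C_eig hP (by omega)
  -- `x R₀`
  have hR : ρ (Cfsg.Agent.H943.SL2Rel.h tw) (Dop (p 10) y (r 0)) = (4 : k) ^ 6 • Dop (p 10) y (r 0) := by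
    rw [X.xH, h.Hr, map_smul, smul_smul, ← pow_add]
  have hR7 : (Nr ρ ^ 7) (Dop (p 10) y (r 0)) = 0 := by rw [← X.xrn, X.xr le_rfl]
  have aR : ∀ n, n ≠ 5 → n ≠ 10 → n < 11 → h.A n (Dop (p 10) y (r 0)) = 0 := by
    intro n hn hn1 hn'
    by_cases h3 : (n + 1) % 5 = 1
    · have h2 : n = 0 := by omega
      rw [h2, ← h.A_pow 7 (by norm_num), hR7, map_zero]
    · exact h.A_eig hR h3
  have bR : ∀ n, n ≠ 7 → n < 11 → h.B n (Dop (p 10) y (r 0)) = 0 := by
    intro n hn hn'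
    by_cases h3 : (n + 4) % 5 = 1
    · have h2 : n = 2 := by omega
      rw [h2, ← h.B_pow 7 (by norm_num), hR7, map_zero]
    · exact h.B_eig hR h3
  have cR : ∀ n, n ≠ 3 → n < 5 → h.C n (Dop (p 10) y (r 0)) = 0 := fun n hn hn' => h.C_eig hR (by omega)
  -- `x C₀`
  have hC : ρ (Cfsg.Agent.H943.SL2Rel.h tw) (Dop (p 10) y (c 0)) = (4 : k) ^ 5 • Dop (p 10) y (c 0) := by
    rw [X.xH, h.Hc, map_smul, smul_smul, ← pow_add]
  have hC3 : (Nr ρ ^ 3) (Dop (p 10) y (c 0)) = 0 := by rw [← X.xcn, X.xc le_rfl]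
  have aC : ∀ n, n ≠ 9 → n < 11 → h.A n (Dop (p 10) y (c 0)) = 0 := by
    intro n hn hn'
    by_cases h3 : (n + 1) % 5 = 0
    · have h2 : n = 4 := by omega
      rw [h2, ← h.A_pow 3 (by norm_num), hC3, map_zero]
    · exact h.A_eig hC h3
  have bC : ∀ n, n < 11 → h.B n (Dop (p 10) y (c 0)) = 0 := by
    intro n hn'
    by_cases h3 : (n + 4) % 5 = 0
    · have h2 : n = 1 ∨ n = 6 := by omega
      rcases h2 with h2 | h2
      · rw [h2, ← h.B_pow 3 (by norm_num), hC3, map_zero]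
      · rw [h2, ← h.B_pow 3 (by norm_num), hC3, map_zero]
    · exact h.B_eig hC h3
  have cC : ∀ n, n ≠ 2 → n < 5 → h.C n (Dop (p 10) y (c 0)) = 0 := fun n hn hn' => h.C_eig hC (by omega)
  have eP : Dop (p 10) y (p 0) = h.A 7 (Dop (p 10) y (p 0)) • p 7 + h.B 9 (Dop (p 10) y (p 0)) • r 9 +
      h.C 0 (Dop (p 10) y (p 0)) • c 0 := by
    conv_lhs => rw [h.expand (Dop (p 10) y (p 0))]
    rw [Finset.sum_eq_single 7 (fun n hn hn' => by rw [aP n hn' (Finset.mem_range.1 hn), zero_smul]) (by simp only [_root_.Finset.mem_range, _root_.Nat.reduceLT, _root_.not_true_eq_false, _root_.smul_eq_zero, _root_.IsEmpty.forall_iff]),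
      Finset.sum_eq_single 9 (fun n hn hn' => by rw [bP n hn' (Finset.mem_range.1 hn), zero_smul]) (by simp only [_root_.Finset.mem_range, _root_.Nat.reduceLT, _root_.not_true_eq_false, _root_.smul_eq_zero, _root_.IsEmpty.forall_iff]),
      Finset.sum_eq_single 0 (fun n hn hn' => by rw [cP n hn' (Finset.mem_range.1 hn), zero_smul]) (by simp only [_root_.Finset.mem_range, _root_.Nat.ofNat_pos, _root_.not_true_eq_false, _root_.smul_eq_zero, _root_.IsEmpty.forall_iff])]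
  have eR : Dop (p 10) y (r 0) = h.A 5 (Dop (p 10) y (r 0)) • p 5 + h.B 7 (Dop (p 10) y (r 0)) • r 7 +
      h.C 3 (Dop (p 10) y (r 0)) • c 3 + h.A 10 (Dop (p 10) y (r 0)) • p 10 := by
    conv_lhs => rw [h.expand (Dop (p 10) y (r 0))]
    rw [Finset.sum_range_succ, Finset.sum_eq_single 5 (fun n hn hn' => by
        have hn := Finset.mem_range.1 hn
        rw [aR n hn' (by omega) (by omega), zero_smul]) (by simp only [_root_.Finset.mem_range, _root_.Nat.reduceLT, _root_.not_true_eq_false, _root_.smul_eq_zero, _root_.IsEmpty.forall_iff]),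
      Finset.sum_eq_single 7 (fun n hn hn' => by rw [bR n hn' (Finset.mem_range.1 hn), zero_smul]) (by simp only [_root_.Finset.mem_range, _root_.Nat.reduceLT, _root_.not_true_eq_false, _root_.smul_eq_zero, _root_.IsEmpty.forall_iff]),
      Finset.sum_eq_single 3 (fun n hn hn' => by rw [cR n hn' (Finset.mem_range.1 hn), zero_smul]) (by simp only [_root_.Finset.mem_range, _root_.Nat.reduceLT, _root_.not_true_eq_false, _root_.smul_eq_zero, _root_.IsEmpty.forall_iff])]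
    abel
  have eC : Dop (p 10) y (c 0) = h.A 9 (Dop (p 10) y (c 0)) • p 9 + h.C 2 (Dop (p 10) y (c 0)) • c 2 := by
    conv_lhs => rw [h.expand (Dop (p 10) y (c 0))]
    rw [Finset.sum_eq_single 9 (fun n hn hn' => by rw [aC n hn' (Finset.mem_range.1 hn), zero_smul]) (by simp only [_root_.Finset.mem_range, _root_.Nat.reduceLT, _root_.not_true_eq_false, _root_.smul_eq_zero, _root_.IsEmpty.forall_iff]),
      Finset.sum_eq_zero (fun n hn => by rw [bC n (Finset.mem_range.1 hn), zero_smul]),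
      Finset.sum_eq_single 2 (fun n hn hn' => by rw [cC n hn' (Finset.mem_range.1 hn), zero_smul]) (by simp only [_root_.Finset.mem_range, _root_.Nat.reduceLT, _root_.not_true_eq_false, _root_.smul_eq_zero, _root_.IsEmpty.forall_iff]), add_zero]
  generalize h.A 7 (Dop (p 10) y (p 0)) = p1 at eP
  generalize h.B 9 (Dop (p 10) y (p 0)) = p2 at eP
  generalize h.C 0 (Dop (p 10) y (p 0)) = p5 at eP
  generalize h.A 5 (Dop (p 10) y (r 0)) = q1 at eR
  generalize h.B 7 (Dop (p 10) y (r 0)) = q2 at eR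
  generalize h.C 3 (Dop (p 10) y (r 0)) = q3 at eR
  generalize h.A 10 (Dop (p 10) y (r 0)) = q4 at eR
  generalize h.A 9 (Dop (p 10) y (c 0)) = s at eC
  generalize h.C 2 (Dop (p 10) y (c 0)) = s' at eC
  have hc2 : Dop (p 10) y (c 2) = s' • c 4 := by
    rw [X.xcn, eC, map_add, map_smul, map_smul, pow_chain h.Np, pow_chain h.Nc, h.zp, smul_zero, zero_add]
  have hs' : s' = 0 := by
    have h1 := X.xx (c 0)
    rw [eC, map_add, map_smul, map_smul, X.xp (by norm_num), smul_zero, zero_add, hc2, smul_smul] at h1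
    have h2 := congrArg (h.C 4) h1
    rw [map_smul, h.C_c, if_pos (by norm_num), map_zero, smul_eq_mul, mul_one] at h2
    exact mul_self_eq_zero.1 h2
  rw [hs', zero_smul, add_zero] at eC
  refine ⟨p1, p2, p5, q1, q2, q3, q4, s, eP, eR, eC, ?_⟩
  have h1 := X.xx (p 0)
  rw [eP, map_add, map_add, map_smul, map_smul, map_smul, X.xp (by norm_num), X.xr (by norm_num), smul_zero, smul_zero,
    zero_add, zero_add, eC, smul_smul] at h1
  have h2 := congrArg (h.A 9) h1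
  rw [map_smul, h.A_p, if_pos (by norm_num), map_zero, smul_eq_mul, mul_one] at h2
  exact h2

theorem Cx.tw3 (v z : I27 → k) : 10 * tf (cr (r 0) (ρ Cfsg.Agent.H943.SL2Rel.w v)) (ρ Cfsg.Agent.H943.SL2Rel.w z) =
    bF (p 10) v z := by
  rw [bF_apply, ← X.hP.swap.pt Cfsg.Agent.H943.SL2Rel.w (cr (p 10) v) z, ← X.hP.pc, X.hM.bs.Wp10, cr_smul_left, tf_smul_left]

/-- **`q₄ = 0`** -/
theorem Cx.q4 {q1 q2 q3 q4 : k} (hq : Dop (p 10) y (r 0) = q1 • p 5 + q2 • r 7 + q3 • c 3 + q4 • p 10) : q4 = 0 := by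
  have h := X.hM.bs
  have e := e11 k
  have hne : NeZero (2 : k) := ⟨two_ne⟩
  have hsh : sh (r 0) = 0 := by
    have h1 := X.hP.pc Cfsg.Agent.H943.SL2Rel.w (p 10) (p 10)
    rw [cr_self (p 10), X.hM.white X.hP, smul_zero, map_zero, h.Wp10, cr_smul_left, cr_smul_right, smul_smul, cr_self,
      smul_smul] at h1
    refine (smul_eq_zero.1 h1).resolve_left ?_
    have h2 := ne_of (k := k) 200 (by decide)
    intro h3
    apply h2
    push_cast
    linear_combination h3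
  have key : ∀ v, tf (cr (r 0) v) (Dop (p 10) y (r 0)) = 0 := by
    intro v
    have h1 := tf_sh_Dop' X.tfpy (r 0) v
    rwa [hsh, tf_zero_left, zero_add] at h1
  have hz : Dop (p 10) y (r 0) = ρ Cfsg.Agent.H943.SL2Rel.w (q1 • ((2 : k) • p 3 + (9 : k) • r 5) + (2 * q2) • r 5 +
      (5 * q3) • c 1 + (10 * q4) • r 0) := by
    rw [hq]
    simp only [map_add, map_smul, h.Wp3, h.Wr5, h.Wc1, h.Wr0, smul_add, smul_smul]
    have e1 : (q1 * 2 * 6 : k) = q1 := by linear_combination q1 * e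
    have e2 : (2 * q2 * 6 : k) = q2 := by linear_combination q2 * e
    have e3 : (5 * q3 * 9 : k) = q3 := by linear_combination 4 * q3 * e
    have e4 : (10 * q4 * 10 : k) = q4 := by linear_combination 9 * q4 * e
    have e5 : (q1 * 9 * 6 : k) = -q1 := by linear_combination 5 * q1 * e
    rw [e1, e2, e3, e4, e5]
    module
  have h4 : q4 * bF (p 10) (p 4) (r 0) = 0 := by
    have h1 := X.tw3 (p 4) (q1 • ((2 : k) • p 3 + (9 : k) • r 5) + (2 * q2) • r 5 + (5 * q3) • c 1 + (10 * q4) • r 0)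
    rw [← hz, h.Wp4, key, mul_zero] at h1
    simp only [map_add, map_smul, smul_eq_mul] at h1
    rw [X.hb.pp, X.hb.pr0, X.hb.pc, if_neg (by norm_num), if_neg (by norm_num), if_neg (by norm_num)] at h1
    linear_combination h1 + q4 * bF (p 10) (p 4) (r 0) * e
  have h6 : q4 * bF (p 10) (r 6) (r 0) = 0 := by
    have h1 := X.tw3 (r 6) (q1 • ((2 : k) • p 3 + (9 : k) • r 5) + (2 * q2) • r 5 + (5 * q3) • c 1 + (10 * q4) • r 0)
    rw [← hz, h.Wr6, key, mul_zero] at h1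
    simp only [map_add, map_smul, smul_eq_mul] at h1
    rw [X.hb.rp0, X.hb.rr 6 5, X.hb.rc, if_neg (by norm_num), if_neg (by norm_num), if_neg (by norm_num)] at h1
    linear_combination h1 + q4 * bF (p 10) (r 6) (r 0) * e
  rw [X.hb.pr0, if_pos (by norm_num)] at h4
  rw [X.hb.rr, if_pos (by norm_num)] at h6
  by_contra hq4
  have h7 := (mul_eq_zero.1 h4).resolve_left hq4
  have h8 := (mul_eq_zero.1 h6).resolve_left hq4
  apply X.hΔ
  have h9 : β = 0 := by linear_combination h7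
  have h10 : γ = 0 := by linear_combination h8
  rw [h9, h10]
  ring

end cx

end Cfsg.Agent.R2.H14.E11
end

-- part: R2/H14/E11/Sub
section
/-!
# S5749, S5750, box E11: the submodules `C`, `Y`, `Y₁` (helper14)

* `St N H W Z` : `Z` is stable; `Bs.dich` : `r 10 ∈ Z` or `c 4 ∈ Z`;
* `spC`, `spY`, `spL` : the subspaces of dimension 5, 22, 18; `eq_spC`, `eq_spY`, `eq_spL`.
-/

set_option autoImplicit false
set_option linter.unusedSectionVars false
set_option linter.unusedSimpArgs false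

namespace Cfsg.Agent.R2.H14.E11

open Module

variable {k : Type*} [Field k] [CharP k 11] {V : Type*} [AddCommGroup V] [Module k V]

/-- stability -/
structure St (N H W : V →ₗ[k] V) (Z : Submodule k V) : Prop where
  N : ∀ v ∈ Z, N v ∈ Z
  H : ∀ v ∈ Z, H v ∈ Z
  W : ∀ v ∈ Z, W v ∈ Z

variable {N H W : V →ₗ[k] V} {p r c : ℕ → V} {Z : Submodule k V}

theorem St.pow (hZ : St N H W Z) (j : ℕ) {v : V} (hv : v ∈ Z) : (N ^ j) v ∈ Z := by
  induction j generalizing v with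
  | zero => exact hv
  | succ j ih =>
    rw [pow_succ, Module.End.mul_apply]
    exact ih (hZ.N _ hv)

theorem St.powH (hZ : St N H W Z) (j : ℕ) {v : V} (hv : v ∈ Z) : (H ^ j) v ∈ Z := by
  induction j generalizing v with
  | zero => exact hv
  | succ j ih =>
    rw [pow_succ, Module.End.mul_apply]
    exact ih (hZ.H _ hv)

theorem St.chain (hZ : St N H W Z) {q : ℕ → V} (hq : ∀ n, N (q n) = q (n + 1)) {m n : ℕ} (hm : q m ∈ Z) (hmn : m ≤ n) :
    q n ∈ Z := by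
  obtain ⟨d, rfl⟩ := Nat.exists_eq_add_of_le hmn
  rw [← pow_chain hq]
  exact hZ.pow d hm

/-- the projection on the eigenspace of `4 ^ s` -/
def pj (H : V →ₗ[k] V) (s : ℕ) : V →ₗ[k] V := ∑ j ∈ Finset.range 5, ((4 : k) ^ (4 * s * j)) • H ^ j

theorem pj_apply (s : ℕ) (v : V) : pj H s v = ∑ j ∈ Finset.range 5, ((4 : k) ^ (4 * s * j)) • (H ^ j) v := by
  unfold pj
  rw [LinearMap.sum_apply]
  rfl

theorem St.pj (hZ : St N H W Z) (s : ℕ) {v : V} (hv : v ∈ Z) : pj H s v ∈ Z := by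
  rw [pj_apply]
  exact Submodule.sum_mem _ fun j _ => Submodule.smul_mem _ _ (hZ.powH j hv)

theorem H_pow {i : ℕ} {v : V} (hv : H v = (4 : k) ^ i • v) (j : ℕ) : (H ^ j) v = (4 : k) ^ (i * j) • v := by
  induction j with
  | zero => simp
  | succ j ih =>
    rw [pow_succ', Module.End.mul_apply, ih, map_smul, hv, smul_smul, ← pow_add, mul_add, mul_one]

/-- geometric sums -/
theorem geo (i : ℕ) : ∑ j ∈ Finset.range 5, (4 : k) ^ (i * j) = if i % 5 = 0 then 5 else 0 := by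
  have h1 : ∀ j, (4 : k) ^ (i * j) = ((4 : k) ^ (i % 5)) ^ j := fun j => by rw [pow_mul, ← four_mod]
  rw [Finset.sum_congr rfl fun j _ => h1 j]
  have hi := Nat.mod_lt i (show 0 < 5 by norm_num)
  have e := e11 k
  generalize i % 5 = i at *
  interval_cases i
  · simp
  all_goals
    rw [if_neg (by norm_num)]
    simp only [Finset.sum_range_succ, Finset.sum_range_zero]
  · linear_combination 31 * e
  · linear_combination 6355 * e
  · linear_combination 1549411 * e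
  · linear_combination 391982755 * e

theorem pj_eig {i : ℕ} {v : V} (hv : H v = (4 : k) ^ i • v) (s : ℕ) :
    pj H s v = (if i % 5 = s % 5 then (5 : k) else 0) • v := by
  rw [pj_apply]
  have h1 : ∀ j ∈ Finset.range 5, ((4 : k) ^ (4 * s * j)) • (H ^ j) v = ((4 : k) ^ ((4 * s + i) * j)) • v := by
    intro j _
    rw [H_pow hv, smul_smul, ← pow_add, add_mul]
  rw [Finset.sum_congr rfl h1, ← Finset.sum_smul, geo]
  by_cases h : i % 5 = s % 5
  · rw [if_pos h, if_pos (by omega)]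
  · rw [if_neg h, if_neg (by omega)]

theorem five_ne : (5 : k) ≠ 0 := by exact_mod_cast ne_of (k := k) 5 (by decide)

theorem pj_p (h : Bs N H W p r c) (s n : ℕ) : pj H s (p n) = (if (n + 1) % 5 = s % 5 then (5 : k) else 0) • p n :=
  pj_eig (h.Hp n) s

theorem pj_r (h : Bs N H W p r c) (s n : ℕ) : pj H s (r n) = (if (n + 4) % 5 = s % 5 then (5 : k) else 0) • r n :=
  pj_eig (h.Hr n) s

theorem pj_c (h : Bs N H W p r c) (s n : ℕ) : pj H s (c n) = (if (n + 3) % 5 = s % 5 then (5 : k) else 0) • c n :=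
  pj_eig (h.Hc n) s

theorem Bs.p0_r (h : Bs N H W p r c) (hZ : St N H W Z) (h10 : p 10 ∈ Z) : ∀ n, r n ∈ Z := by
  have h1 := hZ.W _ h10
  rw [h.Wp10] at h1
  have h2 : r 0 ∈ Z := (Submodule.smul_mem_iff _ (by exact_mod_cast ne_of (k := k) 10 (by decide))).1 h1
  exact fun n => hZ.chain h.Nr h2 (Nat.zero_le n)

/-- **every nonzero submodule contains `r 10` or `c 4`** -/
theorem Bs.dich (h : Bs N H W p r c) (hZ : St N H W Z) {v : V} (hv : v ∈ Z) (hv0 : v ≠ 0) : r 10 ∈ Z ∨ c 4 ∈ Z := by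
  have hnil : (N ^ 11) v = 0 := by
    have h1 : N ^ 11 = 0 := by
      refine h.ext (fun n => ?_) (fun n => ?_) fun n => ?_
      · rw [pow_chain h.Np, h.p0 (by omega), LinearMap.zero_apply]
      · rw [pow_chain h.Nr, h.r0 (by omega), LinearMap.zero_apply]
      · rw [pow_chain h.Nc, h.c0 (by omega), LinearMap.zero_apply]
    rw [h1, LinearMap.zero_apply]
  obtain ⟨w, hw, hw0, hNw⟩ : ∃ w ∈ Z, w ≠ 0 ∧ N w = 0 := by
    classical
    have hex : ∃ j, (N ^ j) v = 0 := ⟨11, hnil⟩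
    have h1 := Nat.find_spec hex
    have h2 : Nat.find hex ≠ 0 := by
      intro h0
      rw [h0, pow_zero, Module.End.one_apply] at h1
      exact hv0 h1
    obtain ⟨m, hm⟩ := Nat.exists_eq_succ_of_ne_zero h2
    refine ⟨(N ^ m) v, hZ.pow m hv, Nat.find_min hex (by omega), ?_⟩
    rw [hm, Nat.succ_eq_add_one, pow_succ', Module.End.mul_apply] at h1
    exact h1
  have h3 := h.ker_N hNw
  have e1 := hZ.pj 1 hw
  have e2 := hZ.pj 4 hw
  have e3 := hZ.pj 2 hw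
  rw [h3] at e1 e2 e3
  simp only [map_add, map_smul, pj_p h, pj_r h, pj_c h] at e1 e2 e3
  norm_num only [_root_.ite_true, _root_.ite_false, _root_.zero_smul, _root_.smul_zero, _root_.add_zero, _root_.zero_add] at e1 e2 e3
  by_cases hA : h.A 10 w = 0
  · by_cases hB : h.B 10 w = 0
    · right
      have hC : h.C 4 w ≠ 0 := by
        intro hC
        rw [hA, hB, hC, zero_smul, zero_smul, zero_smul, zero_add, zero_add] at h3
        exact hw0 h3
      exact (Submodule.smul_mem_iff _ five_ne).1 ((Submodule.smul_mem_iff _ hC).1 e3)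
    · left
      exact (Submodule.smul_mem_iff _ five_ne).1 ((Submodule.smul_mem_iff _ hB).1 e2)
  · left
    exact h.p0_r hZ ((Submodule.smul_mem_iff _ five_ne).1 ((Submodule.smul_mem_iff _ hA).1 e1)) 10

theorem Bs.c4 (h : Bs N H W p r c) (hZ : St N H W Z) (h4 : c 4 ∈ Z) (n : ℕ) : c n ∈ Z := by
  have h1 := hZ.W _ h4
  rw [h.Wc4] at h1
  exact hZ.chain h.Nc ((Submodule.smul_mem_iff _ two_ne).1 h1) (Nat.zero_le n)

theorem Bs.r10 (h : Bs N H W p r c) (hZ : St N H W Z) (h10 : r 10 ∈ Z) {n : ℕ} (hn : 3 ≤ n) : r n ∈ Z := by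
  have h1 := hZ.N _ (hZ.W _ h10)
  rw [h.Wr10, map_add, map_smul, map_smul, h.Np, h.Nr, h.zp, smul_zero, zero_add] at h1
  exact hZ.chain h.Nr ((Submodule.smul_mem_iff _ five_ne).1 h1) hn

/-- **a submodule with a vector outside of `A = 0`** -/
theorem Bs.top (h : Bs N H W p r c) (hZ : St N H W Z) {v : V} (hv : v ∈ Z) {m : ℕ} (hm : m ≤ 8) (hA : h.A m v ≠ 0) :
    (∀ n, p n ∈ Z) ∧ ∀ n, r n ∈ Z := by
  classical
  have hex : ∃ m, h.A m v ≠ 0 := ⟨m, hA⟩
  obtain ⟨m, hmin⟩ : ∃ m, m = Nat.find hex := ⟨_, rfl⟩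
  have hm8 : m ≤ 8 := by
    rw [hmin]
    exact (Nat.find_min' hex hA).trans hm
  have hA1 : h.A m v ≠ 0 := by
    rw [hmin]
    exact Nat.find_spec hex
  have hA2 : ∀ j < m, h.A j v = 0 := by
    intro j hj
    rw [hmin] at hj
    by_contra h0
    exact Nat.find_min hex hj h0
  -- shift
  obtain ⟨w, hw, hw8, hw3⟩ : ∃ w ∈ Z, h.A 8 w ≠ 0 ∧ h.A 3 w = 0 := by
    refine ⟨(N ^ (8 - m)) v, hZ.pow _ hv, ?_, ?_⟩
    · have h1 := h.A_pow (8 - m) (n := m) (by omega) v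
      rw [show m + (8 - m) = 8 by omega] at h1
      rw [h1]
      exact hA1
    · by_cases h3 : 8 - m ≤ 3
      · have h1 := h.A_pow (8 - m) (n := 3 - (8 - m)) (by omega) v
        rw [show 3 - (8 - m) + (8 - m) = 3 by omega] at h1
        rw [h1]
        exact hA2 _ (by omega)
      · -- the coordinate vanishes
        have h1 : ∀ u : V, h.A 3 ((N ^ (8 - m)) u) = 0 := by
          have h2 : (h.A 3).comp (N ^ (8 - m)) = 0 := by
            refine h.ext (fun n => ?_) (fun n => ?_) fun n => ?_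
            · rw [LinearMap.comp_apply, pow_chain h.Np, h.A_p, if_neg (by omega), LinearMap.zero_apply]
            · rw [LinearMap.comp_apply, pow_chain h.Nr, h.A_r, LinearMap.zero_apply]
            · rw [LinearMap.comp_apply, pow_chain h.Nc, h.A_c, LinearMap.zero_apply]
          exact fun u => LinearMap.congr_fun h2 u
        exact h1 v
  -- projection
  have e1 := hZ.pj 4 hw
  have e2 : pj H 4 w = (5 * h.A 8 w) • p 8 + (5 * h.B 0 w) • r 0 + (5 * h.B 5 w) • r 5 + (5 * h.B 10 w) • r 10 +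
      (5 * h.C 1 w) • c 1 := by
    conv_lhs => rw [h.expand w]
    simp only [Finset.sum_range_succ, Finset.sum_range_zero, zero_add, map_add, map_smul, pj_p h, pj_r h, pj_c h, hw3]
    norm_num only [_root_.ite_false, _root_.zero_smul, _root_.smul_zero, _root_.add_zero, _root_.ite_true, _root_.zero_add]
    module
  rw [e2] at e1
  have e3 := hZ.W _ e1
  simp only [map_add, map_smul, h.Wp8, h.Wr0, h.Wr5, h.Wr10, h.Wc1] at e3
  have p10 : p 10 ∈ Z := by
    have e4 := hZ.pow 10 e3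
    simp only [map_add, map_smul, pow_chain h.Np, pow_chain h.Nr, pow_chain h.Nc] at e4
    rw [h.p0 (n := 10 + 10) (by norm_num), h.r0 (n := 2 + 10) (by norm_num), h.r0 (n := 7 + 10) (by norm_num),
      h.c0 (n := 3 + 10) (by norm_num)] at e4
    simp only [smul_zero, add_zero, zero_add] at e4
    exact (Submodule.smul_mem_iff _ five_ne).1 ((Submodule.smul_mem_iff _ (mul_ne_zero five_ne hw8)).1 e4)
  have hr := h.p0_r hZ p10
  have p9 : p 9 ∈ Z := by
    have e4 := hZ.pow 9 e3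
    simp only [map_add, map_smul, pow_chain h.Np, pow_chain h.Nr, pow_chain h.Nc] at e4
    rw [h.p0 (n := 10 + 9) (by norm_num), h.r0 (n := 2 + 9) (by norm_num), h.r0 (n := 7 + 9) (by norm_num),
      h.c0 (n := 3 + 9) (by norm_num)] at e4
    simp only [smul_zero, add_zero, zero_add] at e4
    exact (Submodule.smul_mem_iff _ five_ne).1 ((Submodule.smul_mem_iff _ (mul_ne_zero five_ne hw8)).1 e4)
  have p8 : p 8 ∈ Z := by
    have e4 := hZ.pow 8 e3
    simp only [map_add, map_smul, pow_chain h.Np, pow_chain h.Nr, pow_chain h.Nc] at e4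
    rw [h.p0 (n := 10 + 8) (by norm_num), h.r0 (n := 7 + 8) (by norm_num), h.c0 (n := 3 + 8) (by norm_num)] at e4
    simp only [smul_zero, add_zero, zero_add] at e4
    have e5 : (5 * h.A 8 w) • ((5 : k) • p 8) ∈ Z := by
      have e6 : (5 * h.A 8 w) • ((5 : k) • p 8) = ((5 * h.A 8 w) • ((5 : k) • p 8 + (9 : k) • r (2 + 8)) +
          (5 * h.B 10 w) • (5 : k) • r (2 + 8)) - ((5 * h.A 8 w) • (9 : k) • r (2 + 8) +
          (5 * h.B 10 w) • (5 : k) • r (2 + 8)) := by module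
      rw [e6]
      exact Submodule.sub_mem _ e4 (Submodule.add_mem _ (Submodule.smul_mem _ _ (Submodule.smul_mem _ _ (hr _)))
        (Submodule.smul_mem _ _ (Submodule.smul_mem _ _ (hr _))))
    exact (Submodule.smul_mem_iff _ five_ne).1 ((Submodule.smul_mem_iff _ (mul_ne_zero five_ne hw8)).1 e5)
  have p0 : p 0 ∈ Z := by
    have e4 := hZ.W _ p8
    rw [h.Wp8] at e4
    have e5 : (5 : k) • p 0 ∈ Z := by
      have e6 : (5 : k) • p 0 = ((5 : k) • p 0 + (7 : k) • p 10 + (9 : k) • r 2) - ((7 : k) • p 10 + (9 : k) • r 2) := by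
        module
      rw [e6]
      exact Submodule.sub_mem _ e4 (Submodule.add_mem _ (Submodule.smul_mem _ _ p10) (Submodule.smul_mem _ _ (hr 2)))
    exact (Submodule.smul_mem_iff _ five_ne).1 e5
  exact ⟨fun n => hZ.chain h.Np p0 (Nat.zero_le n), hr⟩

/-! ### the three submodules -/

/-- the span of the `c n` -/
def spC (_h : Bs N H W p r c) : Submodule k V := Submodule.span k (Set.range fun i : Fin 5 => c i)

/-- the span of the `p n` and the `r n` -/
def spY (_h : Bs N H W p r c) : Submodule k V :=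
  Submodule.span k (Set.range (Sum.elim (fun i : Fin 11 => p i) fun i : Fin 11 => r i))

/-- the vectors with `A n = 0`, `n ≤ 8` -/
noncomputable def spL (h : Bs N H W p r c) : Submodule k V := ⨅ n : Fin 9, LinearMap.ker (h.A n)

theorem mem_spL {h : Bs N H W p r c} {v : V} : v ∈ spL h ↔ ∀ n < 9, h.A n v = 0 := by
  unfold spL
  rw [Submodule.mem_iInf]
  exact ⟨fun h1 n hn => h1 ⟨n, hn⟩, fun h1 n => h1 n n.2⟩

theorem c_mem_spC (h : Bs N H W p r c) (n : ℕ) : c n ∈ spC h := by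
  by_cases hn : n < 5
  · exact Submodule.subset_span ⟨⟨n, hn⟩, rfl⟩
  · rw [h.c0 (by omega)]
    exact Submodule.zero_mem _

theorem p_mem_spY (h : Bs N H W p r c) (n : ℕ) : p n ∈ spY h := by
  by_cases hn : n < 11
  · exact Submodule.subset_span ⟨Sum.inl ⟨n, hn⟩, rfl⟩
  · rw [h.p0 (by omega)]
    exact Submodule.zero_mem _

theorem r_mem_spY (h : Bs N H W p r c) (n : ℕ) : r n ∈ spY h := by
  by_cases hn : n < 11
  · exact Submodule.subset_span ⟨Sum.inr ⟨n, hn⟩, rfl⟩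
  · rw [h.r0 (by omega)]
    exact Submodule.zero_mem _

theorem finrank_spC (h : Bs N H W p r c) : finrank k (spC h) = 5 := by
  have h1 : LinearIndependent k fun i : Fin 5 => c i :=
    (fam_li h).comp (fun i => Sum.inr (Sum.inr i)) fun i j hij => by simpa using hij
  unfold spC
  rw [finrank_span_eq_card h1, Fintype.card_fin]

theorem finrank_spY (h : Bs N H W p r c) : finrank k (spY h) = 22 := by
  have h1 : LinearIndependent k (Sum.elim (fun i : Fin 11 => p i) fun i : Fin 11 => r i) := by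
    have h2 := (fam_li h).comp (Sum.elim (fun i : Fin 11 => (Sum.inl i : Fin 11 ⊕ Fin 11 ⊕ Fin 5))
      fun i : Fin 11 => Sum.inr (Sum.inl i)) (by rintro (i | i) (j | j) hij <;> simpa using hij)
    convert h2 using 1
    ext i
    rcases i with i | i <;> rfl
  unfold spY
  rw [finrank_span_eq_card h1]
  simp

theorem finite_bs (h : Bs N H W p r c) : Module.Finite k V := Module.Finite.of_basis h.bas

theorem finrank_spL_le (h : Bs N H W p r c) : finrank k (spL h) ≤ 18 := by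
  have := finite_bs h
  have h1 : spL h ≤ Submodule.span k (Set.range (Sum.elim (fun i : Fin 2 => p (9 + i)) (Sum.elim (fun i : Fin 11 => r i)
      fun i : Fin 5 => c i))) := by
    intro v hv
    rw [mem_spL] at hv
    rw [h.expand v]
    refine Submodule.add_mem _ (Submodule.add_mem _ ?_ ?_) ?_
    · refine Submodule.sum_mem _ fun n hn => ?_
      rw [Finset.mem_range] at hn
      by_cases h9 : n < 9
      · rw [hv n h9, zero_smul]
        exact Submodule.zero_mem _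
      · refine Submodule.smul_mem _ _ (Submodule.subset_span ⟨Sum.inl ⟨n - 9, by omega⟩, ?_⟩)
        show p (9 + (n - 9)) = p n
        rw [show 9 + (n - 9) = n by omega]
    · exact Submodule.sum_mem _ fun n hn => Submodule.smul_mem _ _ (Submodule.subset_span
        ⟨Sum.inr (Sum.inl ⟨n, Finset.mem_range.1 hn⟩), rfl⟩)
    · exact Submodule.sum_mem _ fun n hn => Submodule.smul_mem _ _ (Submodule.subset_span
        ⟨Sum.inr (Sum.inr ⟨n, Finset.mem_range.1 hn⟩), rfl⟩)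
  refine (Submodule.finrank_mono h1).trans ((finrank_range_le_card _).trans ?_)
  simp

theorem finrank_spL_ge (h : Bs N H W p r c) : 18 ≤ finrank k (spL h) := by
  have := finite_bs h
  have h1 : LinearIndependent k (Sum.elim (fun i : Fin 2 => p (9 + i)) (Sum.elim (fun i : Fin 11 => r i)
      fun i : Fin 5 => c i)) := by
    have h2 := (fam_li h).comp (Sum.elim (fun i : Fin 2 => (Sum.inl ⟨9 + i, by omega⟩ : Fin 11 ⊕ Fin 11 ⊕ Fin 5))
      (fun i : Fin 11 ⊕ Fin 5 => Sum.inr i)) (by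
        rintro (i | i) (j | j) hij
        · simp at hij
          rw [Fin.ext hij]
        · simp at hij
        · simp at hij
        · simpa using hij)
    convert h2 using 1
    ext i
    rcases i with i | i | i <;> rfl
  have h2 := (finrank_span_eq_card h1)
  simp only [Fintype.card_sum, Fintype.card_fin] at h2
  rw [show (2 + (11 + 5) : ℕ) = 18 by norm_num] at h2
  rw [← h2]
  refine Submodule.finrank_mono (Submodule.span_le.2 ?_)
  rintro _ ⟨i, rfl⟩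
  rw [SetLike.mem_coe, mem_spL]
  intro n hn
  rcases i with i | i | i
  · show h.A n (p (9 + i)) = 0
    rw [h.A_p, if_neg (by omega)]
  · exact h.A_r _ _
  · exact h.A_c _ _

theorem finrank_spL (h : Bs N H W p r c) : finrank k (spL h) = 18 := le_antisymm (finrank_spL_le h) (finrank_spL_ge h)

/-- **the submodule of dimension 5** -/
theorem eq_spC (h : Bs N H W p r c) (hZ : St N H W Z) (hd : finrank k Z = 5) : Z = spC h := by
  have := finite_bs h
  obtain ⟨v, hv, hv0⟩ : ∃ v ∈ Z, v ≠ 0 := by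
    by_contra hno
    push Not at hno
    rw [(Submodule.eq_bot_iff Z).2 hno, finrank_bot] at hd
    norm_num at hd
  rcases h.dich hZ hv hv0 with h1 | h1
  · exfalso
    have h2 : LinearIndependent k fun i : Fin 8 => r (3 + i) := by
      have h3 := (fam_li h).comp (fun i : Fin 8 => (Sum.inr (Sum.inl ⟨3 + i, by omega⟩) : Fin 11 ⊕ Fin 11 ⊕ Fin 5))
        fun i j hij => by
          simp at hij
          exact Fin.ext hij
      exact h3
    have h3 := finrank_span_eq_card h2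
    rw [Fintype.card_fin] at h3
    have h4 : Submodule.span k (Set.range fun i : Fin 8 => r (3 + i)) ≤ Z := by
      rw [Submodule.span_le]
      rintro _ ⟨i, rfl⟩
      exact h.r10 hZ h1 (by omega)
    have h5 := Submodule.finrank_mono h4
    omega
  · refine (Submodule.eq_of_le_of_finrank_eq ?_ ?_).symm
    · unfold spC
      rw [Submodule.span_le]
      rintro _ ⟨i, rfl⟩
      exact h.c4 hZ h1 i
    · rw [finrank_spC, hd]

theorem spY_le (h : Bs N H W p r c) (h1 : (∀ n, p n ∈ Z) ∧ ∀ n, r n ∈ Z) : spY h ≤ Z := by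
  unfold spY
  rw [Submodule.span_le]
  rintro _ ⟨i, rfl⟩
  rcases i with i | i
  · exact h1.1 _
  · exact h1.2 _

/-- **the submodule of dimension 22** -/
theorem eq_spY (h : Bs N H W p r c) (hZ : St N H W Z) (hd : finrank k Z = 22) : Z = spY h := by
  have := finite_bs h
  by_cases hL : Z ≤ spL h
  · have h1 := Submodule.finrank_mono hL
    rw [finrank_spL, hd] at h1
    norm_num at h1
  · rw [SetLike.not_le_iff_exists] at hL
    obtain ⟨v, hv, hv'⟩ := hL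
    rw [mem_spL] at hv'
    push Not at hv'
    obtain ⟨n, hn, hA⟩ := hv'
    exact (Submodule.eq_of_le_of_finrank_eq (spY_le h (h.top hZ hv (by omega) hA)) (by rw [finrank_spY, hd])).symm

/-- **the submodule of dimension 18** -/
theorem eq_spL (h : Bs N H W p r c) (hZ : St N H W Z) (hd : finrank k Z = 18) : Z = spL h := by
  have := finite_bs h
  refine Submodule.eq_of_le_of_finrank_eq ?_ (by rw [finrank_spL, hd])
  intro v hv
  rw [mem_spL]
  intro n hn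
  by_contra hA
  have h1 := Submodule.finrank_mono (spY_le h (h.top hZ hv (m := n) (by omega) hA))
  rw [finrank_spY, hd] at h1
  norm_num at h1

end Cfsg.Agent.R2.H14.E11
end

private theorem dce_30e373b2d431 : _root_.True := by
  try have : _root_.True := by simp only [_root_.Cfsg.Agent.R2.H14.E11.tw.congr_simp]
  exact _root_.True.intro
end
end
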